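import Mathlib.AlgebraicGeometry.Sites.Fpqc
import Mathlib.AlgebraicGeometry.Morphisms.Etale
import Mathlib.CategoryTheory.Monoidal.Cartesian.Over
import Mathlib.AlgebraicGeometry.Limits

/-!
# Gluing morphisms along jointly surjective flat families
-/

set_option autoImplicit false

universe u v

open CategoryTheory AlgebraicGeometry Opposite

namespace Groth.Agent.Sga3B.Par.EtGlue

variable {S Z : Scheme.{u}} {ι : Type u} {X : ι → Scheme.{u}} (f : ∀ i, X i ⟶ S)

theorem existsUnique_glue [∀ i, Flat (f i)] [∀ i, LocallyOfFinitePresentation (f i)]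
    (hf : ∀ s : S, ∃ i, s ∈ Set.range (f i)) (g : ∀ i, X i ⟶ Z)
    (hg : ∀ (i j : ι) (T : Scheme.{u}) (a : T ⟶ X i) (b : T ⟶ X j), a ≫ f i = b ≫ f j →
      a ≫ g i = b ≫ g j) : ∃! t : S ⟶ Z, ∀ i, f i ≫ t = g i := by
  have h1 : Presieve.ofArrows X f ∈ Scheme.fppfPrecoverage S := by
    rw [Scheme.fppfPrecoverage, Scheme.ofArrows_mem_precoverage_iff]
    exact ⟨hf, fun i => ⟨inferInstance, inferInstance⟩⟩
  have h2 : Presieve.IsSheafFor (yoneda.obj Z) (Presieve.ofArrows X f) := by
    have h3 : Sieve.generate (Presieve.ofArrows X f) ∈ Scheme.fppfTopology S :=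
      Precoverage.generate_mem_toGrothendieck h1
    exact (GrothendieckTopology.Subcanonical.isSheaf_of_isRepresentable
      (J := Scheme.fppfTopology) _).isSheafFor _ h3
  rw [Presieve.isSheafFor_arrows_iff] at h2
  exact h2 g hg

theorem hom_ext [∀ i, Flat (f i)] [∀ i, LocallyOfFinitePresentation (f i)]
    (hf : ∀ s : S, ∃ i, s ∈ Set.range (f i)) {a b : S ⟶ Z} (h : ∀ i, f i ≫ a = f i ≫ b) :
    a = b := by
  obtain ⟨t, -, ht⟩ := existsUnique_glue f hf (fun i => f i ≫ a) (fun i j T x y hxy => by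
    rw [← Category.assoc, ← Category.assoc, hxy])
  rw [ht a fun i => rfl, ht b fun i => (h i).symm]

end Groth.Agent.Sga3B.Par.EtGlue
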