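import Groth.Agent.Sga3A.Rigidity
import Groth.Agent.Sga3B.Parab.Defs
import Groth.Agent.Sga3B.DSAff
import Groth.Agent.Sga3B.BcPts
import Groth.Agent.Books.AffBridge2
import Mathlib.AlgebraicGeometry.Morphisms.Affine

/-!
# Rigidity of homomorphisms from diagonalizable groups

A homomorphism `d : D_S(M) ⟶ H` to an `S`-affine `S`-group of finite type which is trivial on all
geometric fibres is trivial.
-/

set_option autoImplicit false

universe u

open CategoryTheory MonoidalCategory CartesianMonoidalCategory MonObj GrpObj AlgebraicGeometry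
  Limits

namespace Groth.Agent.Sga3B.Par.CanRig

section Alg

open TensorProduct Coalgebra Bialgebra

variable {R : Type*} {M : Type*} {C : Type*} [CommRing R] [CommGroup M] [CommRing C]
  [Bialgebra R C]

/-- Rigidity, algebraic form. -/
lemma core (hfg : (RingHom.ker (counitAlgHom R C)).FG)
    (w : C →ₐc[R] MonoidAlgebra R M)
    (h : ∀ c : C, counit (R := R) c = 0 → ∀ m, (w c).coeff m ∈ Ideal.jacobson (⊥ : Ideal R))
    (c : C) (hc : counit (R := R) c = 0) : w c = 0 := by
  classical
  obtain ⟨T, hT⟩ := hfg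
  let U : Set R := ⋃ g ∈ T, Set.range fun m => (w g).coeff m
  have hU : U.Finite := Set.Finite.biUnion T.finite_toSet fun g _ => Finsupp.finite_range _
  let 𝔞 : Ideal R := Ideal.span U
  have hT0 : ∀ g ∈ T, counit (R := R) g = 0 := by
    intro g hg
    have : g ∈ RingHom.ker (counitAlgHom R C) := hT ▸ Ideal.subset_span hg
    exact this
  have h𝔞fg : 𝔞.FG := ⟨hU.toFinset, by simp [𝔞]⟩
  have h𝔞le : 𝔞 ≤ Ideal.jacobson (⊥ : Ideal R) := by
    rw [Ideal.span_le]
    rintro r hr
    simp only [U, Set.mem_iUnion, Set.mem_range] at hr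
    obtain ⟨g, hg, m, rfl⟩ := hr
    exact h g (hT0 g hg) m
  have h1 : ∀ c : C, counit (R := R) c = 0 → ∀ m, (w c).coeff m ∈ 𝔞 := by
    let K : Ideal (MonoidAlgebra R M) :=
      RingHom.ker (MonoidAlgebra.mapRingHom M (Ideal.Quotient.mk 𝔞))
    have hK : ∀ x : MonoidAlgebra R M, x ∈ K ↔ ∀ m, x.coeff m ∈ 𝔞 := by
      intro x
      simp only [K, RingHom.mem_ker]
      constructor
      · intro hx m
        have := congr(($hx).coeff m)
        simpa [Ideal.Quotient.eq_zero_iff_mem] using this
      · intro hx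
        ext m
        simpa [Ideal.Quotient.eq_zero_iff_mem] using hx m
    have hle : RingHom.ker (counitAlgHom R C) ≤ K.comap (w : C →+* MonoidAlgebra R M) := by
      rw [← hT, Ideal.span_le]
      intro g hg
      show w g ∈ K
      rw [hK]
      intro m
      exact Ideal.subset_span (Set.mem_biUnion hg ⟨m, rfl⟩)
    intro c hc
    have : c ∈ RingHom.ker (counitAlgHom R C) := hc
    exact (hK _).mp (hle this)
  have h2 : 𝔞 ≤ 𝔞 • 𝔞 := by
    rw [smul_eq_mul]
    conv_lhs => rw [show 𝔞 = Ideal.span U from rfl]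
    rw [Ideal.span_le]
    rintro r hr
    simp only [U, Set.mem_iUnion, Set.mem_range] at hr
    obtain ⟨g, hg, m, rfl⟩ := hr
    exact Sga3A.Rigidity.coeff_mem_sq w 𝔞 h1 g (hT0 g hg) m
  have h3 : 𝔞 = ⊥ := Submodule.eq_bot_of_le_smul_of_le_jacobson_bot 𝔞 𝔞 h𝔞fg h2 h𝔞le
  ext m
  have := h1 c hc m
  rw [h3] at this
  simpa using this

/-- The augmentation ideal of a bialgebra of finite type is finitely generated. -/
lemma ker_counit_fg [Algebra.FiniteType R C] : (RingHom.ker (counitAlgHom R C)).FG := by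
  obtain ⟨n, f, hf⟩ := Algebra.FiniteType.iff_quotient_mvPolynomial''.1
    (inferInstance : Algebra.FiniteType R C)
  have hs : Function.Surjective (counitAlgHom R C) := fun r => ⟨algebraMap R C r, by simp⟩
  have h1 := Algebra.FinitePresentation.ker_fG_of_surjective ((counitAlgHom R C).comp f)
    (hs.comp hf)
  have h2 : RingHom.ker (counitAlgHom R C) =
      (RingHom.ker ((counitAlgHom R C).comp f)).map (f : MvPolynomial (Fin n) R →+* C) := by
    apply le_antisymm
    · intro c hc
      obtain ⟨p, rfl⟩ := hf c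
      exact Ideal.mem_map_of_mem (f : MvPolynomial (Fin n) R →+* C) (show p ∈ RingHom.ker
        ((counitAlgHom R C).comp f) from hc)
    · rw [Ideal.map_le_iff_le_comap]
      intro p hp
      exact hp
  rw [h2]
  exact h1.map _

end Alg

section Sch

variable {S S' : Scheme.{u}}

/-- A morphism over `S` which becomes trivial over `g : S' ⟶ S` is trivial on all points lying over
`g`. -/
lemma comp_eq_one_of_pullback {X H : Over S} [GrpObj H] (g : S' ⟶ S) (d : X ⟶ H)
    (h : (Over.pullback g).map d = 1) {T : Over S} (r : T.left ⟶ S') (hr : r ≫ g = T.hom)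
    (t : T ⟶ X) : t ≫ d = 1 := by
  let e : T ≅ (Over.map g).obj (Over.mk r) := Over.isoMk (Iso.refl _) (by simp [hr])
  have h1 : (e.inv ≫ t) ≫ d = 1 := by
    apply (DSPts.bcEquiv g (Over.mk r) H).injective
    rw [map_one]
    have h2 := BcPts.bcEquiv_comp g (e.inv ≫ t) d
    refine Eq.trans (b := BcPts.bcEquiv g (Over.mk r) H ((e.inv ≫ t) ≫ d)) rfl (h2.trans ?_)
    rw [h]
    exact MonObj.comp_one _
  have h3 := congrArg (fun z => e.hom ≫ z) h1
  simpa [MonObj.comp_one] using h3

/-- Equality of morphisms over `S` can be checked over the affine open subschemes of `S`. -/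
lemma eq_of_affine_local {X Y : Over S} {f g : X ⟶ Y}
    (h : ∀ (R : CommRingCat.{u}) (c : Spec R ⟶ S), IsOpenImmersion c →
      (Over.pullback c).map f = (Over.pullback c).map g) : f = g := by
  ext1
  refine Scheme.Cover.hom_ext (S.affineCover.pullback₁ X.hom) _ _ fun i => ?_
  have h1 := congrArg (fun z => z.left ≫ pullback.fst Y.hom (S.affineCover.f i))
    (h _ (S.affineCover.f i) (S.affineCover.map_prop i))
  have h2 : ∀ k : X ⟶ Y, ((Over.pullback (S.affineCover.f i)).map k).left ≫
      pullback.fst Y.hom (S.affineCover.f i) = pullback.fst X.hom (S.affineCover.f i) ≫ k.left :=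
    fun k => pullback.lift_fst _ _ _
  exact (h2 f).symm.trans (h1.trans (h2 g))

open Groth.Agent.Books.AffBridge Groth.Agent.Books.DynBasic DSPts AffPts DSAff

/-- Rigidity over an affine base. -/
lemma rig_affine {R : Type u} [CommRing R] {M : Type} [AddCommGroup M]
    {H : Over (Spec (CommRingCat.of R))} [GrpObj H] [IsAffineHom H.hom] [LocallyOfFiniteType H.hom]
    (d : Red.DS (Spec (CommRingCat.of R)) M ⟶ H) [IsMonHom d]
    (h : ∀ p : Ideal R, p.IsPrime → ∃ (K : Type u) (_ : Field K) (φ : R →+* K), RingHom.ker φ = p ∧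
      ∀ (T : Over (Spec (CommRingCat.of R))) (r : T.left ⟶ Spec (CommRingCat.of K)),
        r ≫ Spec.map (CommRingCat.ofHom φ) = T.hom → ∀ t : T ⟶ Red.DS _ M, t ≫ d = 1) :
    d = 1 := by
  have : IsAffine H.left := isAffine_of_isAffineHom H.hom
  obtain ⟨A, _, _, e, he⟩ := exists_hopf R H
  obtain ⟨π, hπ⟩ := exists_bialgHom_of_isMonHom R (dsFrom R M ≫ d ≫ e.hom)
  have hft : Algebra.FiniteType R A := by
    rw [← Books.AffBridge2.locallyOfFiniteType_specOver_iff]
    have h1 : (SpecOver R A).hom = e.inv.left ≫ H.hom := (Over.w e.inv).symm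
    rw [h1]
    infer_instance
  have key : ∀ c : A, Coalgebra.counit (R := R) c = 0 → π c = 0 := by
    apply core (ker_counit_fg (R := R) (C := A)) π
    intro c hc m
    rw [Ideal.jacobson, Ideal.mem_sInf]
    rintro p ⟨-, hp⟩
    obtain ⟨K, _, φ, rfl, hK⟩ := h p hp.isPrime
    algebraize [φ]
    let q : MonoidAlgebra R (Multiplicative M) →ₐ[R] MonoidAlgebra K (Multiplicative M) :=
      MonoidAlgebra.mapAlgHom (Multiplicative M) (Algebra.ofId R K)
    have h0 : Spec.map (CommRingCat.ofHom (algebraMap K (MonoidAlgebra K (Multiplicative M)))) ≫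
        Spec.map (CommRingCat.ofHom φ) =
        Spec.map (CommRingCat.ofHom (algebraMap R (MonoidAlgebra K (Multiplicative M)))) := by
      rw [← Spec.map_comp, ← CommRingCat.ofHom_comp]
    have h1 := hK (SpecOver R (MonoidAlgebra K (Multiplicative M)))
      (Spec.map (CommRingCat.ofHom (algebraMap K (MonoidAlgebra K (Multiplicative M))))) h0
      (specMap R q ≫ dsFrom R M)
    have h2 : specMap R (q.comp (π : A →ₐ[R] _)) =
        specMap R (1 : WithConv (A →ₐ[R] MonoidAlgebra K (Multiplicative M))).ofConv := by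
      rw [specMap_comp, hπ, specMap_one, ← Category.assoc, ← Category.assoc, h1]
      exact MonObj.one_comp _
    have h3 : (q.comp (π : A →ₐ[R] _)) c =
        (1 : WithConv (A →ₐ[R] MonoidAlgebra K (Multiplicative M))).ofConv c :=
      congrArg (fun f => f c) (specMap_injective R h2)
    have h4 : q (π c) = 0 := by
      refine h3.trans ?_
      rw [AlgHom.convOne_def]
      simp [hc]
    have h5 := congrArg (fun x => x.coeff m) h4
    simp only [q, MonoidAlgebra.coeff_mapAlgHom] at h5
    exact h5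
  have h6 : (π : A →ₐ[R] _) =
      (1 : WithConv (A →ₐ[R] MonoidAlgebra R (Multiplicative M))).ofConv := by
    rw [AlgHom.convOne_def]
    refine AlgHom.ext fun c => ?_
    have h7 := key (c - algebraMap R A (Coalgebra.counit (R := R) c)) (by simp)
    rw [map_sub, sub_eq_zero] at h7
    refine (Eq.trans (b := π c) rfl h7).trans ?_
    exact AlgHomClass.commutes π _
  have h8 : dsFrom R M ≫ d ≫ e.hom = 1 := by
    rw [← hπ, h6, specMap_one]
  have h9 : d ≫ e.hom = 1 := by
    have h10 := congrArg (fun z => dsTo R M ≫ z) h8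
    simp only [← Category.assoc, dsTo_dsFrom, Category.id_comp, MonObj.comp_one] at h10
    exact h10
  have h11 := congrArg (fun z => z ≫ e.inv) h9
  have : IsMonHom e.inv := inferInstance
  simp only [Category.assoc, Iso.hom_inv_id, Category.comp_id, MonObj.one_comp] at h11
  exact h11

lemma range_geomPt (s : S) : Set.range (Red.geomPt s) = {s} := by
  apply Set.eq_singleton_iff_nonempty_unique_mem.mpr
  refine ⟨?_, ?_⟩
  · obtain ⟨x⟩ : Nonempty (Spec (CommRingCat.of (AlgebraicClosure (S.residueField s)))) :=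
      inferInstance
    exact ⟨_, x, rfl⟩
  · rintro _ ⟨x, rfl⟩
    have : (Red.geomPt s) x ∈ Set.range (S.fromSpecResidueField s) := by
      rw [Scheme.Hom.comp_apply]
      exact ⟨_, rfl⟩
    rwa [Scheme.range_fromSpecResidueField] at this

/-- Rigidity: a homomorphism from a diagonalizable group `D_S(M)` to an `S`-affine group of finite
type which is trivial on the geometric fibres is trivial. -/
theorem eq_one_of_geomFibres {M : Type} [AddCommGroup M] {H : Over S} [GrpObj H]
    [IsAffineHom H.hom] [LocallyOfFiniteType H.hom] (d : Red.DS S M ⟶ H) [IsMonHom d]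
    (h : ∀ s : S, (Over.pullback (Red.geomPt s)).map d = 1) : d = 1 := by
  refine eq_of_affine_local fun R c hc => ?_
  have hone : (Over.pullback c).map (1 : Red.DS S M ⟶ H) = 1 := Functor.map_one _
  rw [hone]
  let ι' : Red.DS (Spec R) M ⟶ Red.bc c (Red.DS S M) := (TorusAlgClosed.dsBcIso c M).inv.hom.hom
  have hι' : (TorusAlgClosed.dsBcIso c M).hom.hom.hom ≫ ι' = 𝟙 _ :=
    congrArg (fun f => f.hom.hom) (TorusAlgClosed.dsBcIso c M).hom_inv_id
  have aH : IsAffineHom (Red.bc c H).hom := by
    change IsAffineHom (pullback.snd _ _)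
    infer_instance
  have lH : LocallyOfFiniteType (Red.bc c H).hom := by
    change LocallyOfFiniteType (pullback.snd _ _)
    infer_instance
  suffices h1 : ι' ≫ (Over.pullback c).map d = 1 by
    have h2 := congrArg (fun z => (TorusAlgClosed.dsBcIso c M).hom.hom.hom ≫ z) h1
    simp only [← Category.assoc, hι', Category.id_comp, MonObj.comp_one] at h2
    exact h2
  have hm : IsMonHom (ι' ≫ (Over.pullback c).map d) := by
    have : IsMonHom ι' := (TorusAlgClosed.dsBcIso c M).inv.hom.isMonHom_hom
    infer_instance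
  refine rig_affine (R := R) (M := M) (H := Red.bc c H) (ι' ≫ (Over.pullback c).map d) ?_
  intro p hp
  let x : Spec R := ⟨p, hp⟩
  let s : S := c x
  let j : Spec (CommRingCat.of (AlgebraicClosure (S.residueField s))) ⟶ Spec R :=
    IsOpenImmersion.lift c (Red.geomPt s) (by
      rw [range_geomPt, Set.singleton_subset_iff]
      exact ⟨x, rfl⟩)
  have hj : j ≫ c = Red.geomPt s := IsOpenImmersion.lift_fac _ _ _
  let φ : R →+* AlgebraicClosure (S.residueField s) := (Spec.preimage j).hom
  have hφ : Spec.map (CommRingCat.ofHom φ) = j := Spec.map_preimage j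
  refine ⟨AlgebraicClosure (S.residueField s), inferInstance, φ, ?_, ?_⟩
  · let z : Spec (CommRingCat.of (AlgebraicClosure (S.residueField s))) :=
      (⟨⊥, Ideal.isPrime_bot⟩ : PrimeSpectrum (AlgebraicClosure (S.residueField s)))
    have h1 : c (j z) = s := by
      have : c (j z) = Red.geomPt s z := by rw [← hj]; rfl
      rw [this]
      have h2 : Red.geomPt s z ∈ Set.range (Red.geomPt s) := ⟨z, rfl⟩
      rwa [range_geomPt] at h2
    have h2 : j z = x := c.isOpenEmbedding.injective h1
    rw [← hφ] at h2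
    exact congrArg PrimeSpectrum.asIdeal h2
  · intro T r hr t
    rw [← Category.assoc]
    have h1 : BcPts.bcEquiv c T H ((BcPts.bcEquiv c T (Red.DS S M)).symm (t ≫ ι') ≫ d) =
        (t ≫ ι') ≫ (Over.pullback c).map d := by
      rw [BcPts.bcEquiv_comp, Equiv.apply_symm_apply]
    rw [← h1]
    have h2 : (BcPts.bcEquiv c T (Red.DS S M)).symm (t ≫ ι') ≫ d = 1 := by
      refine comp_eq_one_of_pullback (Red.geomPt s) d (h s) r ?_ _
      rw [hφ] at hr
      change r ≫ Red.geomPt s = T.hom ≫ c
      rw [← hj, ← hr]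
      exact (Category.assoc r j c).symm
    rw [h2]
    exact BcPts.bcEquiv_one c

lemma ds_mul_comm {M : Type} [AddCommGroup M] {X : Over S} (x y : X ⟶ Red.DS S M) :
    x * y = y * x := by
  rw [← dsEquiv_dsChar (x * y), ← dsEquiv_dsChar (y * x), dsChar_mul, dsChar_mul, mul_comm]

/-- Two commuting homomorphisms from a diagonalizable group to an `S`-affine group of finite type
which agree on the geometric fibres are equal. -/
theorem eq_of_geomFibres {M : Type} [AddCommGroup M] {H : Over S} [GrpObj H]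
    [IsAffineHom H.hom] [LocallyOfFiniteType H.hom] (d₁ d₂ : Red.DS S M ⟶ H) [IsMonHom d₁]
    [IsMonHom d₂] (hc : ∀ (X : Over S) (x y : X ⟶ Red.DS S M),
      (x ≫ d₁) * (y ≫ d₂) = (y ≫ d₂) * (x ≫ d₁))
    (h : ∀ s : S, (Over.pullback (Red.geomPt s)).map d₁ = (Over.pullback (Red.geomPt s)).map d₂) :
    d₁ = d₂ := by
  have hm : IsMonHom (d₁ * d₂⁻¹) := by
    apply Pts.isMonHom_of_points
    intro X x y
    rw [MonObj.comp_mul, MonObj.comp_mul, MonObj.comp_mul, GrpObj.comp_inv, GrpObj.comp_inv,
      GrpObj.comp_inv, MonObj.mul_comp, MonObj.mul_comp, _root_.mul_inv_rev]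
    have h1 : Commute (y ≫ d₁) (x ≫ d₂) := hc X y x
    have h2 : Commute (y ≫ d₂) (x ≫ d₂) := by
      have h0 : (y * x) ≫ d₂ = (x * y) ≫ d₂ := congrArg (fun z => z ≫ d₂) (ds_mul_comm y x)
      exact (MonObj.mul_comp y x d₂).symm.trans (h0.trans (MonObj.mul_comp x y d₂))
    have h3 : Commute (y ≫ d₁ * (y ≫ d₂)⁻¹) (x ≫ d₂)⁻¹ := (h1.mul_left h2.inv_left).inv_right
    rw [_root_.mul_assoc, ← _root_.mul_assoc (y ≫ d₁), h3.eq, ← _root_.mul_assoc]
  have h1 : d₁ * d₂⁻¹ = 1 := by
    apply eq_one_of_geomFibres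
    intro s
    rw [Functor.map_mul, Functor.map_inv', h s, mul_inv_cancel]
  exact mul_inv_eq_one.1 h1

end Sch

end Groth.Agent.Sga3B.Par.CanRig
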