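import Groth.Agent.Sga3B.Par.CanN2
import Groth.Agent.Sga3B.Par.CanRig
import Groth.Agent.Sga3B.GaPts

/-!
# The cocharacter of a splitting attached to a coweight

`coch D x : 𝔾_m ⟶ G`; the action of the torus on the root groups on points; limits of the
root group elements.
-/

set_option autoImplicit false

universe u

open CategoryTheory MonoidalCategory CartesianMonoidalCategory MonObj GrpObj AlgebraicGeometry
  Limits
open scoped LaurentPolynomial Polynomial

namespace Groth.Agent.Sga3B.Par

open Parab DSPts GaPts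

variable {S : Scheme.{u}} {G : Over S} [GrpObj G]

/-- The cocharacter of the torus of a splitting given by a coweight. -/
noncomputable def cochT (D : Red.SplitRed G) (x : Module.Dual ℤ D.M) : Red.Gm S ⟶ D.T :=
  Red.DSmap S x.toAddMonoidHom ≫ D.split.inv.hom.hom

/-- The cocharacter of `G` given by a splitting and a coweight. -/
noncomputable def coch (D : Red.SplitRed G) (x : Module.Dual ℤ D.M) : Red.Gm S ⟶ G :=
  cochT D x ≫ D.i

instance (D : Red.SplitRed G) (x : Module.Dual ℤ D.M) : IsMonHom (cochT D x) := by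
  have h1 := isMonHom_DSmap (S := S) x.toAddMonoidHom
  have h2 : IsMonHom D.split.inv.hom.hom := D.split.inv.hom.isMonHom_hom
  unfold cochT
  infer_instance

instance isMonHom_i (D : Red.SplitRed G) : IsMonHom D.i := D.maximalTorus.1

instance (D : Red.SplitRed G) (x : Module.Dual ℤ D.M) : IsMonHom (coch D x) := by
  unfold coch
  infer_instance

lemma split_hom_inv (D : Red.SplitRed G) : D.split.hom.hom.hom ≫ D.split.inv.hom.hom = 𝟙 _ :=
  congrArg (fun f => f.hom.hom) D.split.hom_inv_id

lemma split_inv_hom (D : Red.SplitRed G) : D.split.inv.hom.hom ≫ D.split.hom.hom.hom = 𝟙 _ :=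
  congrArg (fun f => f.hom.hom) D.split.inv_hom_id

lemma cochT_split (D : Red.SplitRed G) (x : Module.Dual ℤ D.M) :
    cochT D x ≫ D.split.hom.hom.hom = Red.DSmap S x.toAddMonoidHom := by
  rw [cochT, Category.assoc, split_inv_hom]
  exact Category.comp_id _

lemma dsChar_cochT (D : Red.SplitRed G) (x : Module.Dual ℤ D.M) {X : Over S} (t : X ⟶ Red.Gm S)
    (m : D.M) : dsChar (t ≫ cochT D x ≫ D.split.hom.hom.hom) (Multiplicative.ofAdd m) =
      dsChar t (Multiplicative.ofAdd (x m)) := by
  rw [cochT_split, dsChar_DSmap]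
  rfl

/-- The conjugation of root group elements by torus elements. -/
lemma rel_pt (D : Red.SplitRed G) (a : D.idx) {X : Over S} (t : X ⟶ D.T) (x : Γ(X.left, ⊤)) :
    (t ≫ D.i) * (gaPt X x ≫ D.u a) * (t ≫ D.i)⁻¹ =
      gaPt X (dsChar (t ≫ D.split.hom.hom.hom) (Multiplicative.ofAdd (D.P.root a)) * x) ≫ D.u a := by
  obtain ⟨y, hy, hy'⟩ := (D.rootHom a).2.2 X t (gaPt X x)
  rw [← hy, ← gaPt_gaFn X y, hy', gaFn_gaPt, ← Category.assoc, gmFn_chi]

section Lim

variable {C : Type u} [CommRing C] {c : Spec (CommRingCat.of C) ⟶ S}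

lemma orb_root (D : Red.SplitRed G) (y : Module.Dual ℤ D.M) (a : D.idx)
    (x : Γ((aff C c).left, ⊤)) :
    orb (coch D y) (gaPt (aff C c) x ≫ D.u a) =
      gaPt (gmo C c) (tChar C c (Multiplicative.ofAdd (y (D.P.root a))) *
        (gmPr C c).left.appTop x) ≫ D.u a := by
  have h1 := rel_pt D a (tPt C c ≫ cochT D y) ((gmPr C c).left.appTop x)
  rw [Category.assoc (tPt C c) (cochT D y) D.split.hom.hom.hom, dsChar_cochT, tPt,
    dsChar_dsEquiv] at h1
  rw [orb, ← h1, ← Category.assoc (gmPr C c), comp_gaPt, coch, Category.assoc]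
  rfl

/-- The coordinate of `Spec C[T]`. -/
noncomputable def linX (C : Type u) [CommRing C] (c : Spec (CommRingCat.of C) ⟶ S) :
    Γ((lin C c).left, ⊤) := (Scheme.ΓSpecIso (CommRingCat.of C[X])).inv Polynomial.X

lemma toLin_appTop (p : C[X]) :
    (toLin C c).left.appTop ((Scheme.ΓSpecIso (CommRingCat.of C[X])).inv p) =
      (Scheme.ΓSpecIso (CommRingCat.of C[T;T⁻¹])).inv (Polynomial.toLaurent p) :=
  congr($(Scheme.ΓSpecIso_inv_naturality
      (CommRingCat.ofHom (Polynomial.toLaurentAlg (R := C)).toRingHom)) p).symm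

lemma exists_eq_inv (A : Type u) [CommRing A] (s : Γ(Spec (CommRingCat.of A), ⊤)) :
    ∃ p : A, (Scheme.ΓSpecIso (CommRingCat.of A)).inv p = s :=
  ⟨(Scheme.ΓSpecIso (CommRingCat.of A)).hom s,
    congr($((Scheme.ΓSpecIso (CommRingCat.of A)).hom_inv_id) s)⟩

lemma inv_injective (A : Type u) [CommRing A] :
    Function.Injective (Scheme.ΓSpecIso (CommRingCat.of A)).inv := by
  intro p q h
  have h1 := congrArg (Scheme.ΓSpecIso (CommRingCat.of A)).hom h
  have h2 : ∀ r : A, (Scheme.ΓSpecIso (CommRingCat.of A)).hom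
      ((Scheme.ΓSpecIso (CommRingCat.of A)).inv r) = r := fun r =>
    congr($((Scheme.ΓSpecIso (CommRingCat.of A)).inv_hom_id) r)
  exact (h2 p).symm.trans (h1.trans (h2 q))

lemma toLin_appTop_injective : Function.Injective (toLin C c).left.appTop := by
  intro s t h
  obtain ⟨p, rfl⟩ := exists_eq_inv C[X] s
  obtain ⟨q, rfl⟩ := exists_eq_inv C[X] t
  rw [toLin_appTop, toLin_appTop] at h
  rw [Polynomial.toLaurent_injective (inv_injective _ h)]

lemma toLin_linX_pow (n : ℕ) :
    (toLin C c).left.appTop (linX C c ^ n) = tChar C c (Multiplicative.ofAdd (n : ℤ)) := by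
  rw [map_pow]
  have h1 : (toLin C c).left.appTop (linX C c) = tChar C c (Multiplicative.ofAdd (1 : ℤ)) := by
    rw [linX, toLin_appTop, Polynomial.toLaurent_X]
    rfl
  rw [h1, ← map_pow, ← ofAdd_nsmul]
  simp

lemma toLin_linPr : toLin C c ≫ linPr C c = gmPr C c := by
  ext1
  change Spec.map _ ≫ Spec.map _ = Spec.map _
  rw [← Spec.map_comp, ← CommRingCat.ofHom_comp]
  congr 2
  exact (Polynomial.toLaurentAlg (R := C)).comp_algebraMap

/-- The limit of a root group element with nonnegative weight exists. -/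
lemma limEx_root (D : Red.SplitRed G) (y : Module.Dual ℤ D.M) (a : D.idx)
    (x : Γ((aff C c).left, ⊤)) (h : 0 ≤ y (D.P.root a)) :
    LimEx (coch D y) (gaPt (aff C c) x ≫ D.u a) := by
  obtain ⟨n, hn⟩ := Int.eq_ofNat_of_zero_le h
  refine ⟨gaPt (lin C c) (linX C c ^ n * (linPr C c).left.appTop x) ≫ D.u a, ?_⟩
  rw [orb_root, hn, ← Category.assoc, comp_gaPt, map_mul, toLin_linX_pow]
  congr 3
  rw [← toLin_linPr]
  rfl

/-- A `Spec C[T]`-valued point which restricts over `Spec C[T;T⁻¹]` to a point of a closed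
subscheme is a point of the closed subscheme. -/
lemma exists_lin_factor {Z X : Over S} (j : Z ⟶ X) [IsClosedImmersion j.left] (h : lin C c ⟶ X)
    (z : gmo C c ⟶ Z) (hz : toLin C c ≫ h = z ≫ j) : ∃ z' : lin C c ⟶ Z, z' ≫ j = h := by
  let q := pullback.fst h.left j.left
  have hl : (toLin C c).left ≫ h.left = z.left ≫ j.left := congrArg (fun f => f.left) hz
  have h1 : pullback.lift _ _ hl ≫ q = (toLin C c).left := pullback.lift_fst _ _ _
  have hinj' : Function.Injective q.appTop := by
    intro a b hab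
    apply toLin_appTop_injective (C := C) (c := c)
    rw [← h1, Scheme.Hom.comp_appTop]
    exact congrArg (pullback.lift _ _ hl).appTop hab
  have : IsAffine (lin C c).left := by
    change IsAffine (Spec _)
    infer_instance
  have : IsIso q := IsClosedImmersion.isIso_of_injective_of_isAffine hinj'
  refine ⟨Over.homMk (inv q ≫ pullback.snd _ _) ?_, ?_⟩
  · rw [← Over.w j, ← Over.w h, Category.assoc, ← Category.assoc (pullback.snd _ _),
      ← pullback.condition, Category.assoc, IsIso.inv_hom_id_assoc]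
  · ext1
    change (inv q ≫ pullback.snd _ _) ≫ j.left = h.left
    rw [Category.assoc, ← pullback.condition, IsIso.inv_hom_id_assoc]

lemma nonneg_of_toLaurent [Nontrivial C] {p : C[X]} {n : ℤ}
    (h : Polynomial.toLaurent p = LaurentPolynomial.T n) : 0 ≤ n := by
  by_contra hn
  obtain ⟨m, hm⟩ := Int.eq_ofNat_of_zero_le (show 0 ≤ -n by omega)
  have hm0 : m ≠ 0 := by omega
  have h1 : Polynomial.toLaurent (p * Polynomial.X ^ m) = Polynomial.toLaurent (1 : C[X]) := by
    rw [map_mul, h, Polynomial.toLaurent_X_pow, ← LaurentPolynomial.T_add, ← hm, map_one]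
    simp
  have h2 := congrArg (fun q => q.coeff 0) (Polynomial.toLaurent_injective h1)
  simp [hm0.symm] at h2

instance mono_u (D : Red.SplitRed G) (a : D.idx) : Mono (D.u a) := by
  have := (D.rootHom a).2.1
  have : Mono (D.u a).left := inferInstance
  exact (Over.forget S).mono_of_mono_map this

/-- The limit of the standard root group element exists exactly if the weight is nonnegative. -/
theorem limEx_root_iff [Nontrivial C] (D : Red.SplitRed G) (y : Module.Dual ℤ D.M) (a : D.idx) :
    LimEx (coch D y) (gaPt (aff C c) 1 ≫ D.u a) ↔ 0 ≤ y (D.P.root a) := by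
  refine ⟨?_, limEx_root D y a 1⟩
  rintro ⟨h, hh⟩
  rw [orb_root, map_one, _root_.mul_one] at hh
  have := (D.rootHom a).2.1
  obtain ⟨z, rfl⟩ := exists_lin_factor (D.u a) h _ hh
  rw [← Category.assoc, cancel_mono, ← gaPt_gaFn _ z, comp_gaPt] at hh
  have h1 := congrArg Red.gaFn hh
  rw [gaFn_gaPt, gaFn_gaPt] at h1
  obtain ⟨p, hp⟩ := exists_eq_inv C[X] (Red.gaFn z)
  rw [← hp, toLin_appTop] at h1
  exact nonneg_of_toLaurent (inv_injective _ h1)

end Lim

end Groth.Agent.Sga3B.Par
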