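import Groth.Agent.Sga3B.Par.CanDef
import Groth.Agent.Sga3B.Parab.Dyn998

/-!
# Comparison of the canonical cocharacters of a parabolic subgroup, at a point where the two
maximal tori are conjugate
-/

set_option autoImplicit false

universe u

open CategoryTheory MonoidalCategory CartesianMonoidalCategory MonObj GrpObj AlgebraicGeometry
  Limits
open scoped LaurentPolynomial Polynomial

namespace Groth.Agent.Sga3B.Par

open Parab DSPts GaPts Parab.Dyn998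

variable {S : Scheme.{u}} {G : Over S} [GrpObj G]

lemma dsChar_DSmap' {M N : Type} [AddCommGroup M] [AddCommGroup N] (φ : M →+ N) :
    dsChar (Red.DSmap S φ) = (dsChar (𝟙 (Red.DS S N))).comp (AddMonoidHom.toMultiplicative φ) := by
  have h := dsChar_DSmap φ (𝟙 (Red.DS S N))
  rwa [Category.id_comp] at h

lemma DSmap_comp {L M N : Type} [AddCommGroup L] [AddCommGroup M] [AddCommGroup N] (φ : M →+ N)
    (ψ : L →+ M) : Red.DSmap S φ ≫ Red.DSmap S ψ = Red.DSmap S (φ.comp ψ) := by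
  rw [← dsEquiv_dsChar (Red.DSmap S φ ≫ Red.DSmap S ψ), ← dsEquiv_dsChar (Red.DSmap S (φ.comp ψ))]
  congr 1
  rw [dsChar_DSmap, dsChar_DSmap', dsChar_DSmap']
  rfl

section conj

variable {C : Type u} [CommRing C] {c : Spec (CommRingCat.of C) ⟶ S}

lemma orb_of_conj {lam lam' : Red.Gm S ⟶ G} (g h : aff C c ⟶ G)
    (hg : tPt C c ≫ lam' = (gmPr C c ≫ g) * (tPt C c ≫ lam) * (gmPr C c ≫ g)⁻¹) :
    orb lam' h = (gmPr C c ≫ g) * orb lam (g⁻¹ * h * g) * (gmPr C c ≫ g)⁻¹ := by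
  rw [orb, orb, hg, MonObj.comp_mul, MonObj.comp_mul, GrpObj.comp_inv]
  group

lemma limEx_of_conj {lam lam' : Red.Gm S ⟶ G} (g h : aff C c ⟶ G)
    (hg : tPt C c ≫ lam' = (gmPr C c ≫ g) * (tPt C c ≫ lam) * (gmPr C c ≫ g)⁻¹) :
    LimEx lam' h ↔ LimEx lam (g⁻¹ * h * g) := by
  have h0 := orb_of_conj g h hg
  constructor
  · rintro ⟨k, hk⟩
    refine ⟨(linPr C c ≫ g)⁻¹ * k * (linPr C c ≫ g), ?_⟩
    rw [MonObj.comp_mul, MonObj.comp_mul, GrpObj.comp_inv, hk, h0, ← Category.assoc,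
      Parab.Dyn998.toLin_linPr]
    group
  · rintro ⟨k, hk⟩
    refine ⟨(linPr C c ≫ g) * k * (linPr C c ≫ g)⁻¹, ?_⟩
    rw [MonObj.comp_mul, MonObj.comp_mul, GrpObj.comp_inv, hk, h0, ← Category.assoc,
      Parab.Dyn998.toLin_linPr]

/-- The torus of the splitting `D₁` is conjugated by `g` to the torus of the splitting `D₂`, with
the isomorphism of character groups given by `e`. -/
def TorConj (D₁ D₂ : Red.SplitRed G) (g : aff C c ⟶ G) (e : RootPairing.Equiv D₁.P D₂.P) : Prop :=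
  ∀ (B : Type u) [CommRing B] (b : Spec (CommRingCat.of B) ⟶ S) (r : aff B b ⟶ aff C c)
    (t : aff B b ⟶ Red.DS S D₁.M),
    (r ≫ g) * (t ≫ D₁.split.inv.hom.hom ≫ D₁.i) * (r ≫ g)⁻¹ =
      t ≫ Red.DSmap S e.weightEquiv.symm.toLinearMap.toAddMonoidHom ≫ D₂.split.inv.hom.hom ≫ D₂.i

variable {D₁ D₂ : Red.SplitRed G} {g : aff C c ⟶ G} {e : RootPairing.Equiv D₁.P D₂.P}

lemma TorConj.coch (h : TorConj D₁ D₂ g e) (y : Module.Dual ℤ D₁.M) {B : Type u} [CommRing B]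
    {b : Spec (CommRingCat.of B) ⟶ S} (r : aff B b ⟶ aff C c) (t : aff B b ⟶ Red.Gm S) :
    (r ≫ g) * (t ≫ coch D₁ y) * (r ≫ g)⁻¹ = t ≫ coch D₂ (push e y) := by
  have h1 := h B b r (t ≫ Red.DSmap S y.toAddMonoidHom)
  have h2 : t ≫ Par.coch D₁ y =
      (t ≫ Red.DSmap S y.toAddMonoidHom) ≫ D₁.split.inv.hom.hom ≫ D₁.i := by
    simp [Par.coch, cochT]
  rw [h2, h1]
  have h3 : Red.DSmap S y.toAddMonoidHom ≫
      Red.DSmap S e.weightEquiv.symm.toLinearMap.toAddMonoidHom =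
      Red.DSmap S (push e y).toAddMonoidHom := by
    rw [DSmap_comp]
    rfl
  rw [Category.assoc, ← Category.assoc (Red.DSmap S y.toAddMonoidHom), h3]
  simp [Par.coch, cochT]

variable {P : Over S} [GrpObj P] {p : P ⟶ G} {x₁ : Module.Dual ℤ D₁.M} {x₂ : Module.Dual ℤ D₂.M}

lemma IsDynP.limEx_iff {lam : Red.Gm S ⟶ G} (hp : IsDynP lam p) (h : aff C c ⟶ G) :
    LimEx lam h ↔ ∃ q : aff C c ⟶ P, q ≫ p = h := by
  rw [← ptP_iff]
  exact (hp.iff_ptP _ h).symm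

lemma nonneg_iff [Nontrivial C] (h₁ : IsDynP (coch D₁ x₁) p) (h₂ : IsDynP (coch D₂ x₂) p)
    (g : aff C c ⟶ P) (h : TorConj D₁ D₂ (g ≫ p) e) (a : D₂.idx) :
    0 ≤ x₂ (D₂.P.root a) ↔ 0 ≤ push e x₁ (D₂.P.root a) := by
  have := h₁.isMonHom
  rw [← limEx_root_iff (C := C) (c := c) D₂ x₂ a, ← limEx_root_iff (C := C) (c := c) D₂ _ a,
    limEx_of_conj (lam := Par.coch D₁ x₁) (g ≫ p) _ (h.coch x₁ (gmPr C c) (tPt C c)).symm,
    IsDynP.limEx_iff h₁, IsDynP.limEx_iff h₂]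
  constructor
  · rintro ⟨q, hq⟩
    refine ⟨g⁻¹ * q * g, ?_⟩
    rw [MonObj.mul_comp, MonObj.mul_comp, GrpObj.inv_comp, hq]
  · rintro ⟨q, hq⟩
    refine ⟨g * q * g⁻¹, ?_⟩
    rw [MonObj.mul_comp, MonObj.mul_comp, GrpObj.inv_comp, hq]
    group

/-- The canonical coweights correspond. -/
theorem can_eq [Nontrivial C] (h₁ : IsDynP (coch D₁ x₁) p) (h₂ : IsDynP (coch D₂ x₂) p)
    (g : aff C c ⟶ P) (h : TorConj D₁ D₂ (g ≫ p) e) :
    can D₂.P x₂ = push e (can D₁.P x₁) := by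
  rw [← can_push D₁.pairing_eq D₂.pairing_eq]
  apply can_congr
  have h0 := nonneg_iff h₁ h₂ g h
  intro a
  have h1 := h0 (D₂.P.reflectionPerm a a)
  rw [apply_reflectionPerm D₂.P D₂.pairing_eq, apply_reflectionPerm D₂.P D₂.pairing_eq,
    D₂.P.pairing_same] at h1
  constructor
  · intro h2
    by_contra h3
    have := h1.2 (by linarith)
    linarith
  · intro h2
    by_contra h3
    have := h1.1 (by linarith)
    linarith

/-- The canonical cocharacters of two splittings are conjugate, as homomorphisms to `P`. -/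
theorem conj_can [Nontrivial C] (h₁ : IsDynP (coch D₁ x₁) p) (h₂ : IsDynP (coch D₂ x₂) p)
    (g : aff C c ⟶ P) (h : TorConj D₁ D₂ (g ≫ p) e) {j₁ : D₁.T ⟶ P} (hj₁ : j₁ ≫ p = D₁.i)
    {j₂ : D₂.T ⟶ P} (hj₂ : j₂ ≫ p = D₂.i) {B : Type u} [CommRing B]
    {b : Spec (CommRingCat.of B) ⟶ S} (r : aff B b ⟶ aff C c) (t : aff B b ⟶ Red.Gm S) :
    (r ≫ g) * (t ≫ cochT D₁ (can D₁.P x₁) ≫ j₁) * (r ≫ g)⁻¹ =
      t ≫ cochT D₂ (can D₂.P x₂) ≫ j₂ := by
  have := h₁.isMonHom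
  have := h₁.mono
  rw [← cancel_mono p, MonObj.mul_comp, MonObj.mul_comp, GrpObj.inv_comp]
  have h3 := h.coch (can D₁.P x₁) r t
  rw [← can_eq h₁ h₂ g h] at h3
  simp only [Category.assoc, hj₁, hj₂]
  rw [← Category.assoc r] 
  exact h3

end conj

end Groth.Agent.Sga3B.Par
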