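import Groth.Agent.Sga3B.Par.CanSG
import Groth.Agent.Sga3B.Par.CanDef
import Groth.Agent.Sga3B.OrbEqui829
import Groth.Agent.Sga3B.ChartGood
import Groth.Agent.Sga3B.Parab.DynLevi998

/-!
# The dynamic subgroups of a cocharacter of a splitting only depend on the signs on the roots
-/

set_option autoImplicit false

universe u

open CategoryTheory MonoidalCategory CartesianMonoidalCategory MonObj GrpObj AlgebraicGeometry
  Limits
open scoped LaurentPolynomial Polynomial TensorProduct

namespace Groth.Agent.Sga3B.Par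

namespace Signs

open Cell Cell.Datum PinMod DSPts GaPts Parab Parab.Dyn998 OrbEqui829

variable {S : Scheme.{u}} {G : Over S} [GrpObj G]

section kap

variable {C : Type u} [CommRing C] (c : Spec (CommRingCat.of C) ⟶ S)

/-- `Spec C` over `S` in its two guises -/
noncomputable def kap : tB c C ≅ aff C c := Over.isoMk (Iso.refl _) (by
  change 𝟙 _ ≫ c = Spec.map (CommRingCat.ofHom (RingHom.id C)) ≫ c
  rw [show CommRingCat.ofHom (RingHom.id C) = 𝟙 _ from rfl, Spec.map_id])

lemma gmPr_eq : gmPr C c = tMap c (lC C C) ≫ (kap c).hom := by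
  ext1
  change Spec.map _ = Spec.map _ ≫ 𝟙 _
  rw [Category.comp_id]
  rfl

lemma toLin_eq : toLin C c = tMap c (lau C C) := by
  ext1
  rfl

lemma kap_zeroSec : (kap c).hom ≫ zeroSec C c = tMap c (pev C C 0) := by
  ext1
  change 𝟙 _ ≫ Spec.map _ = Spec.map _
  rw [Category.id_comp]
  rfl

end kap

section chart

variable {C : Type u} [CommRing C] {c : Spec (CommRingCat.of C) ⟶ S} (ch : Chart G c)
  (D : Red.SplitRed G)

/-- The coordinates of a point in a chart. -/
noncomputable def co (g : aff C c ⟶ G) : Pt C ch.A C := (ch.pts C).symm ((kap c).hom ≫ g)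

lemma gmPr_comp (g : aff C c ⟶ G) :
    gmPr C c ≫ g = ch.pts _ (Pt.map (lC C C) (co ch g)) := by
  rw [← ch.pts_nat, co, MulEquiv.apply_symm_apply, gmPr_eq, Category.assoc]

/-- The cocharacter of the datum. -/
noncomputable abbrev ca (x : Module.Dual ℤ D.M) : (ch.datum D).M →+ ℤ := x.toAddMonoidHom

lemma tPt_coch (x : Module.Dual ℤ D.M) : tPt C c ≫ coch D x =
    ch.pts _ ((ch.datum D).i C[T;T⁻¹] ((ch.datum D).cochar (ca ch D x))) := by
  rw [ch.pts_i, coch, cochT, tPt, Category.assoc, ← Category.assoc (dsEquiv _ _ _), dsEquiv_DSmap]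
  rfl

lemma orbConst_iff (x : Module.Dual ℤ D.M) (g : aff C c ⟶ G) : OrbConst (coch D x) g ↔
    Pt.map (lC C C) (co ch g) * (ch.datum D).i C[T;T⁻¹] ((ch.datum D).cochar (ca ch D x)) =
      (ch.datum D).i C[T;T⁻¹] ((ch.datum D).cochar (ca ch D x)) * Pt.map (lC C C) (co ch g) := by
  rw [OrbConst, orb, tPt_coch ch, gmPr_comp ch, ← map_mul, ← map_inv, ← map_mul,
    (ch.pts _).injective.eq_iff, mul_inv_eq_iff_eq_mul]
  exact eq_comm

lemma orb_eq (x : Module.Dual ℤ D.M) (g : aff C c ⟶ G) : orb (coch D x) g =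
    ch.pts _ ((ch.datum D).i C[T;T⁻¹] ((ch.datum D).cochar (ca ch D x)) *
      Pt.map (lC C C) (co ch g) *
        ((ch.datum D).i C[T;T⁻¹] ((ch.datum D).cochar (ca ch D x)))⁻¹) := by
  rw [orb, tPt_coch ch, gmPr_comp ch, map_mul, map_mul, map_inv]

lemma limEx_iff (x : Module.Dual ℤ D.M) (g : aff C c ⟶ G) : LimEx (coch D x) g ↔
    ∃ q : Pt C ch.A C[X], Pt.map (lau C C) q =
      (ch.datum D).i C[T;T⁻¹] ((ch.datum D).cochar (ca ch D x)) * Pt.map (lC C C) (co ch g) *
        ((ch.datum D).i C[T;T⁻¹] ((ch.datum D).cochar (ca ch D x)))⁻¹ := by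
  rw [LimEx]
  constructor
  · rintro ⟨h, h1⟩
    refine ⟨(ch.pts C[X]).symm h, ?_⟩
    apply (ch.pts C[T;T⁻¹]).injective
    rw [← orb_eq, ← ch.pts_nat, MulEquiv.apply_symm_apply, ← toLin_eq, h1]
  · rintro ⟨q, hq⟩
    refine ⟨ch.pts _ q, ?_⟩
    rw [orb_eq ch, ← hq, ← ch.pts_nat, ← toLin_eq]

lemma limOne_iff (x : Module.Dual ℤ D.M) (g : aff C c ⟶ G) : LimOne (coch D x) g ↔
    ∃ q : Pt C ch.A C[X], Pt.map (lau C C) q =
      (ch.datum D).i C[T;T⁻¹] ((ch.datum D).cochar (ca ch D x)) * Pt.map (lC C C) (co ch g) *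
        ((ch.datum D).i C[T;T⁻¹] ((ch.datum D).cochar (ca ch D x)))⁻¹ ∧
        Pt.map (pev C C 0) q = 1 := by
  rw [LimOne]
  have key : ∀ q : Pt C ch.A C[X], zeroSec C c ≫ ch.pts _ q = 1 ↔ Pt.map (pev C C 0) q = 1 := by
    intro q
    rw [← (ch.pts C).injective.eq_iff, map_one, ← ch.pts_nat, ← kap_zeroSec, Category.assoc,
      ← cancel_epi (kap c).hom, MonObj.comp_one]
  constructor
  · rintro ⟨h, h1, h2⟩
    refine ⟨(ch.pts C[X]).symm h, ?_, ?_⟩
    · apply (ch.pts C[T;T⁻¹]).injective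
      rw [← orb_eq, ← ch.pts_nat, MulEquiv.apply_symm_apply, ← toLin_eq, h1]
    · rw [← key, MulEquiv.apply_symm_apply]
      exact h2
  · rintro ⟨q, hq, h0⟩
    refine ⟨ch.pts _ q, ?_, (key q).2 h0⟩
    rw [orb_eq ch, ← hq, ← ch.pts_nat, ← toLin_eq]

end chart

section signs

variable {C : Type u} [CommRing C] {c : Spec (CommRingCat.of C) ⟶ S} {D : Red.SplitRed G}
  {x y : Module.Dual ℤ D.M} {g : aff C c ⟶ G}

/-- **The centralizer only depends on the zeros.** -/
theorem orbConst (h : ∀ a, x (D.P.root a) = 0 → y (D.P.root a) = 0)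
    (hg : OrbConst (coch D x) g) : OrbConst (coch D y) g := by
  have haff := D.reductive.1
  obtain ⟨ch⟩ := exists_chart G c
  have := ch.smooth D.reductive
  rw [orbConst_iff ch] at hg ⊢
  exact comm_cochar_of_zeros (D := ch.datum D) (ch.good D)
    (fun K _ _ _ => ch.geomDom D.reductive K) (lam := ca ch D x) (mu := ca ch D y) h hg

/-- Points contracted by `x` are products of root group elements. -/
theorem exists_cell (ch : Chart G c) (hg : LimOne (coch D x) g) :
    ∃ w : D.idx → C, (∀ a, x (D.P.root a) ≤ 0 → w a = 0) ∧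
      co ch g = (ch.datum D).cell Finset.univ.toList w 1 := by
  rw [limOne_iff ch] at hg
  obtain ⟨q, hq, hq0⟩ := hg
  obtain ⟨δ, hδ, hδ0⟩ := ch.good D Finset.univ.toList (Finset.nodup_toList _) (fun a => by simp)
  exact exists_eq_of_orbit (ch.datum D) hδ hδ0 (lam := ca ch D x) hq hq0

theorem limOne (h : ∀ a, 0 < x (D.P.root a) → 0 < y (D.P.root a))
    (hg : LimOne (coch D x) g) : LimOne (coch D y) g := by
  have haff := D.reductive.1
  obtain ⟨ch⟩ := exists_chart G c
  obtain ⟨w, hw, hco⟩ := exists_cell ch hg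
  have hw' : ∀ a, y (D.P.root a) ≤ 0 → w a = 0 := fun a ha => hw a (by
    by_contra h0
    have := h a (by omega)
    omega)
  have h1 := lau_cell (D := ch.datum D) (L := Finset.univ.toList) (k := fun a => y (D.P.root a))
    (θ := (ch.datum D).cochar (ca ch D y)) (fun a => rfl) (y := w) (fun a ha => hw' a ha.le) 1
  have h2 := (ch.datum D).eval0_cell Finset.univ.toList (k := fun a => y (D.P.root a)) (y := w)
    hw' 1
  rw [i_one'] at h2
  exact (limOne_iff ch D y g).2 ⟨_, by rw [hco]; exact h1, h2⟩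

theorem limEx_of_limOne (h : ∀ a, 0 < x (D.P.root a) → 0 ≤ y (D.P.root a))
    (hg : LimOne (coch D x) g) : LimEx (coch D y) g := by
  have haff := D.reductive.1
  obtain ⟨ch⟩ := exists_chart G c
  obtain ⟨w, hw, hco⟩ := exists_cell ch hg
  have hw' : ∀ a, y (D.P.root a) < 0 → w a = 0 := fun a ha => hw a (by
    by_contra h0
    have := h a (by omega)
    omega)
  have h1 := lau_cell (D := ch.datum D) (L := Finset.univ.toList) (k := fun a => y (D.P.root a))
    (θ := (ch.datum D).cochar (ca ch D y)) (fun a => rfl) (y := w) hw' 1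
  exact (limEx_iff ch D y g).2 ⟨_, by rw [hco]; exact h1⟩

/-- **`P_G(x) ≤ P_G(y)`** if `y` is nonnegative on the roots on which `x` is nonnegative. -/
theorem limEx (h : ∀ a, 0 ≤ x (D.P.root a) → 0 ≤ y (D.P.root a))
    (hg : LimEx (coch D x) g) : LimEx (coch D y) g := by
  have haff := D.reductive.1
  obtain ⟨z, w, hz, hw, rfl⟩ := hg.exists_levi
  refine LimEx.mul (OrbConst.limEx (orbConst ?_ hz)) (limEx_of_limOne (fun a ha => h a ha.le) hw)
  intro a ha
  have h1 := h a ha.ge
  have e : D.P.root (D.P.reflectionPerm a a) = -D.P.root a := by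
    rw [RootPairing.root_reflectionPerm, RootPairing.reflection_apply_self]
  have h2 := h (D.P.reflectionPerm a a) (by rw [e, map_neg, ha, neg_zero])
  rw [e, map_neg] at h2
  omega

/-- `P_G(x) = P_G(y)` if `x` and `y` are nonnegative on the same roots. -/
theorem limEx_iff_of_signs (h : ∀ a, 0 ≤ x (D.P.root a) ↔ 0 ≤ y (D.P.root a)) :
    LimEx (coch D x) g ↔ LimEx (coch D y) g :=
  ⟨limEx fun a => (h a).1, limEx fun a => (h a).2⟩

theorem limOne_iff_of_signs (h : ∀ a, 0 < x (D.P.root a) ↔ 0 < y (D.P.root a)) :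
    LimOne (coch D x) g ↔ LimOne (coch D y) g :=
  ⟨limOne fun a => (h a).1, limOne fun a => (h a).2⟩

theorem orbConst_iff_of_signs (h : ∀ a, x (D.P.root a) = 0 ↔ y (D.P.root a) = 0) :
    OrbConst (coch D x) g ↔ OrbConst (coch D y) g :=
  ⟨orbConst fun a => (h a).1, orbConst fun a => (h a).2⟩

end signs

end Signs

section dyn

variable {S : Scheme.{u}} {G : Over S} [GrpObj G] {D : Red.SplitRed G}
  {x y : Module.Dual ℤ D.M} {H : Over S} [GrpObj H] {p : H ⟶ G}

/-- **(SG)** `P_G(λ)` only depends on the set of roots on which `λ` is nonnegative. -/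
theorem isDynP_of_signs (h : ∀ a, 0 ≤ x (D.P.root a) ↔ 0 ≤ y (D.P.root a))
    (hp : Parab.IsDynP (coch D x) p) : Parab.IsDynP (coch D y) p :=
  ⟨hp.isMonHom, hp.mono, fun X g => (hp.iff_ptP X g).trans
    (forall_congr' fun _ => forall_congr' fun _ => forall_congr' fun _ => forall_congr' fun _ =>
      Signs.limEx_iff_of_signs h)⟩

/-- `U_G(λ)` only depends on the set of roots on which `λ` is positive. -/
theorem isDynU_of_signs (h : ∀ a, 0 < x (D.P.root a) ↔ 0 < y (D.P.root a))
    (hp : Parab.IsDynU (coch D x) p) : Parab.IsDynU (coch D y) p :=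
  ⟨hp.isMonHom, hp.mono, fun X g => (hp.iff_ptU X g).trans
    (forall_congr' fun _ => forall_congr' fun _ => forall_congr' fun _ => forall_congr' fun _ =>
      Signs.limOne_iff_of_signs h)⟩

/-- `Z_G(λ)` only depends on the set of roots on which `λ` vanishes. -/
theorem isDynZ_of_signs (h : ∀ a, x (D.P.root a) = 0 ↔ y (D.P.root a) = 0)
    (hp : Parab.IsDynZ (coch D x) p) : Parab.IsDynZ (coch D y) p :=
  ⟨hp.isMonHom, hp.mono, fun X g => (hp.iff_ptZ X g).trans
    (forall_congr' fun _ => forall_congr' fun _ => forall_congr' fun _ => forall_congr' fun _ =>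
      Signs.orbConst_iff_of_signs h)⟩

end dyn

section can

variable {S : Scheme.{u}} {G : Over S} [GrpObj G] {D : Red.SplitRed G}
  {x : Module.Dual ℤ D.M} {H : Over S} [GrpObj H] {p : H ⟶ G}

/-- **(SG)** the canonical cocharacter has the same `P_G` -/
theorem isDynP_can_iff : Parab.IsDynP (coch D (can D.P x)) p ↔ Parab.IsDynP (coch D x) p :=
  ⟨isDynP_of_signs fun a => can_nonneg_iff D.P D.pairing_eq x a,
    isDynP_of_signs fun a => (can_nonneg_iff D.P D.pairing_eq x a).symm⟩

/-- the canonical cocharacter has the same `U_G` -/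
theorem isDynU_can_iff : Parab.IsDynU (coch D (can D.P x)) p ↔ Parab.IsDynU (coch D x) p :=
  ⟨isDynU_of_signs fun a => can_pos_iff D.P D.pairing_eq x a,
    isDynU_of_signs fun a => (can_pos_iff D.P D.pairing_eq x a).symm⟩

/-- the canonical cocharacter has the same `Z_G` -/
theorem isDynZ_can_iff : Parab.IsDynZ (coch D (can D.P x)) p ↔ Parab.IsDynZ (coch D x) p :=
  ⟨isDynZ_of_signs fun a => can_eq_zero_iff D.P D.pairing_eq x a,
    isDynZ_of_signs fun a => (can_eq_zero_iff D.P D.pairing_eq x a).symm⟩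

end can

end Groth.Agent.Sga3B.Par
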