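import Groth.Agent.Sga3B.Parab.PcU

/-!
# A subgroup of the form `P_G(λ)` has a Levi subgroup
-/

set_option autoImplicit false

universe u

open CategoryTheory MonoidalCategory CartesianMonoidalCategory MonObj GrpObj AlgebraicGeometry

namespace Groth.Agent.Sga3B.Par.LeviOfDyn383

open Groth.Agent.Sga3B.Parab

/-- `P_G(λ)` has a Levi subgroup (namely `Z_G(λ)`), a unipotent radical (namely `U_G(λ)`), and is
parabolic. -/
theorem exists_all (hg : DynGeomU.{u}) (h1 : DynK1.{u}) (h3 : DynK3.{u}) {S : Scheme.{u}}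
    {G P : Over S} [GrpObj G] [GrpObj P] (hG : Red.IsReductive G) (lam : Red.Gm S ⟶ G)
    [IsMonHom lam] (p : P ⟶ G) (hp : IsDynP lam p) :
    ∃ (U Z : Over S) (_ : GrpObj U) (_ : GrpObj Z) (u : U ⟶ P) (z : Z ⟶ P),
      IsDynU lam (u ≫ p) ∧ IsDynZ lam (z ≫ p) ∧ Red.IsParabolic p ∧
      Par.IsUnipotentRadical u ∧ Par.IsLevi z := by
  have hGa := hG.1
  obtain ⟨U, _, u', hu', -⟩ := DynExist998.exists_isDynU lam
  obtain ⟨Z, _, z', hz', -⟩ := DynExist998.exists_isDynZ lam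
  obtain ⟨u, rfl⟩ := DynLevi998.exists_uP hp hu'
  obtain ⟨z, rfl⟩ := DynLevi998.exists_zP hp hz'
  exact ⟨U, Z, inferInstance, inferInstance, u, z, hu', hz',
    pcU lam hg h1 h3 hG p hp u hu' z hz'⟩

/-- `P_G(λ)` has a Levi subgroup. -/
theorem isLevi_of_cochar (hg : DynGeomU.{u}) (h1 : DynK1.{u}) (h3 : DynK3.{u}) {S : Scheme.{u}}
    {G P : Over S} [GrpObj G] [GrpObj P] (hG : Red.IsReductive G) (lam : Red.Gm S ⟶ G)
    [IsMonHom lam] (p : P ⟶ G) (hp : IsDynP lam p) :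
    ∃ (L : Over S) (_ : GrpObj L) (l : L ⟶ P), Par.IsLevi l := by
  obtain ⟨_, Z, _, _, _, z, _, _, _, _, h⟩ := exists_all hg h1 h3 hG lam p hp
  exact ⟨Z, inferInstance, z, h⟩

end Groth.Agent.Sga3B.Par.LeviOfDyn383
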