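import Groth.Agent.Sga3B.Par.RelCoch742

/-!
# Relative cocharacters over a finite product of algebras
-/

set_option autoImplicit false
set_option linter.unusedSectionVars false

open LaurentPolynomial TensorProduct WithConv
open Groth.Agent.Books.DynBasic Groth.Agent.Books.DynLim
open Groth.Agent.Sga3B.Par.LRes Groth.Agent.Sga3B.Par.RelCoch742

universe u

namespace Groth.Agent.Sga3B.Par.PiCoch742

variable {A : Type u} [CommRing A] {H : Type u} [CommRing H] [HopfAlgebra A H]

section Change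

variable {B : Type u} [CommRing B] [Algebra A B] {B' : Type u} [CommRing B'] [Algebra A B']
variable {C : Type u} [CommRing C] [Algebra A C]
variable {D : Type u} [CommRing D] [Algebra A D]

/-- base change of a relative cocharacter -/
noncomputable def bcC (π : B →ₐ[A] B') (l : WithConv (H →ₐ[A] B[T;T⁻¹])) :
    WithConv (H →ₐ[A] B'[T;T⁻¹]) := mapPt (AddMonoidAlgebra.mapAlgHom ℤ π) l

lemma val_comp (l : WithConv (H →ₐ[A] B[T;T⁻¹])) (π : B →ₐ[A] B') (φ : B' →ₐ[A] C) (x : Cˣ) :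
    val l (φ.comp π) x = val (bcC π l) φ x := by
  rw [val, val, bcC, mapPt_comp', evL_comp_map]

lemma orbR_comp (l : WithConv (H →ₐ[A] B[T;T⁻¹])) (π : B →ₐ[A] B') (φ : B' →ₐ[A] C)
    (g : WithConv (H →ₐ[A] C)) : orbR l (φ.comp π) g = orbR (bcC π l) φ g := by
  rw [orbR, orbR, ← AlgHom.comp_assoc, val_comp]

lemma limExR_comp (l : WithConv (H →ₐ[A] B[T;T⁻¹])) (π : B →ₐ[A] B') (φ : B' →ₐ[A] C)
    (g : WithConv (H →ₐ[A] C)) : LimExR l (φ.comp π) g ↔ LimExR (bcC π l) φ g := by
  rw [LimExR, LimExR, orbR_comp]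

lemma limOneR_comp (l : WithConv (H →ₐ[A] B[T;T⁻¹])) (π : B →ₐ[A] B') (φ : B' →ₐ[A] C)
    (g : WithConv (H →ₐ[A] C)) : LimOneR l (φ.comp π) g ↔ LimOneR (bcC π l) φ g := by
  rw [LimOneR, LimOneR, limExR_comp, orbR_comp]

lemma IsRC.bcC {l : WithConv (H →ₐ[A] B[T;T⁻¹])} (hl : IsRC l) (π : B →ₐ[A] B') :
    IsRC (bcC π l) := by
  intro C _ _ φ x y
  rw [← val_comp, ← val_comp, ← val_comp]
  exact hl C _ x y

/-- points can be compared on a jointly injective family -/
lemma eq_of_jointly {ι : Type*} {E : ι → Type u} [∀ i, CommRing (E i)] [∀ i, Algebra A (E i)]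
    (ψ : ∀ i, C →ₐ[A] E i) (hψ : ∀ c, (∀ i, ψ i c = 0) → c = 0) {g h : WithConv (H →ₐ[A] C)}
    (H : ∀ i, mapPt (ψ i) g = mapPt (ψ i) h) : g = h := by
  apply WithConv.ofConv_injective
  refine AlgHom.ext fun a => ?_
  rw [← sub_eq_zero]
  apply hψ
  intro i
  rw [map_sub, ← mapPt_apply, ← mapPt_apply, H i, sub_self]

end Change

section Comp

variable {ι : Type u} [Fintype ι] [DecidableEq ι] {Bi : ι → Type u} [∀ i, CommRing (Bi i)]
  [∀ i, Algebra A (Bi i)]
variable {C : Type u} [CommRing C] [Algebra A C]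
variable (φ : (∀ i, Bi i) →ₐ[A] C) (i : ι)

/-- the ideal of the `i`-th component -/
def cI : Ideal C := Ideal.span {1 - φ (Pi.single i 1)}

/-- the `i`-th component of `C` -/
abbrev Cq : Type u := C ⧸ cI φ i

/-- the projection to the `i`-th component of `C` -/
noncomputable def qI : C →ₐ[A] Cq φ i := Ideal.Quotient.mkₐ A _

lemma qI_single : qI φ i (φ (Pi.single i 1)) = 1 := by
  have h : qI φ i (1 - φ (Pi.single i 1)) = 0 :=
    Ideal.Quotient.eq_zero_iff_mem.2 (Ideal.subset_span rfl)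
  rw [map_sub, map_one, sub_eq_zero] at h
  exact h.symm

lemma qI_mul_single (b : ∀ i, Bi i) :
    qI φ i (φ (Pi.single i (b i))) = qI φ i (φ b) := by
  have h : Pi.single i (b i) = Pi.single (M := Bi) i 1 * b := by
    ext j
    by_cases hj : j = i
    · subst hj
      simp
    · rw [Pi.mul_apply, Pi.single_eq_of_ne hj, Pi.single_eq_of_ne hj, zero_mul]
  rw [h, map_mul, map_mul, qI_single, one_mul]

/-- the `i`-th component of `φ` -/
noncomputable def φI : Bi i →ₐ[A] Cq φ i where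
  toFun b := qI φ i (φ (Pi.single i b))
  map_one' := qI_single φ i
  map_mul' a b := by
    rw [Pi.single_mul, map_mul, map_mul]
  map_zero' := by
    rw [Pi.single_zero, map_zero, map_zero]
  map_add' a b := by
    rw [Pi.single_add, map_add, map_add]
  commutes' a := by
    have h := qI_mul_single φ i (algebraMap A (∀ i, Bi i) a)
    rw [Pi.algebraMap_apply] at h
    rw [h, AlgHom.commutes, AlgHom.commutes]

lemma qI_comp : (qI φ i).comp φ = (φI φ i).comp (Pi.evalAlgHom A Bi i) := by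
  refine AlgHom.ext fun b => ?_
  exact (qI_mul_single φ i b).symm

lemma jointly (c : C) (h : ∀ i, qI φ i c = 0) : c = 0 := by
  have h1 : ∀ i, c * φ (Pi.single i 1) = 0 := by
    intro i
    have h2 : c ∈ cI φ i := Ideal.Quotient.eq_zero_iff_mem.1 (h i)
    obtain ⟨d, hd⟩ := Ideal.mem_span_singleton'.1 h2
    rw [← hd, mul_assoc]
    have h3 : (1 - φ (Pi.single i 1)) * φ (Pi.single i 1) = 0 := by
      rw [sub_mul, one_mul, ← map_mul, ← Pi.single_mul, one_mul, sub_self]
    rw [h3, mul_zero]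
  have h2 : ∑ i, Pi.single (M := Bi) i 1 = 1 := by
    ext j
    rw [Finset.sum_apply, Finset.sum_eq_single j, Pi.single_eq_same, Pi.one_apply]
    · intro i _ hij
      rw [Pi.single_eq_of_ne hij.symm]
    · intro hj
      exact absurd (Finset.mem_univ j) hj
  calc c = c * φ (∑ i, Pi.single i 1) := by rw [h2, map_one, mul_one]
    _ = ∑ i, c * φ (Pi.single i 1) := by rw [map_sum, Finset.mul_sum]
    _ = 0 := Finset.sum_eq_zero fun i _ => h1 i

end Comp

section Glue

variable {ι : Type u} [Fintype ι] [DecidableEq ι] {Bi : ι → Type u} [∀ i, CommRing (Bi i)]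
  [∀ i, Algebra A (Bi i)]

variable (A Bi) in
/-- Laurent polynomials over a product -/
noncomputable def toPi : (∀ i, Bi i)[T;T⁻¹] →ₐ[A] ∀ i, (Bi i)[T;T⁻¹] :=
  AlgHom.pi (fun i => AddMonoidAlgebra.mapAlgHom ℤ (Pi.evalAlgHom A Bi i))

lemma toPi_bijective : Function.Bijective (toPi A Bi) := by
  constructor
  · rw [injective_iff_map_eq_zero]
    intro f hf
    ext n i
    have h1 := congrArg (fun z => (z i).coeff n) hf
    change ((AddMonoidAlgebra.mapAlgHom ℤ (Pi.evalAlgHom A Bi i) f).coeff n) = 0 at h1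
    rw [AddMonoidAlgebra.coeff_mapAlgHom] at h1
    exact h1
  · intro g
    have key : ∀ (i : ι) (f : (Bi i)[T;T⁻¹]), ∃ F : (∀ i, Bi i)[T;T⁻¹],
        toPi A Bi F = Pi.single i f := by
      intro i f
      induction f using LaurentPolynomial.induction_on' with
      | add p q hp hq =>
        obtain ⟨P, hP⟩ := hp
        obtain ⟨Q, hQ⟩ := hq
        exact ⟨P + Q, by rw [map_add, hP, hQ, Pi.single_add]⟩
      | C_mul_T n b =>
        refine ⟨C (Pi.single i b) * T n, ?_⟩
        rw [← single_eq_C_mul_T, ← single_eq_C_mul_T]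
        funext j
        change AddMonoidAlgebra.mapAlgHom ℤ (Pi.evalAlgHom A Bi j) _ = _
        rw [AddMonoidAlgebra.mapAlgHom_single]
        by_cases hj : j = i
        · subst hj
          simp
        · rw [Pi.single_eq_of_ne hj, Pi.evalAlgHom_apply, Pi.single_eq_of_ne hj,
            AddMonoidAlgebra.single_zero]
    choose F hF using key
    refine ⟨∑ i, F i (g i), ?_⟩
    rw [map_sum]
    simp only [hF]
    exact Finset.univ_sum_single g

/-- gluing relative cocharacters -/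
noncomputable def glue (l : ∀ i, WithConv (H →ₐ[A] (Bi i)[T;T⁻¹])) :
    WithConv (H →ₐ[A] (∀ i, Bi i)[T;T⁻¹]) :=
  toConv (((AlgEquiv.ofBijective (toPi A Bi) toPi_bijective).symm :
    (∀ i, (Bi i)[T;T⁻¹]) →ₐ[A] (∀ i, Bi i)[T;T⁻¹]).comp
    (AlgHom.pi fun i => (l i).ofConv))

variable (l : ∀ i, WithConv (H →ₐ[A] (Bi i)[T;T⁻¹]))

@[simp] lemma bcC_glue (i : ι) : bcC (Pi.evalAlgHom A Bi i) (glue l) = l i := by
  apply WithConv.ofConv_injective
  refine AlgHom.ext fun a => ?_
  have h := (AlgEquiv.ofBijective (toPi A Bi) toPi_bijective).apply_symm_apply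
    (AlgHom.pi (fun i => (l i).ofConv) a)
  exact congrFun h i

variable {l} {C : Type u} [CommRing C] [Algebra A C]

lemma mapPt_val_glue (φ : (∀ i, Bi i) →ₐ[A] C) (i : ι) (x : Cˣ) :
    mapPt (qI φ i) (val (glue l) φ x) =
      val (l i) (φI φ i) (Units.map (qI φ i : C →* Cq φ i) x) := by
  rw [mapPt_val, qI_comp, val_comp, bcC_glue]

lemma isRC_glue (h : ∀ i, IsRC (l i)) : IsRC (glue l) := by
  intro C _ _ φ x y
  apply eq_of_jointly (qI φ) (jointly φ)
  intro i
  rw [map_mul, mapPt_val_glue, mapPt_val_glue, mapPt_val_glue, map_mul]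
  exact h i _ _ _ _

lemma limExR_glue (h : ∀ (i : ι) (C : Type u) [CommRing C] [Algebra A C] (φ : Bi i →ₐ[A] C)
      (g : WithConv (H →ₐ[A] C)), LimExR (l i) φ g) (φ : (∀ i, Bi i) →ₐ[A] C)
      (g : WithConv (H →ₐ[A] C)) : LimExR (glue l) φ g := by
  apply limExR_of_jointly (qI φ) (jointly φ)
  intro i
  rw [qI_comp, limExR_comp, bcC_glue]
  exact h i _ _ _

lemma hu_glue (h : ∀ (i j : ι) (C : Type u) [CommRing C] [Algebra A C] (φ : Bi i →ₐ[A] C)
      (φ' : Bi j →ₐ[A] C) (x : Cˣ), LimOneR (l i) φ (val (l i) φ x * (val (l j) φ' x)⁻¹))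
      (φ φ' : (∀ i, Bi i) →ₐ[A] C) (x : Cˣ) :
    LimOneR (glue l) φ (val (glue l) φ x * (val (glue l) φ' x)⁻¹) := by
  apply limOneR_of_jointly (qI φ) (jointly φ)
  intro i
  rw [map_mul, map_inv, mapPt_val_glue, mapPt_val]
  apply limOneR_of_jointly (qI ((qI φ i).comp φ')) (jointly ((qI φ i).comp φ'))
  intro j
  rw [map_mul, map_inv, mapPt_val, mapPt_val_glue]
  rw [qI_comp φ, ← AlgHom.comp_assoc, limOneR_comp, bcC_glue]
  exact h i j _ _ _ _

end Glue

end Groth.Agent.Sga3B.Par.PiCoch742
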