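import Groth.Agent.Sga3B.Par.CochTor
import Groth.Agent.Sga3B.Par.PiCoch742
import Groth.Agent.Sga3B.Parab.DynSmooth678

/-!
# Descent of relative cocharacters modulo the unipotent radical

The theorem `CochTor.exists_cochar` in the language of `RelCoch742`.
-/

set_option autoImplicit false

open LaurentPolynomial TensorProduct WithConv
open Groth.Agent.Books.DynBasic Groth.Agent.Books.DynLim
open Groth.Agent.Sga3B.Par.LRes Groth.Agent.Sga3B.Par.RelCoch742 Groth.Agent.Sga3B.Par.PiCoch742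

universe u

namespace Groth.Agent.Sga3B.Par.TPrime827

open CochBC CochTor

variable {A B H C : Type u} [CommRing A] [CommRing B] [Algebra A B] [CommRing H] [HopfAlgebra A H]
  [CommRing C] [Algebra A C]

lemma evS_eq_evL (φ : B →ₐ[A] C) (x : Cˣ) : evS φ x = evL φ x := by
  apply algHom_ext_L
  · intro b
    rw [evS_C, evL_C]
  · rw [evS_T, evL_T]

lemma Ls_lamOf (l : WithConv (H →ₐ[A] B[T;T⁻¹])) (hl : IsRC l) (φ : B →ₐ[A] C) (x : Cˣ) :
    Ls (lamOf l hl) φ x = val l φ x := by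
  apply WithConv.ofConv_injective
  refine AlgHom.ext fun h => ?_
  change evS φ x ((lamOf l hl : B ⊗[A] H →ₐ[B] B[T;T⁻¹]) (1 ⊗ₜ h)) = evL φ x (l.ofConv h)
  rw [lamOf_coe, evS_eq_evL, lamAlg, up_apply_tmul, one_smul]

lemma orbG_lamOf (l : WithConv (H →ₐ[A] B[T;T⁻¹])) (hl : IsRC l) (φ : B →ₐ[A] C)
    (g : WithConv (H →ₐ[A] C)) : orbG (lamOf l hl) φ g = orbR l φ g := by
  rw [orbG_apply, orbR, Ls_lamOf]

lemma mem_Us_of_limOneR (l : WithConv (H →ₐ[A] B[T;T⁻¹])) (hl : IsRC l) (φ : B →ₐ[A] C)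
    {g : WithConv (H →ₐ[A] C)} (h : LimOneR l φ g) : g ∈ Us (lamOf l hl) φ := by
  obtain ⟨q, hq⟩ := (exists_comp_tl_iff (orbG (lamOf l hl) φ g).ofConv).2 (by
    intro a n hn
    rw [orbG_lamOf]
    exact h.1 n hn a)
  refine ⟨toConv q, ?_, ?_⟩
  · apply WithConv.ofConv_injective
    refine AlgHom.ext fun a => ?_
    change ev0 A C (q a) = _
    rw [ev0_apply]
    have h1 : (Polynomial.toLaurent (q a)).coeff ((0 : ℕ) : ℤ) = (q a).coeff 0 :=
      coeff_toLaurent_nat _ _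
    have h2 : Polynomial.toLaurent (q a) = (orbG (lamOf l hl) φ g).ofConv a :=
      DFunLike.congr_fun hq a
    rw [← h1, h2, orbG_lamOf]
    exact h.2 a
  · apply WithConv.ofConv_injective
    exact hq

lemma cong_of_limOneR (l : WithConv (H →ₐ[A] B[T;T⁻¹])) (hl : IsRC l) (σ₁ σ₂ : B →ₐ[A] C)
    (h : LimOneR l ((cst A C).comp σ₁)
      (val l ((cst A C).comp σ₁) (uT C) * (val l ((cst A C).comp σ₂) (uT C))⁻¹)) :
    Cong (lamOf l hl) σ₁ σ₂ := by
  have h1 := inv_mem (mem_Us_of_limOneR l hl _ h)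
  rw [mul_inv_rev, inv_inv] at h1
  rw [Cong, Ls_lamOf, Ls_lamOf]
  exact h1

/-- **(T')** -/
theorem tprime [Module.FaithfullyFlat A B] [Algebra.Smooth A H]
    (l : WithConv (H →ₐ[A] B[T;T⁻¹])) (hl : IsRC l)
    (hu : ∀ (C : Type u) [CommRing C] [Algebra A C] (φ φ' : B →ₐ[A] C) (x : Cˣ),
      LimOneR l φ (val l φ x * (val l φ' x)⁻¹)) :
    ∃ (l0 : WithConv (H →ₐ[A] A[T;T⁻¹])) (v : WithConv (H →ₐ[A] B)), IsRC l0 ∧
      v ∈ Us (lamOf l hl) (AlgHom.id A B) ∧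
      bcC (Algebra.ofId A B) l0 = mapPt (cst A B) v * l * (mapPt (cst A B) v)⁻¹ := by
  have h0 : Cong (lamOf l hl) (Algebra.TensorProduct.includeLeft : B →ₐ[A] B ⊗[A] B)
      Algebra.TensorProduct.includeRight :=
    cong_of_limOneR (C := B ⊗[A] B) l hl _ _ (hu _ _ _ _)
  obtain ⟨lam0, u, hu1, hu2⟩ := exists_cochar (lamOf l hl) h0
  refine ⟨toConv (lam0 : H →ₐ[A] A[T;T⁻¹]), CochBC.res A B H B u, ?_, ?_, ?_⟩
  · intro C _ _ φ x y
    have h1 : ∀ x : Cˣ, val (toConv (lam0 : H →ₐ[A] A[T;T⁻¹])) φ x = lamU lam0 x := by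
      intro x
      have h2 : evL φ x = evU A x := by
        apply algHom_ext_T
        rw [evL_T, evU_T]
      rw [val, h2]
      rfl
    rw [h1, h1, h1, map_mul]
  · exact (mem_USub_iff' (lamOf l hl) u).1 hu1
  · apply WithConv.ofConv_injective
    refine AlgHom.ext fun h => ?_
    refine (hu2 h).trans ?_
    have h3 : mapPt (cst A B) (CochBC.res A B H B u) * l *
        (mapPt (cst A B) (CochBC.res A B H B u))⁻¹ = CochBC.res A B H B[T;T⁻¹]
        (mapPt (cst B B) u * lamU (lamOf l hl) (uT B) * (mapPt (cst B B) u)⁻¹) := by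
      rw [map_mul, map_mul, map_inv, ← Ls_eq, Ls_lamOf]
      change _ = _ * val l (cst A B) (uT B) * _
      rw [val_self]
      rfl
    rw [h3]
    rfl

/-- **(T')** in the form of helper742 -/
theorem tprime' [Module.FaithfullyFlat A B] [Algebra.Smooth A H]
    (l : WithConv (H →ₐ[A] B[T;T⁻¹])) (hl : IsRC l)
    (_hP : ∀ (C : Type u) [CommRing C] [Algebra A C] (φ : B →ₐ[A] C)
      (g : WithConv (H →ₐ[A] C)), LimExR l φ g)
    (hu : ∀ (C : Type u) [CommRing C] [Algebra A C] (φ φ' : B →ₐ[A] C) (x : Cˣ),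
      LimOneR l φ (val l φ x * (val l φ' x)⁻¹)) :
    ∃ (l0 : WithConv (H →ₐ[A] A[T;T⁻¹])) (v : WithConv (H →ₐ[A] B)), IsRC l0 ∧
      bcC (Algebra.ofId A B) l0 = mapPt (cst A B) v * l * (mapPt (cst A B) v)⁻¹ := by
  obtain ⟨l0, v, h1, -, h2⟩ := tprime l hl hu
  exact ⟨l0, v, h1, h2⟩

end Groth.Agent.Sga3B.Par.TPrime827
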