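import Groth.Agent.Sga3B.Par.LeviConj
import Groth.Agent.Sga3B.DSPts
import Groth.Agent.Sga3B.BcIso

/-!
# Base change of semidirect decompositions and of local data
-/

set_option autoImplicit false

universe u

open CategoryTheory MonoidalCategory CartesianMonoidalCategory AlgebraicGeometry
open scoped MonObj

namespace Groth.Agent.Sga3B.Par.LocBC

open LeviProj LeviConj

variable {S S' : Scheme.{u}} {P U L L' : Over S} [GrpObj P] [GrpObj U] [GrpObj L] [GrpObj L']

/-- a criterion on points for being a semidirect product -/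
lemma isSemi_of_points {l : L ⟶ P} {u : U ⟶ P} (hl : IsMonHom l) (hu : IsMonHom u) (hm : Mono u)
    (hn : AlgGrp.IsNormalHom u)
    (hex : ∀ (X : Over S) (g : X ⟶ P), ∃ (a : X ⟶ L) (b : X ⟶ U), (a ≫ l) * (b ≫ u) = g)
    (huniq : ∀ (X : Over S) (a a' : X ⟶ L) (b b' : X ⟶ U),
      (a ≫ l) * (b ≫ u) = (a' ≫ l) * (b' ≫ u) → a = a' ∧ b = b') : IsSemi l u := by
  refine ⟨hl, hu, hm, hn, ?_⟩
  obtain ⟨a, b, hab⟩ := hex P (𝟙 P)
  refine ⟨lift a b, ?_, ?_⟩
  · have h1 : ((l ⊗ₘ u) ≫ μ) ≫ lift a b ≫ (l ⊗ₘ u) ≫ μ = (l ⊗ₘ u) ≫ μ := by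
      rw [lift_mul, hab, Category.comp_id]
    have h2 : ((((l ⊗ₘ u) ≫ μ) ≫ a) ≫ l) * ((((l ⊗ₘ u) ≫ μ) ≫ b) ≫ u) =
        (fst L U ≫ l) * (snd L U ≫ u) := by
      rw [← lift_mul, ← lift_mul]
      have e1 : lift (((l ⊗ₘ u) ≫ μ) ≫ a) (((l ⊗ₘ u) ≫ μ) ≫ b) = ((l ⊗ₘ u) ≫ μ) ≫ lift a b := by
        apply CartesianMonoidalCategory.hom_ext <;> simp
      have e2 : lift (fst L U) (snd L U) = 𝟙 _ := by
        apply CartesianMonoidalCategory.hom_ext <;> simp
      rw [e1, e2, Category.id_comp, Category.assoc]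
      exact h1
    obtain ⟨h3, h4⟩ := huniq _ _ _ _ _ h2
    apply CartesianMonoidalCategory.hom_ext
    · rw [Category.assoc, lift_fst, Category.id_comp]
      exact h3
    · rw [Category.assoc, lift_snd, Category.id_comp]
      exact h4
  · rw [lift_mul, hab]

section Bc

variable {l : L ⟶ P} {u : U ⟶ P} (h : IsSemi l u) (f : S' ⟶ S)

include h in
lemma IsSemi.bc : IsSemi ((Over.pullback f).map l) ((Over.pullback f).map u) := by
  have := h.monHom_l
  have := h.monHom_u
  have := h.mono_u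
  apply isSemi_of_points
  · infer_instance
  · infer_instance
  · infer_instance
  · intro X g n
    obtain ⟨n', hn'⟩ := h.normal _ ((DSPts.bcEquiv f X P).symm g) ((DSPts.bcEquiv f X U).symm n)
    refine ⟨DSPts.bcEquiv f X U n', ?_⟩
    rw [DSPts.bcEquiv_comp, ← hn', map_mul, map_mul, map_inv, MulEquiv.apply_symm_apply,
      ← DSPts.bcEquiv_comp, MulEquiv.apply_symm_apply]
  · intro X g
    obtain ⟨a, b, hab⟩ := exists_fac h ((DSPts.bcEquiv f X P).symm g)
    refine ⟨DSPts.bcEquiv f X L a, DSPts.bcEquiv f X U b, ?_⟩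
    rw [DSPts.bcEquiv_comp, DSPts.bcEquiv_comp, ← map_mul, hab, MulEquiv.apply_symm_apply]
  · intro X a a' b b' hh
    obtain ⟨a, rfl⟩ := (DSPts.bcEquiv f X L).surjective a
    obtain ⟨a', rfl⟩ := (DSPts.bcEquiv f X L).surjective a'
    obtain ⟨b, rfl⟩ := (DSPts.bcEquiv f X U).surjective b
    obtain ⟨b', rfl⟩ := (DSPts.bcEquiv f X U).surjective b'
    rw [DSPts.bcEquiv_comp, DSPts.bcEquiv_comp, DSPts.bcEquiv_comp, DSPts.bcEquiv_comp,
      ← map_mul, ← map_mul] at hh
    obtain ⟨h1, h2⟩ := fac_unique h ((DSPts.bcEquiv f X P).injective hh)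
    rw [h1, h2]
    exact ⟨rfl, rfl⟩

lemma prL_bc : (Over.pullback f).map (prL h) = prL (IsSemi.bc h f) := by
  have := h.monHom_l
  have := h.monHom_u
  obtain ⟨a, b, hab⟩ := exists_fac (IsSemi.bc h f) (𝟙 _)
  have h1 : prL (IsSemi.bc h f) = a := by
    have := fac_prL (IsSemi.bc h f) a b
    rwa [hab, Category.id_comp] at this
  have h2 : (Over.pullback f).map (prL h) = a := by
    have e1 : (Over.pullback f).map u ≫ (Over.pullback f).map (prL h) = 1 := by
      rw [← Functor.map_comp]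
      have e := u_prL h (𝟙 U)
      rw [Category.id_comp] at e
      rw [e]
      have e2 := DSPts.bcEquiv_comp f (Red.bc f U) ((DSPts.bcEquiv f (Red.bc f U) U).symm (𝟙 _))
        (1 : U ⟶ L)
      rw [MulEquiv.apply_symm_apply, Category.id_comp, MonObj.comp_one, map_one] at e2
      exact e2
    have e2 : (Over.pullback f).map l ≫ (Over.pullback f).map (prL h) = 𝟙 _ := by
      rw [← Functor.map_comp, l_prL, CategoryTheory.Functor.map_id]
    rw [← Category.id_comp ((Over.pullback f).map (prL h)), ← hab, MonObj.mul_comp, Category.assoc,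
      Category.assoc, e1, e2, MonObj.comp_one, mul_one, Category.comp_id]
  rw [h1, h2]

end Bc

/-- a scheme over `S` with a map to `f_* M` is a scheme over `S'`. -/
lemma exists_over (f : S' ⟶ S) {M : Over S'} {Y : Over S} (t : Y ⟶ (Over.map f).obj M) :
    ∃ (Y' : Over S') (j : (Over.map f).obj Y' ≅ Y) (t' : Y' ⟶ M), (Over.map f).map t' = j.hom ≫ t := by
  have ht : t.left ≫ M.hom ≫ f = Y.hom := Over.w t
  refine ⟨Over.mk (t.left ≫ M.hom), Over.isoMk (Iso.refl _) ?_, Over.homMk t.left rfl, ?_⟩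
  · change 𝟙 _ ≫ Y.hom = (t.left ≫ M.hom) ≫ f
    rw [Category.id_comp, Category.assoc, ht]
  · apply Over.OverMorphism.ext
    change t.left = 𝟙 _ ≫ t.left
    rw [Category.id_comp]

section Loc

variable {l : L ⟶ P} {l' : L' ⟶ P} {u : U ⟶ P} {h : IsSemi l u} {h' : IsSemi l' u}
variable (f : S' ⟶ S) [Flat f] [LocallyOfFinitePresentation f]

/-- local data descends along a flat morphism locally of finite presentation -/
noncomputable def ofBC {s' : S'} {s : S} (hs : f s' = s)
    (D : LocData (IsSemi.bc h f) (IsSemi.bc h' f) s') : LocData h h' s where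
  S' := D.S'
  f := D.f ≫ f
  flat := by
    have := D.flat
    infer_instance
  lfp := by
    have := D.lfp
    infer_instance
  mem := by
    obtain ⟨x, hx⟩ := D.mem
    exact ⟨x, by rw [Scheme.Hom.comp_apply, hx, hs]⟩
  M := (Over.map f).obj D.M
  m := (Over.map f).map D.m
  lam := (DSPts.bcEquiv f D.M P).symm D.lam
  comm := by
    intro Y a t
    obtain ⟨Y', j, t', ht'⟩ := exists_over f t
    rw [← cancel_epi j.hom]
    rw [MonObj.comp_mul, MonObj.comp_mul, ← Category.assoc j.hom t, ← ht',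
      DSPts.bcEquiv_symm_naturality, ← Category.assoc j.hom a]
    apply (DSPts.bcEquiv f Y' P).injective
    rw [map_mul, map_mul, MulEquiv.apply_symm_apply, ← DSPts.bcEquiv_comp]
    exact D.comm Y' _ t'
  fac := by
    obtain ⟨lamL, hL⟩ := D.fac
    refine ⟨(DSPts.bcEquiv f D.M L).symm lamL, ?_⟩
    apply (DSPts.bcEquiv f D.M P).injective
    rw [← DSPts.bcEquiv_comp, MulEquiv.apply_symm_apply, MulEquiv.apply_symm_apply, hL]
  triv := by
    intro Y y b hb
    obtain ⟨Y', j, y', hy'⟩ := exists_over f (M := Over.mk D.f) y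
    rw [← cancel_epi j.hom, MonObj.comp_one]
    apply (DSPts.bcEquiv f Y' U).injective
    rw [map_one]
    apply D.triv Y' y'
    intro Y'' x t hxt
    have e := hb ((Over.map f).obj Y'') ((Over.map f).map x ≫ j.hom) ((Over.map f).map t) (by
      rw [← Functor.map_comp, hxt, Functor.map_comp, hy', Category.assoc])
    rw [DSPts.bcEquiv_symm_naturality] at e
    have e2 := congrArg (DSPts.bcEquiv f Y'' P) e
    rw [map_mul, map_mul, MulEquiv.apply_symm_apply] at e2
    have e3 : x ≫ (DSPts.bcEquiv f Y' U) (j.hom ≫ b) ≫ (Over.pullback f).map u =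
        DSPts.bcEquiv f Y'' P (((Over.map f).map x ≫ j.hom) ≫ b ≫ u) := by
      rw [DSPts.bcEquiv_comp, DSPts.bcEquiv_naturality]
      simp only [Category.assoc]
    rw [e3]
    exact e2
  exists_conj := by
    obtain ⟨v, hv⟩ := D.exists_conj
    refine ⟨(DSPts.bcEquiv f (Over.mk D.f) U).symm v, ?_⟩
    intro Y t
    obtain ⟨Y', j, t', ht'⟩ := exists_over f t
    rw [← cancel_epi j.hom]
    apply (DSPts.bcEquiv f Y' P).injective
    have e := hv Y' t'
    rw [← prL_bc, ← Category.assoc] at e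
    rw [MonObj.comp_mul, MonObj.comp_mul, GrpObj.comp_inv, map_mul, map_mul, map_inv]
    have e1 : (DSPts.bcEquiv f Y' P) (j.hom ≫ t ≫ (Over.map f).map D.m ≫
        (DSPts.bcEquiv f (Over.mk D.f) U).symm v ≫ u) =
        (t' ≫ D.m) ≫ v ≫ (Over.pullback f).map u := by
      rw [← Category.assoc j.hom, ← ht', ← Category.assoc, ← Functor.map_comp, ← Category.assoc,
        DSPts.bcEquiv_symm_naturality, ← DSPts.bcEquiv_comp, MulEquiv.apply_symm_apply,
        Category.assoc]
    have e2 : (DSPts.bcEquiv f Y' P) (j.hom ≫ t ≫ (DSPts.bcEquiv f D.M P).symm D.lam) =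
        t' ≫ D.lam := by
      rw [← Category.assoc j.hom, ← ht', DSPts.bcEquiv_symm_naturality, MulEquiv.apply_symm_apply]
    have e3 : (DSPts.bcEquiv f Y' P) (j.hom ≫ t ≫ (DSPts.bcEquiv f D.M P).symm D.lam ≫
        prL h' ≫ l') =
        t' ≫ D.lam ≫ (Over.pullback f).map (prL h') ≫ (Over.pullback f).map l' := by
      rw [← Functor.map_comp, ← Category.assoc j.hom, ← ht', ← Category.assoc,
        DSPts.bcEquiv_symm_naturality, ← DSPts.bcEquiv_comp, MulEquiv.apply_symm_apply,
        Category.assoc]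
    rw [e1, e2, e3]
    exact e

end Loc

end Groth.Agent.Sga3B.Par.LocBC
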