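import Groth.Agent.Sga3B.Parab.DynBc998

/-!
# Base change of affine charts of group schemes

`e : Red.bc r G ≅ Spec A` a chart over `r : Spec R ⟶ S`, `B` an `R`-algebra, `h : S' ⟶ S`,
`r' : Spec B ⟶ S'` with `r' ≫ h = (Spec B ⟶ Spec R) ≫ r`.  Then `Red.bc r' (Red.bc h G) ≅ Spec (B ⊗ A)`
(`bcChart`), and points (`dn_pt`) and cocharacters (`lamAlg_bcChart`) correspond.
-/

set_option autoImplicit false
universe u

open CategoryTheory MonoidalCategory CartesianMonoidalCategory MonObj GrpObj AlgebraicGeometry Limits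
open scoped LaurentPolynomial Polynomial TensorProduct
open WithConv
open Groth.Agent.Books.AffBridge Groth.Agent.Books.DynBasic Groth.Agent.Books.DynLim
open Groth.Agent.Sga3B.Parab Groth.Agent.Sga3B.Parab.Chart998 Groth.Agent.Sga3B.Parab.DynBc998

namespace Groth.Agent.Sga3B.Par.BcChart895

section spec

variable (R B A : Type u) [CommRing R] [CommRing B] [Algebra R B] [CommRing A] [HopfAlgebra R A]

/-- `Spec B ⟶ Spec R` -/
noncomputable abbrev spf : Spec (CommRingCat.of B) ⟶ Spec (CommRingCat.of R) :=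
  Spec.map (CommRingCat.ofHom (algebraMap R B))

/-- the comparison map `Red.bc (Spec A) ⟶ Spec (B ⊗ A)` -/
noncomputable def bcSpecHom : Red.bc (spf R B) (SpecOver R A) ⟶ SpecOver B (B ⊗[R] A) :=
  (pullbackSymmetry .. ≪≫ pullbackSpecIso' R B A).hom.asOver (Spec (.of B))

instance isMonHom_bcSpecHom : IsMonHom (bcSpecHom R B A) :=
  inferInstanceAs (IsMonHom ((pullbackSymmetry .. ≪≫ pullbackSpecIso' R B A).hom.asOver (Spec (.of B))))

lemma bcSpecHom_left : (bcSpecHom R B A).left =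
    (pullbackSymmetry _ _ ≪≫ pullbackSpecIso' R B A).hom := rfl

instance isIso_bcSpecHom : IsIso (bcSpecHom R B A) := by
  have h1 : IsIso (bcSpecHom R B A).left := by
    rw [bcSpecHom_left]
    infer_instance
  have : IsIso ((Over.forget _).map (bcSpecHom R B A)) := h1
  exact isIso_of_reflects_iso _ (Over.forget _)

/-- `Red.bc (Spec A) ≅ Spec (B ⊗ A)` -/
noncomputable def bcSpec : Red.bc (spf R B) (SpecOver R A) ≅ SpecOver B (B ⊗[R] A) :=
  asIso (bcSpecHom R B A)

instance isMonHom_bcSpec_hom : IsMonHom (bcSpec R B A).hom := isMonHom_bcSpecHom R B A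

/-- the projection `Spec (B ⊗ A) ⟶ Spec A` -/
noncomputable def inR : (SpecOver B (B ⊗[R] A)).left ⟶ (SpecOver R A).left :=
  Spec.map (CommRingCat.ofHom (Algebra.TensorProduct.includeRight : A →ₐ[R] B ⊗[R] A).toRingHom)

lemma bcSpec_hom_left_comp : (bcSpec R B A).hom.left ≫ inR R B A =
      pullback.fst (SpecOver R A).hom (spf R B) := by
  change ((pullbackSymmetry _ _).hom ≫ (pullbackSpecIso R B A).hom) ≫ _ = _
  rw [Category.assoc]
  refine (congrArg (fun z => (pullbackSymmetry _ _).hom ≫ z) (pullbackSpecIso_hom_snd R B A)).trans ?_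
  exact pullbackSymmetry_hom_comp_snd _ _

lemma bcSpec_inv_left_comp : (bcSpec R B A).inv.left ≫ pullback.fst (SpecOver R A).hom (spf R B) =
    inR R B A := by
  have h1 : (bcSpec R B A).inv.left ≫ (bcSpec R B A).hom.left = 𝟙 _ := by
    rw [← Over.comp_left, Iso.inv_hom_id]
    rfl
  rw [← bcSpec_hom_left_comp, ← Category.assoc, h1, Category.id_comp]

end spec

section chart

variable {S S' : Scheme.{u}} {R B A : Type u} [CommRing R] [CommRing B] [Algebra R B] [CommRing A]
  [HopfAlgebra R A]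
variable (h : S' ⟶ S) {G : Over S} [GrpObj G] {r : Spec (CommRingCat.of R) ⟶ S}
  {r' : Spec (CommRingCat.of B) ⟶ S'} (hr : r' ≫ h = spf R B ≫ r)
variable (e : Red.bc r G ≅ SpecOver R A) [IsMonHom e.hom]

/-- the base change of a chart, as an isomorphism of groups -/
noncomputable def bcGrpIso : Grp.mk (Red.bc r' (Red.bc h G)) ≅ Grp.mk (SpecOver B (B ⊗[R] A)) :=
  (BcIso.bcCompIso r' h G).symm ≪≫ BcIso.bcCongrIso hr G ≪≫ BcIso.bcCompIso (spf R B) r G ≪≫
    BcIso.bcMapIso (spf R B) (Grp.mkIso' e) ≪≫ Grp.mkIso' (bcSpec R B A)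

/-- the base change of a chart -/
noncomputable def bcChart : Red.bc r' (Red.bc h G) ≅ SpecOver B (B ⊗[R] A) where
  hom := (bcGrpIso h hr e).hom.hom.hom
  inv := (bcGrpIso h hr e).inv.hom.hom
  hom_inv_id := congrArg (fun k => k.hom.hom) (bcGrpIso h hr e).hom_inv_id
  inv_hom_id := congrArg (fun k => k.hom.hom) (bcGrpIso h hr e).inv_hom_id

instance isMonHom_bcChart_hom : IsMonHom (bcChart h hr e).hom := (bcGrpIso h hr e).hom.hom.isMonHom_hom

lemma mkIso'_hom {X Y : Over S} [GrpObj X] [GrpObj Y] (i : X ≅ Y) [IsMonHom i.hom] :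
    (Grp.mkIso' i).hom.hom.hom = i.hom := rfl

lemma mkIso'_inv {X Y : Over S} [GrpObj X] [GrpObj Y] (i : X ≅ Y) [IsMonHom i.hom] :
    (Grp.mkIso' i).inv.hom.hom = i.inv := rfl

omit [IsMonHom e.hom] [Algebra R B] in
lemma bcCompIso_inv_left (q : Spec (CommRingCat.of B) ⟶ Spec (CommRingCat.of R)) :
    (BcIso.bcCompIso q r G).inv.hom.hom.left ≫ pullback.fst G.hom (q ≫ r) =
      pullback.fst (Red.bc r G).hom q ≫ pullback.fst G.hom r := by
  rw [← bcCompIso_left]
  have h1 : (BcIso.bcCompIso q r G).inv.hom.hom.left ≫ (BcIso.bcCompIso q r G).hom.hom.hom.left =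
      𝟙 _ := by
    rw [← Over.comp_left]
    exact congrArg (fun k => k.hom.hom.left) (BcIso.bcCompIso q r G).inv_hom_id
  rw [← Category.assoc, h1, Category.id_comp]

lemma bcChart_inv_left :
    (bcChart h hr e).inv.left ≫ pullback.fst (Red.bc h G).hom r' ≫ pullback.fst G.hom h =
    inR R B A ≫ e.inv.left ≫ pullback.fst G.hom r := by
  have h0 : (bcChart h hr e).inv.left =
      (bcSpec R B A).inv.left ≫ ((Over.pullback (spf R B)).map e.inv).left ≫
      (BcIso.bcCompIso (spf R B) r G).inv.hom.hom.left ≫ (BcIso.bcCongrIso hr G).inv.hom.hom.left ≫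
      (BcIso.bcCompIso r' h G).hom.hom.hom.left := by
    change (((((bcSpec R B A).inv.left ≫ ((Over.pullback (spf R B)).map e.inv).left) ≫
      (BcIso.bcCompIso (spf R B) r G).inv.hom.hom.left) ≫
      (BcIso.bcCongrIso hr G).inv.hom.hom.left)) ≫ (BcIso.bcCompIso r' h G).hom.hom.hom.left = _
    simp only [Category.assoc]
  have h5 : ((Over.pullback (spf R B)).map e.inv).left ≫ pullback.fst (Red.bc r G).hom (spf R B) =
    pullback.fst (SpecOver R A).hom (spf R B) ≫ e.inv.left := pullback.lift_fst _ _ _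
  rw [h0]
  simp only [Category.assoc]
  rw [bcCompIso_left, bcCongrIso_inv_left, bcCompIso_inv_left, reassoc_of% h5,
    ← bcSpec_inv_left_comp, Category.assoc]

end chart

section points

variable {S S' : Scheme.{u}} {R B A C : Type u} [CommRing R] [CommRing B] [Algebra R B] [CommRing A]
  [HopfAlgebra R A] [CommRing C] [Algebra R C] [Algebra B C] [IsScalarTower R B C]

/-- the restriction to `A` of an algebra map on `B ⊗ A` -/
noncomputable def res (g : B ⊗[R] A →ₐ[B] C) : A →ₐ[R] C :=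
  (g.restrictScalars R).comp Algebra.TensorProduct.includeRight

@[simp] lemma res_apply (g : B ⊗[R] A →ₐ[B] C) (a : A) : res g a = g (1 ⊗ₜ a) := rfl

lemma res_injective : Function.Injective (res : (B ⊗[R] A →ₐ[B] C) → (A →ₐ[R] C)) := by
  intro g g' h
  apply Algebra.TensorProduct.ext
  · ext
  · exact h

lemma res_surjective : Function.Surjective (res : (B ⊗[R] A →ₐ[B] C) → (A →ₐ[R] C)) := by
  intro g
  refine ⟨Algebra.TensorProduct.lift (Algebra.ofId B C) g (fun _ _ => .all _ _), ?_⟩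
  ext a
  simp

/-- The comultiplication of `B ⊗ A` on `1 ⊗ a`. -/
lemma comul_one_tmul (a : A) {I : Type*} (s : Finset I) (y z : I → A)
    (h : CoalgebraStruct.comul (R := R) a = ∑ i ∈ s, y i ⊗ₜ[R] z i) :
    CoalgebraStruct.comul (R := B) ((1 : B) ⊗ₜ[R] a) =
      ∑ i ∈ s, ((1 : B) ⊗ₜ[R] y i) ⊗ₜ[B] ((1 : B) ⊗ₜ[R] z i) := by
  rw [TensorProduct.comul_tmul, h, TensorProduct.tmul_sum, map_sum]
  refine Finset.sum_congr rfl fun i _ => ?_
  rw [CommSemiring.comul_apply]
  rfl

lemma res_mul (f g : WithConv (B ⊗[R] A →ₐ[B] C)) :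
    res (f * g).ofConv = (toConv (res f.ofConv) * toConv (res g.ofConv)).ofConv := by
  refine AlgHom.ext fun a => ?_
  have h1 := (Coalgebra.Repr.arbitrary R a).eq
  have h2 : (f * g).ofConv ((1 : B) ⊗ₜ[R] a) = _ := AlgHom.convMul_apply f g ((1 : B) ⊗ₜ[R] a)
  have h3 : (toConv (res f.ofConv) * toConv (res g.ofConv) :
      WithConv (A →ₐ[R] C)).ofConv a = _ :=
    AlgHom.convMul_apply (toConv (res f.ofConv)) (toConv (res g.ofConv)) a
  rw [res_apply, h2, h3, comul_one_tmul (B := B) a _ _ _ h1.symm, ← h1, map_sum, map_sum]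
  rfl

variable (R B A C) in
/-- The points of `B ⊗ A` over `B` are the points of `A` over `R`. -/
noncomputable def resEquiv : WithConv (B ⊗[R] A →ₐ[B] C) ≃* WithConv (A →ₐ[R] C) where
  toEquiv := (WithConv.equiv _).trans ((Equiv.ofBijective _
    ⟨res_injective, res_surjective⟩).trans (WithConv.equiv _).symm)
  map_mul' f g := WithConv.ofConv_injective (res_mul f g)

@[simp] lemma resEquiv_apply (g : WithConv (B ⊗[R] A →ₐ[B] C)) (a : A) :
    (resEquiv R B A C g).ofConv a = g.ofConv (1 ⊗ₜ a) := rfl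

lemma ofConv_resEquiv (g : WithConv (B ⊗[R] A →ₐ[B] C)) :
    (resEquiv R B A C g).ofConv = res g.ofConv := rfl

lemma pt_left {G : Over S} [GrpObj G] {r : Spec (CommRingCat.of R) ⟶ S}
    {c : Spec (CommRingCat.of C) ⟶ S} (e : Red.bc r G ≅ SpecOver R A) [IsMonHom e.hom]
    (hc : Spec.map (CommRingCat.ofHom (algebraMap R C)) ≫ r = c) (g : A →ₐ[R] C) :
    (pt e hc g).left = (specMap R g).left ≫ e.inv.left ≫ pullback.fst G.hom r := by
  rw [pt, Over.comp_left, DSPts.bcEquiv_symm_left, Over.comp_left]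
  change 𝟙 _ ≫ _ = _
  rw [Category.id_comp, Category.assoc]

variable (h : S' ⟶ S) {G : Over S} [GrpObj G] {r : Spec (CommRingCat.of R) ⟶ S}
  {r' : Spec (CommRingCat.of B) ⟶ S'} (hr : r' ≫ h = spf R B ≫ r)
variable (e : Red.bc r G ≅ SpecOver R A) [IsMonHom e.hom]
variable {c : Spec (CommRingCat.of C) ⟶ S'}
  (hc' : Spec.map (CommRingCat.ofHom (algebraMap B C)) ≫ r' = c)
  (hc : Spec.map (CommRingCat.ofHom (algebraMap R C)) ≫ r = c ≫ h)

include hr hc' in
lemma hc_of : Spec.map (CommRingCat.ofHom (algebraMap R C)) ≫ r = c ≫ h := by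
  rw [← hc', Category.assoc, hr, spf, ← Category.assoc, ← Spec.map_comp, ← CommRingCat.ofHom_comp,
    ← IsScalarTower.algebraMap_eq R B C]

/-- The points of the base change of a chart. -/
lemma dn_pt (g : B ⊗[R] A →ₐ[B] C) :
    dnI h (affI h c) (pt (R := B) (A := B ⊗[R] A) (bcChart h hr e) hc' g) = pt e hc (res g) := by
  ext1
  rw [dnI_left, pt_left (R := B) (A := B ⊗[R] A), pt_left]
  change 𝟙 _ ≫ ((specMap B g).left ≫ (bcChart h hr e).inv.left ≫
    pullback.fst (Red.bc h G).hom r') ≫ pullback.fst G.hom h = _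
  rw [Category.id_comp, Category.assoc, Category.assoc, bcChart_inv_left]
  have h1 : (specMap R (res g)).left = (specMap B g).left ≫ inR R B A :=
    Spec.map_comp (CommRingCat.ofHom (Algebra.TensorProduct.includeRight :
      A →ₐ[R] B ⊗[R] A).toRingHom) (CommRingCat.ofHom g.toRingHom)
  rw [h1]
  exact (Category.assoc _ _ _).symm

end points

section lam

variable {S S' : Scheme.{u}} {R B A : Type u} [CommRing R] [CommRing B] [Algebra R B] [CommRing A]
  [HopfAlgebra R A]
variable (h : S' ⟶ S) {G : Over S} [GrpObj G] {r : Spec (CommRingCat.of R) ⟶ S}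
  {r' : Spec (CommRingCat.of B) ⟶ S'} (hr : r' ≫ h = spf R B ≫ r)
variable (e : Red.bc r G ≅ SpecOver R A) [IsMonHom e.hom]
variable (lam : Red.Gm S ⟶ G)

/-- The cocharacter of the base change, in a chart. -/
lemma res_lamAlg : res (lamAlg (R := B) (A := B ⊗[R] A) (bcLam lam h) (bcChart h hr e)) =
    (AddMonoidAlgebra.mapAlgHom ℤ (Algebra.ofId R B)).comp (lamAlg lam e) := by
  have h2 : Spec.map (CommRingCat.ofHom (algebraMap R B[T;T⁻¹])) ≫ r =
      (Spec.map (CommRingCat.ofHom (algebraMap B B[T;T⁻¹])) ≫ r') ≫ h := by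
    rw [Category.assoc, hr, spf, ← Category.assoc, ← Spec.map_comp, ← CommRingCat.ofHom_comp]
  apply (pt_bijective e h2).1
  let j : aff B[T;T⁻¹] ((Spec.map (CommRingCat.ofHom (algebraMap B B[T;T⁻¹])) ≫ r') ≫ h) ⟶
      gmo B (r' ≫ h) := Over.homMk (𝟙 _) (by
    change 𝟙 _ ≫ _ ≫ _ = (_ ≫ _) ≫ _
    rw [Category.id_comp, Category.assoc])
  have hj : j.left = Spec.map (CommRingCat.ofHom (RingHom.id B[T;T⁻¹])) := by
    change 𝟙 _ = Spec.map (𝟙 _)
    rw [Spec.map_id]
  have h3 := dn_pt h hr e (C := B[T;T⁻¹]) (c := Spec.map (CommRingCat.ofHom (algebraMap B B[T;T⁻¹])) ≫ r')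
    rfl h2 (lamAlg (R := B) (A := B ⊗[R] A) (bcLam lam h) (bcChart h hr e))
  rw [← h3]
  have h4 := pt_lamAlg (R := B) (A := B ⊗[R] A) (bcLam lam h) (bcChart h hr e)
  rw [h4]
  have h5 : dnI h (affI h _) (tPt B r' ≫ bcLam lam h) =
      j ≫ dnI h (gmoI h r') (tPt B r' ≫ bcLam lam h) := by
    ext1
    refine (dnI_left h _ _).trans ?_
    refine Eq.trans ?_ (congrArg (fun z => j.left ≫ z) (dnI_left h _ _).symm)
    rfl
  rw [h5, dn_tPt, ← Category.assoc, comp_tPt j (RingHom.id _) hj (tC B) (fun _ => rfl)]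
  rw [← pt_comp_lamAlg lam e h2 (AddMonoidAlgebra.mapAlgHom ℤ (Algebra.ofId R B)) (tC B)]
  intro n
  change AddMonoidAlgebra.mapAlgHom ℤ (Algebra.ofId R B) (LaurentPolynomial.T n) = LaurentPolynomial.T n
  rw [LaurentPolynomial.T, AddMonoidAlgebra.mapAlgHom_single, map_one]
  rfl

lemma lamAlg_bcChart_tmul (b : B) (a : A) :
    lamAlg (R := B) (A := B ⊗[R] A) (bcLam lam h) (bcChart h hr e) (b ⊗ₜ a) =
    b • AddMonoidAlgebra.mapAlgHom ℤ (Algebra.ofId R B) (lamAlg lam e a) := by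
  have h1 := DFunLike.congr_fun (res_lamAlg h hr e lam) a
  rw [res_apply] at h1
  rw [← AlgHom.comp_apply, ← h1, ← map_smul, TensorProduct.smul_tmul', smul_eq_mul, _root_.mul_one]

end lam

end Groth.Agent.Sga3B.Par.BcChart895
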