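import Groth.Prelude.Def_Par
import Groth.Agent.Sga3B.Pts

/-!
# Semidirect decompositions `P = L ⋉ U` on points; the projection onto a Levi subgroup
-/

set_option autoImplicit false

universe u

open CategoryTheory MonoidalCategory CartesianMonoidalCategory AlgebraicGeometry
open scoped MonObj

namespace Groth.Agent.Sga3B.Par.LeviProj

variable {S : Scheme.{u}} {P U L L' : Over S} [GrpObj P] [GrpObj U] [GrpObj L] [GrpObj L']

/-- `P` is the semidirect product of the subgroup `l : L ⟶ P` and the normal subgroup `u : U ⟶ P`. -/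
structure IsSemi (l : L ⟶ P) (u : U ⟶ P) : Prop where
  monHom_l : IsMonHom l
  monHom_u : IsMonHom u
  mono_u : Mono u
  normal : AlgGrp.IsNormalHom u
  iso : IsIso ((l ⊗ₘ u) ≫ μ)

variable {l : L ⟶ P} {u : U ⟶ P} (h : IsSemi l u)

section Basic

omit [GrpObj U] [GrpObj L] in
lemma lift_mul {X : Over S} (a : X ⟶ L) (b : X ⟶ U) :
    lift a b ≫ (l ⊗ₘ u) ≫ μ = (a ≫ l) * (b ≫ u) := by
  rw [← Category.assoc, lift_map]
  rfl

include h in
lemma exists_fac {X : Over S} (g : X ⟶ P) : ∃ (a : X ⟶ L) (b : X ⟶ U), (a ≫ l) * (b ≫ u) = g := by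
  have := h.iso
  refine ⟨g ≫ inv ((l ⊗ₘ u) ≫ μ) ≫ fst L U, g ≫ inv ((l ⊗ₘ u) ≫ μ) ≫ snd L U, ?_⟩
  rw [← lift_mul]
  have h1 : lift (g ≫ inv ((l ⊗ₘ u) ≫ μ) ≫ fst L U) (g ≫ inv ((l ⊗ₘ u) ≫ μ) ≫ snd L U) =
      g ≫ inv ((l ⊗ₘ u) ≫ μ) := by
    apply CartesianMonoidalCategory.hom_ext <;> simp
  rw [h1, Category.assoc, IsIso.inv_hom_id, Category.comp_id]

include h in
lemma fac_unique {X : Over S} {a a' : X ⟶ L} {b b' : X ⟶ U}
    (hh : (a ≫ l) * (b ≫ u) = (a' ≫ l) * (b' ≫ u)) : a = a' ∧ b = b' := by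
  have := h.iso
  rw [← lift_mul, ← lift_mul] at hh
  have h1 := (cancel_mono ((l ⊗ₘ u) ≫ μ)).1 hh
  exact ⟨by simpa using congrArg (· ≫ fst L U) h1, by simpa using congrArg (· ≫ snd L U) h1⟩

end Basic

/-- the projection `P ⟶ L` with kernel `U` -/
noncomputable def prL (h : IsSemi l u) : P ⟶ L :=
  letI := h.iso
  inv ((l ⊗ₘ u) ≫ μ) ≫ fst L U

lemma fac_prL {X : Over S} (a : X ⟶ L) (b : X ⟶ U) : ((a ≫ l) * (b ≫ u)) ≫ prL h = a := by
  have := h.iso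
  rw [← lift_mul, prL, Category.assoc]
  rw [IsIso.hom_inv_id_assoc]
  simp

lemma fac_l_prL {X : Over S} (a : X ⟶ L) : (a ≫ l) ≫ prL h = a := by
  have := h.monHom_u
  have h1 := fac_prL h a (1 : X ⟶ U)
  rwa [show ((1 : X ⟶ U) ≫ u) = 1 from MonObj.one_comp u, mul_one] at h1

lemma l_prL : l ≫ prL h = 𝟙 L := by
  have h1 := fac_l_prL h (𝟙 L)
  rwa [Category.id_comp] at h1

lemma exists_eq {X : Over S} (g : X ⟶ P) : ∃ b : X ⟶ U, g = (g ≫ prL h ≫ l) * (b ≫ u) := by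
  obtain ⟨a, b, hab⟩ := exists_fac h g
  refine ⟨b, ?_⟩
  conv_lhs => rw [← hab]
  rw [← Category.assoc, ← hab, fac_prL]

lemma mul_prL {X : Over S} (g g' : X ⟶ P) : (g * g') ≫ prL h = (g ≫ prL h) * (g' ≫ prL h) := by
  have := h.monHom_u
  have := h.monHom_l
  obtain ⟨a, b, rfl⟩ := exists_fac h g
  obtain ⟨a', b', rfl⟩ := exists_fac h g'
  obtain ⟨n, hn⟩ := h.normal X (a' ≫ l)⁻¹ b
  rw [fac_prL, fac_prL]
  have h1 : (a ≫ l) * (b ≫ u) * ((a' ≫ l) * (b' ≫ u)) =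
      ((a * a') ≫ l) * ((n * b') ≫ u) := by
    rw [MonObj.mul_comp, MonObj.mul_comp, ← hn]
    group
  rw [h1, fac_prL]

instance isMonHom_prL : IsMonHom (prL h) := Pts.isMonHom_of_points _ fun _ g g' => mul_prL h g g'

lemma u_prL {X : Over S} (b : X ⟶ U) : (b ≫ u) ≫ prL h = 1 := by
  have := h.monHom_l
  have h1 := fac_prL h (1 : X ⟶ L) b
  rwa [show ((1 : X ⟶ L) ≫ l) = 1 from MonObj.one_comp l, one_mul] at h1

lemma exists_of_prL_eq_one {X : Over S} (g : X ⟶ P) (hg : g ≫ prL h = 1) :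
    ∃ b : X ⟶ U, b ≫ u = g := by
  have := h.monHom_l
  obtain ⟨b, hb⟩ := exists_eq h g
  refine ⟨b, ?_⟩
  rw [← Category.assoc, hg, show ((1 : X ⟶ L) ≫ l) = 1 from MonObj.one_comp l, one_mul] at hb
  exact hb.symm

lemma prL_eq_iff {X : Over S} (g g' : X ⟶ P) :
    g ≫ prL h = g' ≫ prL h ↔ ∃ b : X ⟶ U, g = g' * (b ≫ u) := by
  constructor
  · intro hg
    have h1 : (g'⁻¹ * g) ≫ prL h = 1 := by
      rw [mul_prL, GrpObj.inv_comp, hg, inv_mul_cancel]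
    obtain ⟨b, hb⟩ := exists_of_prL_eq_one h _ h1
    exact ⟨b, by rw [hb]; group⟩
  · rintro ⟨b, rfl⟩
    rw [mul_prL, u_prL, mul_one]

section Two

variable {l' : L' ⟶ P} (h' : IsSemi l' u)

/-- two Levi subgroups are canonically isomorphic through `P / U` -/
noncomputable def leviIso (h : IsSemi l u) (h' : IsSemi l' u) : L ≅ L' where
  hom := l ≫ prL h'
  inv := l' ≫ prL h
  hom_inv_id := by
    obtain ⟨b, hb⟩ := exists_eq h' l
    have h1 : (l ≫ prL h') ≫ l' = l * ((b⁻¹) ≫ u) := by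
      have := h.monHom_u
      rw [GrpObj.inv_comp, eq_mul_inv_iff_mul_eq, Category.assoc]
      exact hb.symm
    rw [← Category.assoc, h1, mul_prL, u_prL, mul_one, l_prL]
  inv_hom_id := by
    obtain ⟨b, hb⟩ := exists_eq h l'
    have h1 : (l' ≫ prL h) ≫ l = l' * ((b⁻¹) ≫ u) := by
      have := h.monHom_u
      rw [GrpObj.inv_comp, eq_mul_inv_iff_mul_eq, Category.assoc]
      exact hb.symm
    rw [← Category.assoc, h1, mul_prL, u_prL, mul_one, l_prL]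

end Two

section Radical

lemma exists_iso_of_isUnipotentRadical {U₀ : Over S} [GrpObj U₀] {u : U ⟶ P} {u₀ : U₀ ⟶ P}
    (hu : Par.IsUnipotentRadical u) (hu₀ : Par.IsUnipotentRadical u₀) :
    ∃ e : U ≅ U₀, e.hom ≫ u₀ = u := by
  have := hu.1
  have := hu₀.1
  have : IsClosedImmersion u.left := hu.2.1
  have : IsClosedImmersion u₀.left := hu₀.2.1
  have : Mono u := Over.mono_of_mono_left u
  have : Mono u₀ := Over.mono_of_mono_left u₀
  obtain ⟨f, hf⟩ := hu.2.2.2.2.2.2 U₀ u₀ hu₀.2.1 hu₀.2.2.1 hu₀.2.2.2.1 hu₀.2.2.2.2.1 hu₀.2.2.2.2.2.1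
  obtain ⟨g, hg⟩ := hu₀.2.2.2.2.2.2 U u hu.2.1 hu.2.2.1 hu.2.2.2.1 hu.2.2.2.2.1 hu.2.2.2.2.2.1
  refine ⟨⟨g, f, ?_, ?_⟩, hg⟩
  · rw [← cancel_mono u, Category.assoc, hf, hg, Category.id_comp]
  · rw [← cancel_mono u₀, Category.assoc, hg, hf, Category.id_comp]

lemma isSemi_of_isLevi {l : L ⟶ P} (hl : Par.IsLevi l) {u : U ⟶ P}
    (hu : Par.IsUnipotentRadical u) : IsSemi l u := by
  obtain ⟨hl1, hl2, -, U₀, _, u₀, hu₀, hiso⟩ := hl
  obtain ⟨e, he⟩ := exists_iso_of_isUnipotentRadical hu hu₀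
  have : IsClosedImmersion u.left := hu.2.1
  refine ⟨hl1, hu.1, Over.mono_of_mono_left u, hu.2.2.1, ?_⟩
  have h1 : (l ⊗ₘ u) ≫ μ = (𝟙 L ⊗ₘ e.hom) ≫ (l ⊗ₘ u₀) ≫ μ := by
    rw [tensorHom_comp_tensorHom_assoc, Category.id_comp, he]
  rw [h1]
  infer_instance

end Radical

end Groth.Agent.Sga3B.Par.LeviProj
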