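import Groth.Agent.Sga3B.Par.CanK
import Groth.Agent.Sga3B.Par.LeviProj

/-!
# The canonical central cocharacter of `P / U` is independent of the splitting
-/

set_option autoImplicit false

universe u

open CategoryTheory MonoidalCategory CartesianMonoidalCategory MonObj GrpObj AlgebraicGeometry
  Limits
open scoped LaurentPolynomial Polynomial

namespace Groth.Agent.Sga3B.Par

open Parab DSPts GaPts Parab.Dyn998 LeviProj

variable {S S' : Scheme.{u}}

/-- The base changes of two morphisms agree if the morphisms agree on the points with values in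
affine schemes over the new base. -/
lemma pullback_map_eq {X H : Over S} (g : S' ⟶ S) (d₁ d₂ : X ⟶ H)
    (h : ∀ (B : Type u) [CommRing B] (r : Spec (CommRingCat.of B) ⟶ S')
      (t : aff B (r ≫ g) ⟶ X), t ≫ d₁ = t ≫ d₂) :
    (Over.pullback g).map d₁ = (Over.pullback g).map d₂ := by
  refine AffPts998.hom_ext_aff fun C _ c x => ?_
  have h1 : ∀ d : X ⟶ H, x ≫ (Over.pullback g).map d =
      BcPts.bcEquiv g _ H ((BcPts.bcEquiv g _ X).symm x ≫ d) := fun d => by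
    rw [BcPts.bcEquiv_comp, Equiv.apply_symm_apply]
  rw [h1, h1]
  exact congrArg _ (h C c ((BcPts.bcEquiv g _ X).symm x))

lemma isMonHom_of_comp_mono' {A B C : Over S} [GrpObj A] [GrpObj B] [GrpObj C] {u : A ⟶ B}
    {p : B ⟶ C} {i : A ⟶ C} [IsMonHom p] [Mono p] [IsMonHom i] (h : u ≫ p = i) : IsMonHom u := by
  apply Pts.isMonHom_of_points
  intro X x y
  have h1 : ((x ≫ u) * (y ≫ u)) ≫ p = (x ≫ i) * (y ≫ i) := by
    rw [MonObj.mul_comp, Category.assoc, Category.assoc, h]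
  have h2 : ((x * y) ≫ u) ≫ p = (x ≫ i) * (y ≫ i) := by
    rw [Category.assoc, h, MonObj.mul_comp]
  rw [← cancel_mono p, h1, h2]

section

variable {G P U L : Over S} [GrpObj G] [GrpObj P] [GrpObj U] [GrpObj L] {p : P ⟶ G}

/-- **(CAN)** The images in `P / U` of the canonical cocharacters of two splittings agree. -/
theorem can_prL {D₁ D₂ : Red.SplitRed G} {x₁ : Module.Dual ℤ D₁.M} {x₂ : Module.Dual ℤ D₂.M}
    (h₁ : IsDynP (coch D₁ x₁) p) (h₂ : IsDynP (coch D₂ x₂) p)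
    {j₁ : D₁.T ⟶ P} (hj₁ : j₁ ≫ p = D₁.i) {j₂ : D₂.T ⟶ P} (hj₂ : j₂ ≫ p = D₂.i)
    (hconj : ∀ s : S, ∃ (g : aff _ (Red.geomPt s) ⟶ P) (e : RootPairing.Equiv D₁.P D₂.P),
      TorConj D₁ D₂ (g ≫ p) e)
    {l : L ⟶ P} {u : U ⟶ P} (h : IsSemi l u)
    (hl : Red.IsCentralizerOf (cochT D₁ (can D₁.P x₁) ≫ j₁) l)
    [IsAffineHom L.hom] [LocallyOfFiniteType L.hom] :
    (cochT D₂ (can D₂.P x₂) ≫ j₂) ≫ prL h = (cochT D₁ (can D₁.P x₁) ≫ j₁) ≫ prL h := by
  have hp := h₁.isMonHom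
  have hm := h₁.mono
  have hj₁' : IsMonHom j₁ := isMonHom_of_comp_mono' hj₁
  have hj₂' : IsMonHom j₂ := isMonHom_of_comp_mono' hj₂
  set c₁ : Red.Gm S ⟶ P := cochT D₁ (can D₁.P x₁) ≫ j₁ with hc₁
  set c₂ : Red.Gm S ⟶ P := cochT D₂ (can D₂.P x₂) ≫ j₂ with hc₂
  have hmc₁ : IsMonHom c₁ := inferInstance
  have hmc₂ : IsMonHom c₂ := inferInstance
  -- `c₁` factors through `l`
  obtain ⟨m, hm⟩ : ∃ m : Red.Gm S ⟶ L, m ≫ l = c₁ := by
    apply (hl.2.2 _ c₁).2
    intro X' x t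
    rw [← MonObj.mul_comp x t c₁, ← MonObj.mul_comp t x c₁, CanRig.ds_mul_comm]
  have hcm : c₁ ≫ prL h = m := by rw [← hm, fac_l_prL]
  -- `m` is central
  have hcent : ∀ (X : Over S) (t : X ⟶ Red.Gm S) (z : X ⟶ L),
      (t ≫ m) * z = z * (t ≫ m) := by
    intro X t z
    have := hl.2.1
    have := hl.1
    rw [← cancel_mono l, MonObj.mul_comp, MonObj.mul_comp, Category.assoc, hm]
    have h3 := (hl.2.2 _ (z ≫ l)).1 ⟨z, rfl⟩ X (𝟙 X) t
    rw [Category.id_comp] at h3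
    exact h3.symm
  apply CanRig.eq_of_geomFibres
  · intro X x y
    rw [hcm, hcent]
  · intro s
    apply pullback_map_eq
    intro B _ r t
    obtain ⟨g, e, hg⟩ := hconj s
    have h3 := conj_can h₁ h₂ g hg hj₁ hj₂ (Over.homMk r rfl) t
    have h4 : t ≫ c₂ = (Over.homMk r rfl ≫ g) * (t ≫ c₁) * (Over.homMk r rfl ≫ g)⁻¹ := h3.symm
    have h5 : (t ≫ c₂) ≫ prL h = (t ≫ c₁) ≫ prL h := by
      rw [h4, mul_prL, mul_prL, GrpObj.inv_comp, Category.assoc t c₁, hcm, ← hcent]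
      group
    rw [Category.assoc, Category.assoc] at h5
    exact h5

end

end Groth.Agent.Sga3B.Par
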