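import Mathlib.LinearAlgebra.RootSystem.Finite.CanonicalBilinear
import Mathlib.LinearAlgebra.RootSystem.Base

/-!
# The canonical coweight of a parabolic subset

For a root datum `P` on a lattice `M` with coroots in the dual lattice and a coweight `x`, the sum
`can x` of the coroots `a^∨` over the roots `a` with `x a > 0` is a coweight which has the same
signs as `x` on all roots.
-/

set_option autoImplicit false
set_option linter.unusedSectionVars false

namespace Groth.Agent.Sga3B.Par

open RootPairing

variable {idx M : Type} [Fintype idx] [AddCommGroup M]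

open Classical in
/-- The sum of the coroots of the roots on which `x` is positive. -/
noncomputable def can (P : RootPairing idx ℤ M (Module.Dual ℤ M)) (x : Module.Dual ℤ M) :
    Module.Dual ℤ M :=
  ∑ a ∈ Finset.univ.filter (fun a => 0 < x (P.root a)), P.coroot a

section

variable (P : RootPairing idx ℤ M (Module.Dual ℤ M))

lemma pairing_symm_pos (i j : idx) : 0 < P.pairing i j ↔ 0 < P.pairing j i := by
  have h := P.zero_lt_pairingIn_iff' ℤ (i := i) (j := j)
  rwa [← P.algebraMap_pairingIn ℤ i j, ← P.algebraMap_pairingIn ℤ j i]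

lemma pairing_symm_neg (i j : idx) : P.pairing i j < 0 ↔ P.pairing j i < 0 := by
  have h := P.pairingIn_lt_zero_iff ℤ (i := i) (j := j)
  rwa [← P.algebraMap_pairingIn ℤ i j, ← P.algebraMap_pairingIn ℤ j i]

variable (hP : P.toLinearMap = Module.Dual.eval ℤ M)
include hP

lemma coroot_root (a b : idx) : P.coroot a (P.root b) = P.pairing b a := by
  rw [← P.root_coroot_eq_pairing, hP]
  rfl

/-- `x (s_b a) = x a - ⟨a, b^∨⟩ x b` -/
lemma apply_reflectionPerm (x : Module.Dual ℤ M) (a b : idx) :
    x (P.root (P.reflectionPerm b a)) = x (P.root a) - P.pairing a b * x (P.root b) := by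
  rw [P.root_reflectionPerm, P.reflection_apply_root, map_sub, map_smul, smul_eq_mul]

lemma pairing_reflectionPerm (a b : idx) :
    P.pairing b (P.reflectionPerm b a) = - P.pairing b a := by
  have h := P.pairing_reflectionPerm b b a
  rw [h, P.pairing_reflectionPerm_self_left]

open Classical in
lemma two_mul_can (x : Module.Dual ℤ M) (b : idx) :
    2 * can P x (P.root b) = ∑ a : idx, ((if 0 < x (P.root a) then (1 : ℤ) else 0) -
      (if 0 < x (P.root (P.reflectionPerm b a)) then 1 else 0)) * P.pairing b a := by
  have h1 : can P x (P.root b) =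
      ∑ a : idx, (if 0 < x (P.root a) then (1 : ℤ) else 0) * P.pairing b a := by
    unfold can
    rw [LinearMap.sum_apply, Finset.sum_filter]
    refine Finset.sum_congr rfl fun a _ => ?_
    rw [coroot_root P hP]
    split_ifs <;> simp
  have h2 : can P x (P.root b) =
      - ∑ a : idx, (if 0 < x (P.root (P.reflectionPerm b a)) then (1 : ℤ) else 0) *
        P.pairing b a := by
    rw [h1, ← Equiv.sum_comp (P.reflectionPerm b), ← Finset.sum_neg_distrib]
    refine Finset.sum_congr rfl fun a _ => ?_
    rw [pairing_reflectionPerm P hP, mul_neg]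
  simp_rw [sub_mul]
  rw [Finset.sum_sub_distrib, two_mul]
  nth_rewrite 1 [h1]
  rw [h2]
  ring

lemma can_pos {x : Module.Dual ℤ M} {b : idx} (hb : 0 < x (P.root b)) :
    0 < can P x (P.root b) := by
  classical
  suffices h : 0 < 2 * can P x (P.root b) by linarith
  rw [two_mul_can P hP]
  refine Finset.sum_pos' (fun a _ => ?_) ⟨b, Finset.mem_univ _, ?_⟩
  · rw [apply_reflectionPerm P hP]
    rcases lt_trichotomy (P.pairing b a) 0 with h | h | h
    · have h' := (pairing_symm_neg P b a).1 h
      have : P.pairing a b * x (P.root b) < 0 := mul_neg_of_neg_of_pos h' hb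
      split_ifs with h1 h2 h2 <;> nlinarith
    · rw [h, mul_zero]
    · have h' := (pairing_symm_pos P b a).1 h
      have : 0 < P.pairing a b * x (P.root b) := mul_pos h' hb
      split_ifs with h1 h2 h2 <;> nlinarith
  · have h1 : ¬ 0 < x (P.root (P.reflectionPerm b b)) := by
      rw [apply_reflectionPerm P hP, P.pairing_same]
      linarith
    rw [if_pos hb, if_neg h1, P.pairing_same]
    norm_num

lemma can_zero {x : Module.Dual ℤ M} {b : idx} (hb : x (P.root b) = 0) :
    can P x (P.root b) = 0 := by
  classical
  suffices h : 2 * can P x (P.root b) = 0 by linarith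
  rw [two_mul_can P hP]
  refine Finset.sum_eq_zero fun a _ => ?_
  rw [apply_reflectionPerm P hP, hb]
  simp

lemma can_neg {x : Module.Dual ℤ M} {b : idx} (hb : x (P.root b) < 0) :
    can P x (P.root b) < 0 := by
  have h1 : 0 < x (P.root (P.reflectionPerm b b)) := by
    rw [apply_reflectionPerm P hP, P.pairing_same]
    linarith
  have h2 := can_pos P hP h1
  rw [apply_reflectionPerm P hP, P.pairing_same] at h2
  linarith

/-- `can x` and `x` have the same positive roots. -/
theorem can_pos_iff (x : Module.Dual ℤ M) (b : idx) :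
    0 < can P x (P.root b) ↔ 0 < x (P.root b) := by
  refine ⟨fun h => ?_, can_pos P hP⟩
  rcases lt_trichotomy (x (P.root b)) 0 with h' | h' | h'
  · exact absurd h (not_lt.2 (can_neg P hP h').le)
  · exact absurd h (by rw [can_zero P hP h']; exact lt_irrefl _)
  · exact h'

/-- `can x` and `x` vanish on the same roots. -/
theorem can_eq_zero_iff (x : Module.Dual ℤ M) (b : idx) :
    can P x (P.root b) = 0 ↔ x (P.root b) = 0 := by
  refine ⟨fun h => ?_, can_zero P hP⟩
  rcases lt_trichotomy (x (P.root b)) 0 with h' | h' | h'
  · exact absurd h (can_neg P hP h').ne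
  · exact h'
  · exact absurd h (can_pos P hP h').ne'

/-- `can x` and `x` are nonnegative on the same roots. -/
theorem can_nonneg_iff (x : Module.Dual ℤ M) (b : idx) :
    0 ≤ can P x (P.root b) ↔ 0 ≤ x (P.root b) := by
  rw [le_iff_lt_or_eq, le_iff_lt_or_eq, can_pos_iff P hP, eq_comm, can_eq_zero_iff P hP,
    eq_comm (a := (0 : ℤ))]

end

open Classical in
/-- `can` only depends on the set of roots on which `x` is positive. -/
theorem can_congr (P : RootPairing idx ℤ M (Module.Dual ℤ M)) {x y : Module.Dual ℤ M}
    (h : ∀ a, 0 < x (P.root a) ↔ 0 < y (P.root a)) : can P x = can P y := by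
  unfold can
  congr 1
  ext a
  simp [h a]

end Groth.Agent.Sga3B.Par
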