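import Groth.Agent.Sga3B.Par.CanN
import Mathlib.LinearAlgebra.RootSystem.Hom

/-!
# The canonical coweight and isomorphisms of root data
-/

set_option autoImplicit false

namespace Groth.Agent.Sga3B.Par

open RootPairing

variable {idx M idx' M' : Type} [Fintype idx] [AddCommGroup M] [Fintype idx'] [AddCommGroup M']
variable {P : RootPairing idx ℤ M (Module.Dual ℤ M)} {P' : RootPairing idx' ℤ M' (Module.Dual ℤ M')}

/-- The transport of a coweight along an isomorphism of root data. -/
noncomputable def push (e : RootPairing.Equiv P P') (y : Module.Dual ℤ M) : Module.Dual ℤ M' :=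
  y.comp e.weightEquiv.symm.toLinearMap

omit [Fintype idx] [Fintype idx'] in
@[simp] lemma push_apply (e : RootPairing.Equiv P P') (y : Module.Dual ℤ M) (m : M') :
    push e y m = y (e.weightEquiv.symm m) := rfl

omit [Fintype idx] [Fintype idx'] in
lemma weightEquiv_symm_root (e : RootPairing.Equiv P P') (a : idx) :
    e.weightEquiv.symm (P'.root (e.indexEquiv a)) = P.root a := by
  rw [LinearEquiv.symm_apply_eq]
  exact (RootPairing.Hom.root_weightMap_apply P P' a e.toHom).symm

omit [Fintype idx] [Fintype idx'] in
lemma push_root (e : RootPairing.Equiv P P') (y : Module.Dual ℤ M) (a : idx) :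
    push e y (P'.root (e.indexEquiv a)) = y (P.root a) := by
  rw [push_apply, weightEquiv_symm_root]

omit [Fintype idx] [Fintype idx'] in
lemma push_coroot (hP : P.toLinearMap = Module.Dual.eval ℤ M)
    (hP' : P'.toLinearMap = Module.Dual.eval ℤ M') (e : RootPairing.Equiv P P') (a : idx) :
    push e (P.coroot a) = P'.coroot (e.indexEquiv a) := by
  have h1 : e.coweightMap (P'.coroot (e.indexEquiv a)) = P.coroot a := by
    have := RootPairing.Hom.coroot_coweightMap_apply P P' (e.indexEquiv a) e.toHom
    simpa using this
  have h2 : ∀ m : M, P'.coroot (e.indexEquiv a) (e.weightMap m) = P.coroot a m := by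
    intro m
    have h3 := RootPairing.Hom.weight_coweight_transpose_apply P P' (P'.coroot (e.indexEquiv a))
      e.toHom
    have h4 := congrArg (fun f => f m) h3
    rw [h1] at h4
    have h5 : ∀ (y : Module.Dual ℤ M') (m' : M'), P'.flip.toPerfPair y m' = y m' := by
      intro y m'
      change P'.toLinearMap m' y = y m'
      rw [hP']
      rfl
    have h6 : ∀ (y : Module.Dual ℤ M) (m' : M), P.flip.toPerfPair y m' = y m' := by
      intro y m'
      change P.toLinearMap m' y = y m'
      rw [hP]
      rfl
    rw [← h5, ← h6]
    exact h4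
  ext m
  rw [push_apply, ← h2]
  congr 1
  exact e.weightEquiv.apply_symm_apply m

/-- Naturality of the canonical coweight. -/
theorem can_push (hP : P.toLinearMap = Module.Dual.eval ℤ M)
    (hP' : P'.toLinearMap = Module.Dual.eval ℤ M') (e : RootPairing.Equiv P P')
    (y : Module.Dual ℤ M) : can P' (push e y) = push e (can P y) := by
  classical
  have h1 : push e (can P y) =
      ∑ a ∈ Finset.univ.filter (fun a => 0 < y (P.root a)), push e (P.coroot a) := by
    ext m
    rw [push_apply]
    unfold can
    rw [LinearMap.sum_apply, LinearMap.sum_apply]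
    rfl
  rw [h1]
  unfold can
  refine (Finset.sum_equiv e.indexEquiv ?_ ?_).symm
  · intro a
    rw [Finset.mem_filter, Finset.mem_filter, push_root]
    simp
  · intro a _
    exact push_coroot hP hP' e a

end Groth.Agent.Sga3B.Par
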