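import Groth.Agent.Sga3B.RankOneLevi
import Groth.Agent.Sga3B.CellCov

/-!
# Centralizer and limits of cocharacters depend only on the signs on the roots (points of a datum)
-/

set_option autoImplicit false
universe u

open Polynomial LaurentPolynomial TensorProduct

namespace Groth.Agent.Sga3B.Cell.Datum

open Groth.Agent.Sga3B.Cell

variable {R A : Type u} [CommRing R] [CommRing A] [Algebra R A] [PtGrp R A] {D : Datum R A}
variable {B C : Type u} [CommRing B] [Algebra R B] [CommRing C] [Algebra R C]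

/-- all indices: negative ones, then the ones where `k` vanishes, then positive ones -/
noncomputable def triList (k : D.idx → ℤ) : List D.idx :=
  (Finset.univ.filter (fun b => k b < 0)).toList ++
    ((Finset.univ.filter (fun b => k b = 0)).toList ++
      (Finset.univ.filter (fun b => 0 < k b)).toList)

lemma triList_nodup {k : D.idx → ℤ} : (triList k).Nodup := by
  unfold triList
  rw [List.nodup_append, List.nodup_append]
  refine ⟨Finset.nodup_toList _, ⟨Finset.nodup_toList _, Finset.nodup_toList _, ?_⟩, ?_⟩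
  · intro b hb c hc hbc
    subst hbc
    rw [Finset.mem_toList, Finset.mem_filter] at hc hb
    omega
  · intro b hb c hc hbc
    subst hbc
    rw [Finset.mem_toList, Finset.mem_filter] at hb
    rw [List.mem_append, Finset.mem_toList, Finset.mem_filter, Finset.mem_toList,
      Finset.mem_filter] at hc
    rcases hc with hc | hc
    · omega
    · omega

lemma mem_triList {k : D.idx → ℤ} (b : D.idx) : b ∈ triList k := by
  unfold triList
  rw [List.mem_append, List.mem_append, Finset.mem_toList, Finset.mem_toList, Finset.mem_toList,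
    Finset.mem_filter, Finset.mem_filter, Finset.mem_filter]
  rcases lt_trichotomy (k b) 0 with hb | hb | hb
  · left; exact ⟨Finset.mem_univ _, hb⟩
  · right; left; exact ⟨Finset.mem_univ _, hb⟩
  · right; right; exact ⟨Finset.mem_univ _, hb⟩

lemma cell_triList {k : D.idx → ℤ} (x : D.idx → B) (t : TPt D.M B) :
    D.cell (triList k) x t =
      D.cell (triList k) (fun b => if k b < 0 then x b else 0) 1 *
        D.cell (triList k) (fun b => if k b = 0 then x b else 0) 1 *
        D.cell (triList k) (fun b => if 0 < k b then x b else 0) 1 * D.i B t := by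
  have hN : ∀ (p : D.idx → Prop) [DecidablePred p],
      ((Finset.univ.filter p).toList.map (fun c => D.uu c B (if p c then x c else 0))) =
      ((Finset.univ.filter p).toList.map (fun c => D.uu c B (x c))) := by
    intro p _
    apply List.map_congr_left
    intro b hb
    rw [Finset.mem_toList, Finset.mem_filter] at hb
    rw [if_pos hb.2]
  have hP : ∀ (p q : D.idx → Prop) [DecidablePred p] [DecidablePred q]
      (_ : ∀ b, p b → ¬ q b),
      ((Finset.univ.filter p).toList.map (fun c => D.uu c B (if q c then x c else 0))).prod = 1 := by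
    intro p q _ _ hpq
    apply prod_eq_one
    intro b hb
    rw [Finset.mem_toList, Finset.mem_filter] at hb
    exact if_neg (hpq b hb.2)
  unfold cell triList
  simp only [List.map_append, List.prod_append, i_one', mul_one]
  rw [hN (fun b => k b < 0), hN (fun b => k b = 0), hN (fun b => 0 < k b),
    hP (fun b => k b < 0) (fun b => k b = 0) (fun b h h' => by omega),
    hP (fun b => k b < 0) (fun b => 0 < k b) (fun b h h' => by omega),
    hP (fun b => k b = 0) (fun b => k b < 0) (fun b h h' => by omega),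
    hP (fun b => k b = 0) (fun b => 0 < k b) (fun b h h' => by omega),
    hP (fun b => 0 < k b) (fun b => k b < 0) (fun b h h' => by omega),
    hP (fun b => 0 < k b) (fun b => k b = 0) (fun b h h' => by omega)]
  simp only [mul_one, one_mul, mul_assoc]

/-- products of root group elements of weight zero commute with the cocharacter -/
lemma cell_comm_cochar {L : List D.idx} {lam : D.M →+ ℤ} {x : D.idx → B}
    (hx : ∀ a, lam (D.root a) ≠ 0 → x a = 0) (t : TPt D.M B) :
    Pt.map (lC R B) (D.cell L x t) * D.i _ (D.cochar lam) =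
      D.i _ (D.cochar lam) * Pt.map (lC R B) (D.cell L x t) := by
  have h := D.conj_cell L (fun a => lC R B (x a)) (TPt.map (lC R B) t) (D.cochar lam)
  have e : (fun a => TPt.ch (D.root a) (D.cochar lam : TPt D.M B[T;T⁻¹]) * lC R B (x a)) =
      fun a => lC R B (x a) := by
    funext a
    by_cases ha : lam (D.root a) = 0
    · rw [ch_cochar, ha, T_zero, one_mul]
    · rw [hx a ha, map_zero, mul_zero]
  rw [e] at h
  rw [cell_nat]
  exact (mul_inv_eq_iff_eq_mul.mp h).symm

section comm

variable {θ : Pt R A B[T;T⁻¹]} {p q : Pt R A B}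

lemma comm_mul' (hp : Pt.map (lC R B) p * θ = θ * Pt.map (lC R B) p)
    (hq : Pt.map (lC R B) q * θ = θ * Pt.map (lC R B) q) :
    Pt.map (lC R B) (p * q) * θ = θ * Pt.map (lC R B) (p * q) := by
  rw [Pt.map_mul, mul_assoc, hq, ← mul_assoc, hp, mul_assoc]

lemma comm_inv' (hp : Pt.map (lC R B) p * θ = θ * Pt.map (lC R B) p) :
    Pt.map (lC R B) p⁻¹ * θ = θ * Pt.map (lC R B) p⁻¹ := by
  rw [Pt.map_inv, inv_mul_eq_iff_eq_mul, ← mul_assoc, hp]
  group

end comm

/-- A point which centralises a cocharacter and is a quotient of two points of the cell is a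
product of root group elements of weight zero and of a point of the torus. -/
theorem exists_levi_of_quot {lam : D.M →+ ℤ} {δ : D.CR}
    (hδ : D.EtOn (triList (fun b => lam (D.root b))) δ) (hδ0 : D.ev0 δ = 1) {h : Pt R A B}
    (hh : Pt.map (lC R B) h * D.i _ (D.cochar lam) = D.i _ (D.cochar lam) * Pt.map (lC R B) h)
    {x x' : D.idx → B} {t t' : TPt D.M B}
    (hq : h * D.cell (triList (fun b => lam (D.root b))) x t =
      D.cell (triList (fun b => lam (D.root b))) x' t') :
    h * D.cell (triList (fun b => lam (D.root b)))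
        (fun b => if lam (D.root b) = 0 then x b else 0) 1 =
      D.cell (triList (fun b => lam (D.root b)))
        (fun b => if lam (D.root b) = 0 then x' b else 0) 1 * D.i B (t' * t⁻¹) := by
  set k : D.idx → ℤ := fun b => lam (D.root b) with hk
  set L := triList k with hL
  have hθ : ∀ b, TPt.ch (D.root b) (D.cochar lam : TPt D.M B[T;T⁻¹]) = T (k b) := fun b => rfl
  have hθn : ∀ b, TPt.ch (D.root b) (D.cochar (-lam) : TPt D.M B[T;T⁻¹]) = T (-k b) := fun b => rfl
  rw [hL, cell_triList, cell_triList x' t', ← hL] at hq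
  set V := D.cell L (fun b => if k b < 0 then x b else 0) 1 with hV
  set V' := D.cell L (fun b => if k b < 0 then x' b else 0) 1 with hV'
  set U := D.cell L (fun b => if 0 < k b then x b else 0) 1 with hU
  set U' := D.cell L (fun b => if 0 < k b then x' b else 0) 1 with hU'
  set g := D.cell L (fun b => if k b = 0 then x b else 0) 1 with hg
  set g' := D.cell L (fun b => if k b = 0 then x' b else 0) 1 with hg'
  have hVm : V ∈ D.UP L (fun b => -k b) B :=
    ⟨_, fun b hb => if_neg (by have h1 : -k b ≤ 0 := hb; omega), rfl⟩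
  have hV'm : V' ∈ D.UP L (fun b => -k b) B :=
    ⟨_, fun b hb => if_neg (by have h1 : -k b ≤ 0 := hb; omega), rfl⟩
  have hUm : U ∈ D.UP L k B := ⟨_, fun b hb => if_neg (by omega), rfl⟩
  have hU'm : U' ∈ D.UP L k B := ⟨_, fun b hb => if_neg (by omega), rfl⟩
  -- centralising elements
  have cent_g : Pt.map (lC R B) g * D.i _ (D.cochar lam) =
      D.i _ (D.cochar lam) * Pt.map (lC R B) g := cell_comm_cochar (fun a ha => if_neg ha) 1
  have cent_g' : Pt.map (lC R B) g' * D.i _ (D.cochar lam) =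
      D.i _ (D.cochar lam) * Pt.map (lC R B) g' := cell_comm_cochar (fun a ha => if_neg ha) 1
  have conj_of_comm : ∀ (p : Pt R A B) (θ : TPt D.M B[T;T⁻¹]),
      Pt.map (lC R B) p * D.i _ θ = D.i _ θ * Pt.map (lC R B) p →
      Pt.map (lC R B) p * D.i _ θ * (Pt.map (lC R B) p)⁻¹ = D.i _ θ := by
    intro p θ hp
    rw [hp]; group
  have comm_neg : ∀ (p : Pt R A B),
      Pt.map (lC R B) p * D.i _ (D.cochar lam) = D.i _ (D.cochar lam) * Pt.map (lC R B) p →
      Pt.map (lC R B) p * D.i _ (D.cochar (-lam)) = D.i _ (D.cochar (-lam)) * Pt.map (lC R B) p := by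
    intro p hp
    rw [cochar_neg, i_inv', eq_inv_mul_iff_mul_eq, ← mul_assoc, ← hp]
    group
  have hcV := UP_conj hδ hδ0 (k := fun b => -k b) hθn hθn (conj_of_comm h _ (comm_neg h hh)) hVm
  obtain ⟨y, hy0, hy⟩ := UP_mul hδ hδ0 (k := fun b => -k b) hθn (UP_inv hδ hδ0 hθn hV'm) hcV
  -- the positive part
  set s : TPt D.M B := t' * t⁻¹ with hs
  have hconj : D.i _ s * U⁻¹ * (D.i _ s)⁻¹ ∈ D.UP L k B := by
    obtain ⟨w, hw0, hw⟩ := UP_inv hδ hδ0 hθ hUm
    rw [hw, conj_cell]
    exact ⟨_, fun b hb => by rw [hw0 b hb, mul_zero], rfl⟩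
  have hU1 := UP_mul hδ hδ0 hθ hU'm hconj
  set U1 := U' * (D.i _ s * U⁻¹ * (D.i _ s)⁻¹) with hU1def
  obtain ⟨z, hz0, hz⟩ := UP_conj hδ hδ0 hθ hθ (conj_of_comm g' _ cent_g') hU1
  -- the centralising factor
  set ζ : Pt R A B := g' * D.i B s * g⁻¹ * h⁻¹ with hζ
  have hs' : D.i B t' * (D.i B t)⁻¹ = D.i B s := by rw [hs, i_mul', i_inv']
  have hmain : V'⁻¹ * (h * V * h⁻¹) * (h * g) = g' * U1 * D.i B s := by
    have e1 : V'⁻¹ * (h * V * h⁻¹) * (h * g) =
        V'⁻¹ * (h * (V * g * U * D.i B t)) * (D.i B t)⁻¹ * U⁻¹ := by group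
    have e2 : V'⁻¹ * (V' * g' * U' * D.i B t') * (D.i B t)⁻¹ * U⁻¹ =
        g' * U' * (D.i B t' * (D.i B t)⁻¹) * U⁻¹ := by group
    rw [e1, hq, e2, hs', hU1def]
    group
  have hdec : D.cell L y 1 = D.cell L z 1 * ζ := by
    rw [← hy, ← hz, hζ]
    have e1 : V'⁻¹ * (h * V * h⁻¹) = (V'⁻¹ * (h * V * h⁻¹) * (h * g)) * g⁻¹ * h⁻¹ := by group
    rw [e1, hmain]
    group
  have hζc : Pt.map (lC R B) ζ * D.i _ (D.cochar lam) = D.i _ (D.cochar lam) * Pt.map (lC R B) ζ := by
    refine comm_mul' (comm_mul' (comm_mul' cent_g' ?_) (comm_inv' cent_g)) (comm_inv' hh)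
    rw [D.i_nat, ← i_mul', ← i_mul', TPt.mul_comm']
  obtain ⟨hone, hone'⟩ := disjoint_UP_cent hθ hζc hy0 hz0 hdec
  rw [← hz] at hone'
  have hU1one : U1 = 1 := by
    have e1 : U1 = g'⁻¹ * (g' * U1 * g'⁻¹) * g' := by group
    rw [e1, hone']; group
  rw [hy, hone, one_mul, hU1one, mul_one] at hmain
  exact hmain

/-- **The centralizer of a cocharacter only depends on the roots on which it vanishes.** -/
theorem comm_cochar_of_zeros [Algebra.Smooth R A] (hG : D.Good) (hD : GeomDom R A)
    {lam mu : D.M →+ ℤ} (hlm : ∀ a, lam (D.root a) = 0 → mu (D.root a) = 0) {h : Pt R A B}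
    (hh : Pt.map (lC R B) h * D.i _ (D.cochar lam) = D.i _ (D.cochar lam) * Pt.map (lC R B) h) :
    Pt.map (lC R B) h * D.i _ (D.cochar mu) = D.i _ (D.cochar mu) * Pt.map (lC R B) h := by
  obtain ⟨δ, hδ, hδ0⟩ := hG (triList (fun b => lam (D.root b))) triList_nodup mem_triList
  obtain ⟨B₂, _, _, φ, hφ, x, x', t, t', -, -, hq⟩ := exists_cover hD hδ hδ0 h
  set Φ : B[T;T⁻¹] →ₐ[R] B₂[T;T⁻¹] := AddMonoidAlgebra.mapAlgHom ℤ φ with hΦ
  have hΦinj : Function.Injective Φ := by
    have h1 : Function.Injective φ := hφ.injective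
    intro p q hpq
    ext n
    apply h1
    have h2 := congrArg (fun z : B₂[T;T⁻¹] => z.coeff n) hpq
    simpa [hΦ] using h2
  have hΦC : Φ.comp (lC R B) = (lC R B₂).comp φ := by
    refine AlgHom.ext fun b => ?_
    rw [AlgHom.comp_apply, AlgHom.comp_apply, lC_apply, lC_apply, hΦ]
    exact AddMonoidAlgebra.mapAlgHom_single _ _ _
  have hΦc : ∀ nu : D.M →+ ℤ, TPt.map Φ (D.cochar nu : TPt D.M B[T;T⁻¹]) = D.cochar nu := by
    intro nu
    apply TPt.ext_ch
    intro m
    rw [TPt.ch_map, ch_cochar, ch_cochar, hΦ]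
    refine (AddMonoidAlgebra.mapAlgHom_single _ _ _).trans ?_
    rw [map_one]
    rfl
  have hh₂ : Pt.map (lC R B₂) (Pt.map φ h) * D.i _ (D.cochar lam) =
      D.i _ (D.cochar lam) * Pt.map (lC R B₂) (Pt.map φ h) := by
    have h1 := congrArg (Pt.map Φ) hh
    rw [Pt.map_mul, Pt.map_mul, Pt.map_map, hΦC, D.i_nat, hΦc, ← Pt.map_map] at h1
    exact h1
  have h2 := exists_levi_of_quot hδ hδ0 hh₂ hq
  apply Pt.map_injective hΦinj
  rw [Pt.map_mul, Pt.map_mul, Pt.map_map, hΦC, D.i_nat, hΦc, ← Pt.map_map]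
  have h3 := eq_mul_inv_of_mul_eq h2
  rw [h3]
  refine comm_mul' (comm_mul' (cell_comm_cochar (fun a ha => if_neg fun h0 => ha (hlm a h0)) 1) ?_)
    (comm_inv' (cell_comm_cochar (fun a ha => if_neg fun h0 => ha (hlm a h0)) 1))
  rw [D.i_nat, ← i_mul', ← i_mul', TPt.mul_comm']

end Groth.Agent.Sga3B.Cell.Datum
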