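import Groth.Agent.Sga3B.Par.SplitConj
import Mathlib.RingTheory.HopfAlgebra.TensorProduct

/-!
# Cocharacters over a base extension, on points

`H` a Hopf algebra over `R`, `S` an `R`-algebra and `λ : S ⊗ H → S[T;T⁻¹]` a cocharacter over `S`.
For an `R`-algebra map `σ : S → E` the points `λ_σ(x) ∈ H(E)`, `x ∈ Eˣ`; base change of `λ` along
`S → D`.
-/

set_option autoImplicit false

open LaurentPolynomial TensorProduct WithConv Coalgebra
open Groth.Agent.Books.DynBasic Groth.Agent.Books.DynLim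

universe u

namespace Groth.Agent.Sga3B.Par.CochBC

section Crit

variable {k : Type u} [CommRing k] {A : Type u} [CommRing A] [HopfAlgebra k A]

/-- a multiplicative algebra map to Laurent polynomials is a map of bialgebras -/
theorem exists_bialgHom (f : A →ₐ[k] k[T;T⁻¹])
    (hf : ∀ (E : Type u) [CommRing E] [Algebra k E] (x y : Eˣ),
      toConv ((evU k x).comp f) * toConv ((evU k y).comp f) = toConv ((evU k (x * y)).comp f)) :
    ∃ g : A →ₐc[k] k[T;T⁻¹], (g : A →ₐ[k] k[T;T⁻¹]) = f := by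
  have h1 : (Bialgebra.counitAlgHom k k[T;T⁻¹]).comp f = Bialgebra.counitAlgHom k A := by
    have h2 : evU k (1 : kˣ) = Bialgebra.counitAlgHom k k[T;T⁻¹] := by
      apply algHom_ext_T
      rw [evU_T]
      change _ = Coalgebra.counit (R := k) (T 1 : k[T;T⁻¹])
      rw [LaurentPolynomial.counit_T]
      simp
    have h3 := hf k 1 1
    rw [one_mul, mul_eq_left, h2] at h3
    have h4 := congrArg WithConv.ofConv h3
    change (Bialgebra.counitAlgHom k k[T;T⁻¹]).comp f = _ at h4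
    rw [h4, AlgHom.convOne_def]
    ext a
    rfl
  have h2 : (Algebra.TensorProduct.map f f).comp (Bialgebra.comulAlgHom k A) =
      (Bialgebra.comulAlgHom k k[T;T⁻¹]).comp f := by
    let x : (k[T;T⁻¹] ⊗[k] k[T;T⁻¹])ˣ := Units.map
      ((Algebra.TensorProduct.includeLeft : k[T;T⁻¹] →ₐ[k] k[T;T⁻¹] ⊗[k] k[T;T⁻¹]) :
        k[T;T⁻¹] →* k[T;T⁻¹] ⊗[k] k[T;T⁻¹]) (uT k)
    let y : (k[T;T⁻¹] ⊗[k] k[T;T⁻¹])ˣ := Units.map
      ((Algebra.TensorProduct.includeRight : k[T;T⁻¹] →ₐ[k] k[T;T⁻¹] ⊗[k] k[T;T⁻¹]) :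
        k[T;T⁻¹] →* k[T;T⁻¹] ⊗[k] k[T;T⁻¹]) (uT k)
    have hx : evU k x = Algebra.TensorProduct.includeLeft := by
      apply algHom_ext_T
      rw [evU_T, zpow_one]
      rfl
    have hy : evU k y = Algebra.TensorProduct.includeRight := by
      apply algHom_ext_T
      rw [evU_T, zpow_one]
      rfl
    have hxy : evU k (x * y) = Bialgebra.comulAlgHom k k[T;T⁻¹] := by
      apply algHom_ext_T
      rw [evU_T, zpow_one, Units.val_mul]
      change (T 1 ⊗ₜ[k] 1) * (1 ⊗ₜ[k] T 1) = Coalgebra.comul (R := k) (T 1 : k[T;T⁻¹])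
      rw [Algebra.TensorProduct.tmul_mul_tmul, one_mul, mul_one, LaurentPolynomial.comul_T]
    have h3 := congrArg WithConv.ofConv (hf _ x y)
    change _ = (evU k (x * y)).comp f at h3
    rw [← hxy, ← h3, hx, hy]
    rw [AlgHom.convMul_def]
    have h4 : (Algebra.TensorProduct.lmul' k (S := k[T;T⁻¹] ⊗[k] k[T;T⁻¹])).comp
        (Algebra.TensorProduct.map (Algebra.TensorProduct.includeLeft.comp f)
          (Algebra.TensorProduct.includeRight.comp f)) = Algebra.TensorProduct.map f f := by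
      apply Algebra.TensorProduct.ext
      · ext a
        simp
      · ext a
        simp
    rw [← h4]
    rfl
  exact ⟨BialgHom.ofAlgHom f h1 h2, rfl⟩

end Crit

section Res

variable {R S H E : Type u} [CommRing R] [CommRing S] [CommRing H] [CommRing E] [HopfAlgebra R H]
  [Algebra R S] [Algebra R E] [Algebra S E] [IsScalarTower R S E]

variable (R S H E) in
/-- points of the base change -/
noncomputable def res : WithConv (S ⊗[R] H →ₐ[S] E) ≃* WithConv (H →ₐ[R] E) where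
  toFun f := toConv ((f.ofConv.restrictScalars R).comp Algebra.TensorProduct.includeRight)
  invFun g := toConv (Algebra.TensorProduct.lift (Algebra.ofId S E) g.ofConv
    fun _ _ => Commute.all _ _)
  left_inv f := by
    apply WithConv.ofConv_injective
    apply Algebra.TensorProduct.ext
    · ext
    · apply AlgHom.ext
      intro a
      simp
  right_inv g := by
    apply WithConv.ofConv_injective
    apply AlgHom.ext
    intro a
    simp
  map_mul' f g := by
    apply WithConv.ofConv_injective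
    ext a
    change (f * g) (1 ⊗ₜ a) = (toConv ((f.ofConv.restrictScalars R).comp
      Algebra.TensorProduct.includeRight) * toConv ((g.ofConv.restrictScalars R).comp
      Algebra.TensorProduct.includeRight) : WithConv (H →ₐ[R] E)) a
    rw [AlgHom.convMul_apply, AlgHom.convMul_apply, TensorProduct.comul_tmul,
      ← (Coalgebra.Repr.arbitrary R a).eq]
    simp [tmul_sum]

lemma res_apply (f : WithConv (S ⊗[R] H →ₐ[S] E)) (a : H) :
    (res R S H E f).ofConv a = f.ofConv (1 ⊗ₜ a) := rfl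

lemma res_symm_apply (g : WithConv (H →ₐ[R] E)) (s : S) (a : H) :
    ((res R S H E).symm g).ofConv (s ⊗ₜ a) = algebraMap S E s * g.ofConv a := rfl

end Res

section Ev

variable {R S E E' : Type u} [CommRing R] [CommRing S] [CommRing E] [Algebra R S] [Algebra R E]
  [CommRing E'] [Algebra R E']

lemma algHom_ext_CT {f g : S[T;T⁻¹] →ₐ[R] E} (hC : ∀ s, f (C s) = g (C s))
    (hT : f (T 1) = g (T 1)) : f = g := by
  apply AddMonoidAlgebra.algHom_ext'
  · apply MonoidHom.ext_mint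
    exact hT
  · ext s
    exact hC s

/-- evaluation of Laurent polynomials at a unit, along a map of coefficients -/
noncomputable def evS (σ : S →ₐ[R] E) (x : Eˣ) : S[T;T⁻¹] →ₐ[R] E :=
  AddMonoidAlgebra.liftNCAlgHom σ ((Units.coeHom E).comp (zpowersHom Eˣ x))
    fun _ _ => Commute.all _ _

lemma evS_single (σ : S →ₐ[R] E) (x : Eˣ) (n : ℤ) (s : S) :
    evS σ x (AddMonoidAlgebra.single n s) = σ s * ((x ^ n : Eˣ) : E) := by
  rw [evS, AddMonoidAlgebra.coe_liftNCAlgHom, AddMonoidAlgebra.liftNC_single]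
  rfl

@[simp] lemma evS_C (σ : S →ₐ[R] E) (x : Eˣ) (s : S) : evS σ x (C s) = σ s := by
  rw [← single_eq_C, evS_single, zpow_zero, Units.val_one, mul_one]

@[simp] lemma evS_T (σ : S →ₐ[R] E) (x : Eˣ) (n : ℤ) : evS σ x (T n) = ((x ^ n : Eˣ) : E) := by
  rw [T, evS_single, map_one, one_mul]

lemma comp_evS (φ : E →ₐ[R] E') (σ : S →ₐ[R] E) (x : Eˣ) :
    φ.comp (evS σ x) = evS (φ.comp σ) (Units.map (φ : E →* E') x) := by
  apply algHom_ext_CT
  · intro s
    rw [AlgHom.comp_apply, evS_C, evS_C]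
    rfl
  · rw [AlgHom.comp_apply, evS_T, evS_T]
    simp

variable [Algebra S E] [IsScalarTower R S E]

lemma evS_eq (x : Eˣ) : evS (IsScalarTower.toAlgHom R S E) x = (evU S x).restrictScalars R := by
  apply algHom_ext_CT
  · intro s
    rw [evS_C]
    change _ = evU S x (C s)
    rw [C_eq_algebraMap, AlgHom.commutes]
    rfl
  · rw [evS_T]
    change _ = evU S x (T 1)
    rw [evU_T]

end Ev

section Ls

variable {R S H E E' : Type u} [CommRing R] [CommRing S] [CommRing H] [CommRing E]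
  [HopfAlgebra R H] [Algebra R S] [Algebra R E] [CommRing E'] [Algebra R E']
variable (lam : S ⊗[R] H →ₐc[S] S[T;T⁻¹])

/-- the value `λ_σ(x)` -/
noncomputable def LsF (σ : S →ₐ[R] E) (x : Eˣ) : WithConv (H →ₐ[R] E) :=
  toConv (((evS σ x).comp ((lam : S ⊗[R] H →ₐ[S] S[T;T⁻¹]).restrictScalars R)).comp
    Algebra.TensorProduct.includeRight)

lemma LsF_eq [Algebra S E] [IsScalarTower R S E] (x : Eˣ) :
    LsF lam (IsScalarTower.toAlgHom R S E) x = res R S H E (lamU lam x) := by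
  rw [LsF, evS_eq]
  rfl

lemma mapPt_LsF (φ : E →ₐ[R] E') (σ : S →ₐ[R] E) (x : Eˣ) :
    mapPt φ (LsF lam σ x) = LsF lam (φ.comp σ) (Units.map (φ : E →* E') x) := by
  rw [LsF, LsF, ← comp_evS]
  rfl

/-- an algebra map as an instance -/
lemma tower (σ : S →ₐ[R] E) : letI := σ.toRingHom.toAlgebra
    IsScalarTower R S E :=
  letI := σ.toRingHom.toAlgebra
  .of_algebraMap_eq fun r => (σ.commutes r).symm

lemma LsF_mul (σ : S →ₐ[R] E) (x y : Eˣ) : LsF lam σ (x * y) = LsF lam σ x * LsF lam σ y := by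
  let _ := σ.toRingHom.toAlgebra
  have := tower σ
  have h : σ = IsScalarTower.toAlgHom R S E := rfl
  rw [h, LsF_eq, LsF_eq, LsF_eq, map_mul, map_mul]

lemma LsF_one (σ : S →ₐ[R] E) : LsF lam σ (1 : Eˣ) = 1 := by
  let _ := σ.toRingHom.toAlgebra
  have := tower σ
  have h : σ = IsScalarTower.toAlgHom R S E := rfl
  rw [h, LsF_eq, map_one, map_one]

/-- `x ↦ λ_σ(x)` -/
noncomputable def Ls (σ : S →ₐ[R] E) : Eˣ →* WithConv (H →ₐ[R] E) where
  toFun := LsF lam σ
  map_one' := LsF_one lam σ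
  map_mul' := LsF_mul lam σ

lemma Ls_eq [Algebra S E] [IsScalarTower R S E] (x : Eˣ) :
    Ls lam (IsScalarTower.toAlgHom R S E) x = res R S H E (lamU lam x) := LsF_eq lam x

lemma mapPt_Ls (φ : E →ₐ[R] E') (σ : S →ₐ[R] E) (x : Eˣ) :
    mapPt φ (Ls lam σ x) = Ls lam (φ.comp σ) (Units.map (φ : E →* E') x) := mapPt_LsF lam φ σ x

end Ls

section Bc

variable {R S H D E : Type u} [CommRing R] [CommRing S] [CommRing H] [CommRing D]
  [HopfAlgebra R H] [Algebra R S] [Algebra R D] [CommRing E] [Algebra R E]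
variable (lam : S ⊗[R] H →ₐc[S] S[T;T⁻¹]) (σ : S →ₐ[R] D)

/-- the base change of `λ` as an algebra map -/
noncomputable def bcA : D ⊗[R] H →ₐ[D] D[T;T⁻¹] :=
  ((res R D H D[T;T⁻¹]).symm (Ls lam ((cst R D).comp σ) (uT D))).ofConv

lemma bcA_comp [Algebra D E] [IsScalarTower R D E] (x : Eˣ) :
    toConv ((evU D x).comp (bcA lam σ)) =
      (res R D H E).symm (Ls lam ((IsScalarTower.toAlgHom R D E).comp σ) x) := by
  apply (res R D H E).injective
  rw [MulEquiv.apply_symm_apply]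
  have h1 : mapPt ((evU D x).restrictScalars R) (Ls lam ((cst R D).comp σ) (uT D)) =
      Ls lam ((IsScalarTower.toAlgHom R D E).comp σ) x := by
    rw [mapPt_Ls]
    congr 2
    · ext s
      change evU D x (C (σ s)) = _
      rw [C_eq_algebraMap, AlgHom.commutes]
      rfl
    · ext1
      change evU D x (T 1) = _
      rw [evU_T, zpow_one]
  rw [← h1]
  apply WithConv.ofConv_injective
  ext a
  change evU D x (((res R D H D[T;T⁻¹]).symm (Ls lam ((cst R D).comp σ) (uT D))).ofConv (1 ⊗ₜ a)) = _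
  rw [res_symm_apply, map_one, one_mul]
  rfl

/-- **base change of cocharacters** -/
lemma exists_bc : ∃ g : D ⊗[R] H →ₐc[D] D[T;T⁻¹], (g : D ⊗[R] H →ₐ[D] D[T;T⁻¹]) = bcA lam σ := by
  apply exists_bialgHom
  intro E _ _ x y
  let _ : Algebra R E := Algebra.compHom E (algebraMap R D)
  have : IsScalarTower R D E := .of_algebraMap_eq fun r => rfl
  rw [bcA_comp, bcA_comp, bcA_comp, ← map_mul, ← map_mul]

/-- base change of cocharacters -/
noncomputable def bc : D ⊗[R] H →ₐc[D] D[T;T⁻¹] := (exists_bc lam σ).choose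

lemma coe_bc : (bc lam σ : D ⊗[R] H →ₐ[D] D[T;T⁻¹]) = bcA lam σ := (exists_bc lam σ).choose_spec

lemma res_lamU_bc [Algebra D E] [IsScalarTower R D E] (x : Eˣ) :
    res R D H E (lamU (bc lam σ) x) = Ls lam ((IsScalarTower.toAlgHom R D E).comp σ) x := by
  rw [← (res R D H E).apply_symm_apply (Ls lam ((IsScalarTower.toAlgHom R D E).comp σ) x),
    ← bcA_comp, ← coe_bc]
  rfl

end Bc

section Us

variable {R S H E E' D : Type u} [CommRing R] [CommRing S] [CommRing H] [CommRing E]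
  [HopfAlgebra R H] [Algebra R S] [Algebra R E] [CommRing E'] [Algebra R E'] [CommRing D]
  [Algebra R D]
variable (lam : S ⊗[R] H →ₐc[S] S[T;T⁻¹])

/-- the conjugated orbit -/
noncomputable def orbG (σ : S →ₐ[R] E) : WithConv (H →ₐ[R] E) →* WithConv (H →ₐ[R] E[T;T⁻¹]) :=
  (MulAut.conj (Ls lam ((cst R E).comp σ) (uT E))).toMonoidHom.comp (mapPt (cst R E))

lemma orbG_apply (σ : S →ₐ[R] E) (g : WithConv (H →ₐ[R] E)) : orbG lam σ g =
    Ls lam ((cst R E).comp σ) (uT E) * mapPt (cst R E) g *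
      (Ls lam ((cst R E).comp σ) (uT E))⁻¹ := rfl

/-- the unipotent group `U(λ_σ)` -/
noncomputable def Us (σ : S →ₐ[R] E) : Subgroup (WithConv (H →ₐ[R] E)) :=
  ((mapPt (ev0 R E)).ker.map (mapPt (tl R E))).comap (orbG lam σ)

lemma mem_Us {σ : S →ₐ[R] E} {g : WithConv (H →ₐ[R] E)} : g ∈ Us lam σ ↔
    ∃ h : WithConv (H →ₐ[R] Polynomial E), mapPt (ev0 R E) h = 1 ∧
      mapPt (tl R E) h = orbG lam σ g := Iff.rfl

lemma mapPt_orbG (φ : E →ₐ[R] E') (σ : S →ₐ[R] E) (g : WithConv (H →ₐ[R] E)) :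
    mapPt (AddMonoidAlgebra.mapAlgHom ℤ φ) (orbG lam σ g) = orbG lam (φ.comp σ) (mapPt φ g) := by
  have h1 : (AddMonoidAlgebra.mapAlgHom ℤ φ).comp ((cst R E).comp σ) =
      (cst R E').comp (φ.comp σ) := by
    rw [← AlgHom.comp_assoc, map_comp_cst, AlgHom.comp_assoc]
  rw [orbG_apply, orbG_apply, map_mul, map_mul, map_inv, mapPt_Ls, map_uT, h1, ← mapPt_comp,
    ← mapPt_comp, map_comp_cst]

lemma mapPt_mem_Us (φ : E →ₐ[R] E') {σ : S →ₐ[R] E} {g : WithConv (H →ₐ[R] E)}
    (hg : g ∈ Us lam σ) : mapPt φ g ∈ Us lam (φ.comp σ) := by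
  obtain ⟨h, h0, h1⟩ := hg
  refine ⟨mapPt (Polynomial.mapAlgHom φ) h, ?_, ?_⟩
  · change mapPt (ev0 R E') _ = 1
    have e1 : (ev0 R E').comp (Polynomial.mapAlgHom φ) = φ.comp (ev0 R E) := by
      apply AlgHom.ext
      intro p
      change ev0 R E' (p.map (φ : E →+* E')) = φ (ev0 R E p)
      rw [ev0_apply, ev0_apply, Polynomial.coeff_map]
      rfl
    rw [← mapPt_comp, e1, mapPt_comp, show mapPt (ev0 R E) h = 1 from h0, map_one]
  · have e2 : (tl R E').comp (Polynomial.mapAlgHom φ) =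
        (AddMonoidAlgebra.mapAlgHom ℤ φ).comp (tl R E) := by
      apply AlgHom.ext
      intro p
      change Polynomial.toLaurent (p.map (φ : E →+* E')) =
        AddMonoidAlgebra.mapAlgHom ℤ φ (Polynomial.toLaurent p)
      induction p using Polynomial.induction_on' with
      | add p q hp hq => simp only [Polynomial.map_add, map_add, hp, hq]
      | monomial n a =>
        rw [Polynomial.map_monomial, Polynomial.toLaurent_C_mul_T, Polynomial.toLaurent_C_mul_T,
          ← single_eq_C_mul_T, ← single_eq_C_mul_T, AddMonoidAlgebra.mapAlgHom_single]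
        rfl
    rw [← mapPt_comp, e2, mapPt_comp, h1, mapPt_orbG]

lemma res_mapPt [Algebra D E] [IsScalarTower R D E] [Algebra D E'] [IsScalarTower R D E']
    (φ : E →ₐ[D] E') (g : WithConv (D ⊗[R] H →ₐ[D] E)) :
    res R D H E' (mapPt φ g) = mapPt (φ.restrictScalars R) (res R D H E g) := rfl

/-- comparison of the two definitions of the unipotent group -/
lemma mem_USub_iff [Algebra D E] [IsScalarTower R D E] (ν : D ⊗[R] H →ₐc[D] D[T;T⁻¹])
    (σ : S →ₐ[R] E)
    (hν : res R D H E[T;T⁻¹] (lamU ν (uT E)) = Ls lam ((cst R E).comp σ) (uT E))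
    (g : WithConv (D ⊗[R] H →ₐ[D] E)) :
    g ∈ USub ν E ↔ res R D H E g ∈ Us lam σ := by
  have h1 : res R D H E[T;T⁻¹] (orbHom ν g) = orbG lam σ (res R D H E g) := by
    rw [orbG_apply, ← hν, orbHom, MonoidHom.comp_apply, orb_apply, map_mul, map_mul, map_inv]
    rfl
  constructor
  · rintro ⟨h, h0, h2⟩
    refine ⟨res R D H _ h, ?_, ?_⟩
    · change mapPt (ev0 R E) (res R D H _ h) = 1
      have h3 := congrArg (res R D H E) (show mapPt (ev0 D E) h = 1 from h0)
      rw [map_one] at h3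
      exact h3
    · rw [← h1, ← h2]
      rfl
  · rintro ⟨h, h0, h2⟩
    refine ⟨(res R D H _).symm h, ?_, ?_⟩
    · change mapPt (ev0 D E) _ = 1
      apply (res R D H E).injective
      rw [map_one, res_mapPt, MulEquiv.apply_symm_apply]
      exact h0
    · apply (res R D H _).injective
      rw [h1, ← h2, res_mapPt, MulEquiv.apply_symm_apply]
      rfl

lemma mem_USub_bc_iff [Algebra D E] [IsScalarTower R D E] (σ : S →ₐ[R] D)
    (g : WithConv (D ⊗[R] H →ₐ[D] E)) :
    g ∈ USub (bc lam σ) E ↔ res R D H E g ∈ Us lam ((IsScalarTower.toAlgHom R D E).comp σ) := by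
  apply mem_USub_iff
  rw [res_lamU_bc]
  rfl

lemma mem_USub_iff' [Algebra S E] [IsScalarTower R S E] (g : WithConv (S ⊗[R] H →ₐ[S] E)) :
    g ∈ USub lam E ↔ res R S H E g ∈ Us lam (IsScalarTower.toAlgHom R S E) := by
  apply mem_USub_iff
  rw [← Ls_eq]
  rfl

/-- congruence modulo `U` of the two base changes of `λ` -/
def Cong (σ₁ σ₂ : S →ₐ[R] D) : Prop :=
  Ls lam ((cst R D).comp σ₂) (uT D) * (Ls lam ((cst R D).comp σ₁) (uT D))⁻¹ ∈
    Us lam ((cst R D).comp σ₁)

/-- conjugacy of congruent cocharacters -/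
theorem existsUnique_conj {σ₁ σ₂ : S →ₐ[R] D} (h : Cong lam σ₁ σ₂) :
    ∃! u : WithConv (H →ₐ[R] D), u ∈ Us lam σ₁ ∧
      Ls lam ((cst R D).comp σ₂) (uT D) = mapPt (cst R D) u * Ls lam ((cst R D).comp σ₁) (uT D) *
        (mapPt (cst R D) u)⁻¹ := by
  have e1 : res R D H D[T;T⁻¹] (lamU (bc lam σ₁) (uT D)) = Ls lam ((cst R D).comp σ₁) (uT D) :=
    res_lamU_bc lam σ₁ _
  have e2 : res R D H D[T;T⁻¹] (lamU (bc lam σ₂) (uT D)) = Ls lam ((cst R D).comp σ₂) (uT D) :=
    res_lamU_bc lam σ₂ _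
  have hU : SplitConj.cc (bc lam σ₁) (bc lam σ₂) (uT D) ∈ USub (bc lam σ₁) D[T;T⁻¹] := by
    rw [mem_USub_bc_iff, SplitConj.cc, map_mul, map_inv, e1, e2]
    exact h
  obtain ⟨u, ⟨hu1, hu2⟩, hu3⟩ := SplitConj.existsUnique_conj (bc lam σ₁) (bc lam σ₂) hU
  refine ⟨res R D H D u, ⟨?_, ?_⟩, ?_⟩
  · exact (mem_USub_bc_iff lam σ₁ u).1 hu1
  · rw [← e1, ← e2, hu2, map_mul, map_mul, map_inv]
    rfl
  · rintro v ⟨hv1, hv2⟩
    rw [← (hu3 ((res R D H D).symm v) ⟨?_, ?_⟩), MulEquiv.apply_symm_apply]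
    · rw [mem_USub_bc_iff, MulEquiv.apply_symm_apply]
      exact hv1
    · apply (res R D H _).injective
      rw [e2, hv2, map_mul, map_mul, map_inv, e1, res_mapPt, MulEquiv.apply_symm_apply]
      rfl

lemma Cong.map {σ₁ σ₂ : S →ₐ[R] D} (h : Cong lam σ₁ σ₂) (φ : D →ₐ[R] E) :
    Cong lam (φ.comp σ₁) (φ.comp σ₂) := by
  have h1 := mapPt_mem_Us lam (AddMonoidAlgebra.mapAlgHom ℤ φ) h
  have h2 : ∀ σ : S →ₐ[R] D, (AddMonoidAlgebra.mapAlgHom ℤ φ).comp ((cst R D).comp σ) =
      (cst R E).comp (φ.comp σ) := by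
    intro σ
    rw [← AlgHom.comp_assoc, map_comp_cst, AlgHom.comp_assoc]
  rw [map_mul, map_inv, mapPt_Ls, mapPt_Ls, map_uT, h2, h2] at h1
  exact h1

end Us

end Groth.Agent.Sga3B.Par.CochBC
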