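import Groth.Agent.Sga3B.Par.ReesLift
import Groth.Agent.Desc.CoactDescent
import Mathlib.RingTheory.Etale.Descent
import Mathlib.RingTheory.PolynomialAlgebra
import Mathlib.RingTheory.TensorProduct.IncludeLeftSubRight

/-!
# Sections of twisted forms of positively graded smooth algebras

Let `R → S` be faithfully flat, `C` a smooth `S`-algebra with a grading in nonnegative degrees with
`C₀ = S`, and `a : C → S ⊗[R] C` a coaction (descent datum) compatible with the filtration by the
degree. Then there is an algebra map `C → S` compatible with `a`.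
-/

set_option autoImplicit false

open Polynomial TensorProduct

universe u

namespace Groth.Agent.Sga3B.Par.ReesDescent

open ReesLift

section Generic

attribute [local instance] Polynomial.algebra

/-- descent of smoothness over polynomial rings -/
theorem smooth_of_isBaseChange {R S B₀ B₁ : Type u} [CommRing R] [CommRing S] [CommRing B₀]
    [CommRing B₁] [Algebra R S] [Module.FaithfullyFlat R S] [Algebra R B₀] [Algebra S B₁]
    [Algebra R B₁] [IsScalarTower R S B₁] (j : B₀ →ₐ[R] B₁) (hj : IsBaseChange S j.toLinearMap)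
    (f₀ : R[X] →ₐ[R] B₀) (f₁ : S[X] →ₐ[S] B₁)
    (hf : ∀ p, j (f₀ p) = f₁ (p.map (algebraMap R S))) (hs : f₁.toRingHom.Smooth) :
    f₀.toRingHom.Smooth := by
  let _ : Algebra R[X] B₀ := f₀.toRingHom.toAlgebra
  let _ : Algebra S[X] B₁ := f₁.toRingHom.toAlgebra
  let _ : Algebra B₀ B₁ := j.toRingHom.toAlgebra
  let _ : Algebra R[X] B₁ := (j.comp f₀).toRingHom.toAlgebra
  have t1 : IsScalarTower R R[X] B₀ := .of_algebraMap_eq fun x => (f₀.commutes x).symm
  have t2 : IsScalarTower S S[X] B₁ := .of_algebraMap_eq fun x => (f₁.commutes x).symm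
  have t3 : IsScalarTower R B₀ B₁ := .of_algebraMap_eq fun x => (j.commutes x).symm
  have t4 : IsScalarTower R[X] B₀ B₁ := .of_algebraMap_eq fun x => rfl
  have t5 : IsScalarTower R[X] S[X] B₁ := .of_algebraMap_eq fun x => hf x
  have t6 : IsScalarTower R R[X] B₁ := .of_algebraMap_eq fun x => ((j.comp f₀).commutes x).symm
  have t7 : IsScalarTower R S[X] B₁ := .of_algebraMap_eq fun x => by
    rw [IsScalarTower.algebraMap_apply R S B₁, IsScalarTower.algebraMap_apply R S S[X]]
    exact (f₁.commutes _).symm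
  have h1 : Algebra.IsPushout R S B₀ B₁ := ⟨hj⟩
  have h2 : Algebra.IsPushout R B₀ S B₁ := h1.symm
  have h3 : Algebra.IsPushout R[X] B₀ S[X] B₁ :=
    (Algebra.IsPushout.comp_iff R R[X] S S[X]).1 h2
  have h4 : RingHom.FaithfullyFlat (algebraMap R[X] S[X]) := by
    rw [RingHom.faithfullyFlat_algebraMap_iff]
    exact Module.FaithfullyFlat.of_linearEquiv _ _
      (Algebra.IsPushout.equiv R R[X] S S[X]).symm.toLinearEquiv
  exact RingHom.Smooth.codescendsAlong_faithfullyFlat h4 hs

end Generic

/-- gradings in nonnegative degrees, in the form of a coaction of the multiplicative monoid -/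
structure IsGrad {S C : Type u} [CommRing S] [CommRing C] [Algebra S C] (δ : C →ₐ[S] C[X]) :
    Prop where
  eval_one : ∀ x, (δ x).eval 1 = x
  coact : ∀ x n, δ ((δ x).coeff n) = monomial n ((δ x).coeff n)

section Grad

variable {S C : Type u} [CommRing S] [CommRing C] [Algebra S C] {δ : C →ₐ[S] C[X]}

/-- the filtration by the degree -/
def filt (δ : C →ₐ[S] C[X]) (n : ℕ) : Submodule S C where
  carrier := {x | ∀ i, n < i → (δ x).coeff i = 0}
  add_mem' := by
    intro x y hx hy i hi
    rw [map_add, coeff_add, hx i hi, hy i hi, add_zero]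
  zero_mem' := by
    intro i _
    rw [map_zero, coeff_zero]
  smul_mem' := by
    intro s x hx i hi
    rw [map_smul, coeff_smul, hx i hi, smul_zero]

lemma mem_filt {n : ℕ} {x : C} : x ∈ filt δ n ↔ ∀ i, n < i → (δ x).coeff i = 0 := Iff.rfl

lemma isFilt_filt : IsFilt (filt δ) where
  mono := by
    intro m n hmn x hx i hi
    exact hx i (lt_of_le_of_lt hmn hi)
  one_mem := by
    intro i hi
    rw [map_one, coeff_one, if_neg (by omega)]
  mul_mem := by
    intro i j x y hx hy k hk
    rw [map_mul, coeff_mul]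
    refine Finset.sum_eq_zero fun p hp => ?_
    rw [Finset.mem_antidiagonal] at hp
    by_cases h : i < p.1
    · rw [hx _ h, zero_mul]
    · rw [hy _ (by omega), mul_zero]

variable (δ) in
/-- the `n`-th component -/
noncomputable def pr (n : ℕ) : C →ₗ[S] C := (lcoeff C n).restrictScalars S ∘ₗ δ.toLinearMap

@[simp] lemma pr_apply (n : ℕ) (x : C) : pr δ n x = (δ x).coeff n := rfl

lemma exists_mem_filt (x : C) : ∃ n, x ∈ filt δ n :=
  ⟨(δ x).natDegree, fun _ hi => coeff_eq_zero_of_natDegree_lt hi⟩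

variable (hδ : IsGrad δ)

include hδ

lemma coeff_coact (x : C) (n i : ℕ) :
    (δ ((δ x).coeff n)).coeff i = if n = i then (δ x).coeff n else 0 := by
  rw [hδ.coact, coeff_monomial]

lemma pr_mem_filt (x : C) (n m : ℕ) (hnm : n ≤ m) : pr δ n x ∈ filt δ m := by
  intro i hi
  rw [pr_apply, coeff_coact hδ, if_neg (by omega)]

lemma eq_sum {n : ℕ} {x : C} (hx : x ∈ filt δ n) :
    x = ∑ i ∈ Finset.range (n + 1), (δ x).coeff i := by
  conv_lhs => rw [← hδ.eval_one x]
  have h : (δ x).natDegree < n + 1 := by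
    rw [Nat.lt_succ_iff, natDegree_le_iff_coeff_eq_zero]
    exact fun N hN => hx N hN
  rw [eval_eq_sum_range' h]
  simp

/-- `f Xʲ ↦ δ(f) Xʲ` -/
noncomputable def Psi (δ : C →ₐ[S] C[X]) : C[X] →+* C[X] := eval₂RingHom (δ : C →+* C[X]) X

omit hδ in
lemma Psi_monomial (n : ℕ) (x : C) : Psi δ (monomial n x) = δ x * X ^ n := by
  rw [Psi, coe_eval₂RingHom, eval₂_monomial]
  rfl

omit hδ in
lemma coeff_Psi (b : C[X]) (d : ℕ) : (Psi δ b).coeff d =
    ∑ p ∈ Finset.antidiagonal d, (δ (b.coeff p.1)).coeff p.2 := by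
  induction b using Polynomial.induction_on' with
  | add p q hp hq =>
    rw [map_add, coeff_add, hp, hq, ← Finset.sum_add_distrib]
    refine Finset.sum_congr rfl fun p _ => ?_
    rw [coeff_add, map_add, coeff_add]
  | monomial n x =>
    rw [Psi_monomial, coeff_mul_X_pow']
    simp only [coeff_monomial]
    split_ifs with h
    · rw [Finset.sum_eq_single (n, d - n)]
      · rw [if_pos rfl]
      · rintro ⟨i, j⟩ hij hne
        rw [Finset.mem_antidiagonal] at hij
        change i + j = d at hij
        change (δ (if n = i then x else 0)).coeff j = 0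
        rw [if_neg, map_zero, coeff_zero]
        rintro rfl
        apply hne
        rw [show j = d - n by omega]
      · intro hn
        exact absurd (Finset.mem_antidiagonal.2 (by change n + (d - n) = d; omega)) hn
    · symm
      refine Finset.sum_eq_zero fun p hp => ?_
      rw [Finset.mem_antidiagonal] at hp
      rw [if_neg (by omega), map_zero, coeff_zero]

lemma Psi_mem (b : C[X]) : Psi δ b ∈ rees (isFilt_filt (δ := δ)) := by
  intro d
  rw [coeff_Psi]
  refine Submodule.sum_mem _ fun p hp => ?_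
  rw [Finset.mem_antidiagonal] at hp
  exact pr_mem_filt hδ _ _ _ (by omega)

lemma Psi_injective : Function.Injective (Psi δ) := by
  rw [injective_iff_map_eq_zero]
  intro b hb
  have key : ∀ i j, (δ (b.coeff i)).coeff j = 0 := by
    intro i j
    have h1 : (δ ((Psi δ b).coeff (i + j))).coeff j = 0 := by rw [hb]; simp
    rw [coeff_Psi, map_sum, finsetSum_coeff, Finset.sum_eq_single (i, j)] at h1
    · rwa [coeff_coact hδ, if_pos rfl] at h1
    · rintro ⟨i', j'⟩ hij hne
      rw [Finset.mem_antidiagonal] at hij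
      change i' + j' = i + j at hij
      change (δ ((δ (b.coeff i')).coeff j')).coeff j = 0
      rw [coeff_coact hδ, if_neg]
      rintro rfl
      apply hne
      rw [show i' = i by omega]
    · intro hn
      exact absurd (Finset.mem_antidiagonal.2 (show i + j = i + j from rfl)) hn
  ext i
  rw [← hδ.eval_one (b.coeff i)]
  have : δ (b.coeff i) = 0 := by
    ext j
    rw [key, coeff_zero]
  rw [this, eval_zero, coeff_zero]

lemma Psi_surjective {b : C[X]} (hb : b ∈ rees (isFilt_filt (δ := δ))) : ∃ c, Psi δ c = b := by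
  rw [← sum_monomial_eq b, Polynomial.sum]
  have h1 : ∀ d, ∃ c, Psi δ c = monomial d (b.coeff d) := by
    intro d
    refine ⟨∑ i ∈ Finset.range (d + 1), monomial (d - i) ((δ (b.coeff d)).coeff i), ?_⟩
    rw [map_sum]
    conv_rhs => rw [eq_sum hδ (hb d), map_sum]
    refine Finset.sum_congr rfl fun i hi => ?_
    rw [Finset.mem_range] at hi
    rw [Psi_monomial, hδ.coact, ← C_mul_X_pow_eq_monomial, mul_assoc, ← pow_add,
      show i + (d - i) = d by omega, C_mul_X_pow_eq_monomial]
  choose c hc using h1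
  refine ⟨∑ d ∈ b.support, c d, ?_⟩
  rw [map_sum]
  exact Finset.sum_congr rfl fun d _ => hc d

/-- `C[X]` is isomorphic to the Rees algebra. -/
lemma bijective_Psi : Function.Bijective
    ((Psi δ).codRestrict (rees (isFilt_filt (δ := δ))) (Psi_mem hδ)) := by
  constructor
  · intro a b h
    exact Psi_injective hδ (congrArg Subtype.val h)
  · rintro ⟨b, hb⟩
    obtain ⟨c, hc⟩ := Psi_surjective hδ hb
    exact ⟨c, Subtype.ext hc⟩

attribute [local instance] Polynomial.algebra in
omit hδ in
lemma smooth_map [Algebra.Smooth S C] :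
    (mapRingHom (algebraMap S C) : S[X] →+* C[X]).Smooth := by
  have h : RingHom.Smooth (algebraMap S C) := RingHom.smooth_algebraMap.2 inferInstance
  exact RingHom.Smooth.isStableUnderBaseChange S C S[X] C[X] h

/-- the Rees algebra is smooth. -/
lemma smooth_reesMap [Algebra.Smooth S C] : (reesMap (isFilt_filt (δ := δ))).Smooth := by
  have h1 : reesMap (isFilt_filt (δ := δ)) =
      ((Psi δ).codRestrict (rees (isFilt_filt (δ := δ))) (Psi_mem hδ)).comp
        (mapRingHom (algebraMap S C)) := by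
    refine RingHom.ext fun p => Subtype.ext ?_
    rw [coe_reesMap]
    change p.map (algebraMap S C) = Psi δ (p.map (algebraMap S C))
    rw [Psi, coe_eval₂RingHom]
    have h2 : ∀ q : S[X], (q.map (algebraMap S C)).eval₂ (δ : C →+* C[X]) X =
        q.map (algebraMap S C) := by
      intro q
      rw [eval₂_map]
      have h3 : (δ : C →+* C[X]).comp (algebraMap S C) = Polynomial.C.comp (algebraMap S C) := by
        ext1 s
        exact δ.commutes s
      rw [h3]
      induction q using Polynomial.induction_on' with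
      | add p q hp hq => rw [eval₂_add, hp, hq, Polynomial.map_add]
      | monomial n a =>
        rw [eval₂_monomial, map_monomial, ← C_mul_X_pow_eq_monomial]
        rfl
    exact (h2 p).symm
  rw [h1]
  exact RingHom.Smooth.comp smooth_map (RingHom.Smooth.of_bijective (bijective_Psi hδ))

end Grad

section Descent

variable {R S C : Type u} [CommRing R] [CommRing S] [CommRing C] [Algebra R S] [Algebra S C]
  [Algebra R C] [IsScalarTower R S C] {δ : C →ₐ[S] C[X]}

/-- coactions (descent data) on an algebra, compatible with the filtration -/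
structure IsCoact (δ : C →ₐ[S] C[X]) (a : C →ₐ[S] S ⊗[R] C) : Prop where
  counit : ∀ m, Desc.CoactDescent.mulMap R S C (a m) = m
  coassoc : ∀ m, LinearMap.lTensor S (a.toLinearMap.restrictScalars R) (a m) =
    LinearMap.lTensor S (TensorProduct.mk R S C 1) (a m)
  filt : ∀ n, ∀ f ∈ filt δ n, ∀ i, n < i →
    LinearMap.lTensor S ((pr δ i).restrictScalars R) (a f) = 0

/-- the projection onto the filtration step -/
noncomputable def P (hδ : IsGrad δ) (n : ℕ) : C →ₗ[S] filt δ n :=
  (∑ i ∈ Finset.range (n + 1), pr δ i).codRestrict (filt δ n) fun x => by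
    rw [LinearMap.sum_apply]
    refine Submodule.sum_mem _ fun i hi => ?_
    rw [Finset.mem_range] at hi
    exact pr_mem_filt hδ x i n (by omega)

lemma coe_P (hδ : IsGrad δ) (n : ℕ) (x : C) :
    (P hδ n x : C) = ∑ i ∈ Finset.range (n + 1), (δ x).coeff i := by
  change (∑ i ∈ Finset.range (n + 1), pr δ i) x = _
  rw [LinearMap.sum_apply]
  rfl

lemma coe_P_of_mem (hδ : IsGrad δ) {n : ℕ} {x : C} (hx : x ∈ filt δ n) : (P hδ n x : C) = x := by
  rw [coe_P]
  exact (eq_sum hδ hx).symm

variable (R) in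
/-- `S ⊗ (inclusion)` -/
noncomputable abbrev inc (δ : C →ₐ[S] C[X]) (n : ℕ) : S ⊗[R] filt δ n →ₗ[R] S ⊗[R] C :=
  LinearMap.lTensor S ((filt δ n).subtype.restrictScalars R)

lemma exists_inc_P (hδ : IsGrad δ) (z : S ⊗[R] C) : ∃ N, ∀ n ≥ N,
    inc R δ n (LinearMap.lTensor S ((P hδ n).restrictScalars R) z) = z := by
  induction z with
  | zero => exact ⟨0, fun n _ => by rw [map_zero, map_zero]⟩
  | tmul s x =>
    obtain ⟨N, hN⟩ := exists_mem_filt (δ := δ) x
    refine ⟨N, fun n hn => ?_⟩
    rw [LinearMap.lTensor_tmul, LinearMap.lTensor_tmul]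
    congr 1
    exact coe_P_of_mem hδ (isFilt_filt.mono hn hN)
  | add x y hx hy =>
    obtain ⟨N, hN⟩ := hx
    obtain ⟨M, hM⟩ := hy
    refine ⟨max N M, fun n hn => ?_⟩
    rw [map_add, map_add, hN n (le_trans (le_max_left _ _) hn),
      hM n (le_trans (le_max_right _ _) hn)]

lemma inc_P_eq (hδ : IsGrad δ) (n : ℕ) (z : S ⊗[R] C) :
    inc R δ n (LinearMap.lTensor S ((P hδ n).restrictScalars R) z) =
      ∑ i ∈ Finset.range (n + 1), LinearMap.lTensor S ((pr δ i).restrictScalars R) z := by
  induction z with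
  | zero => simp
  | tmul s x =>
    rw [LinearMap.lTensor_tmul, LinearMap.lTensor_tmul]
    simp only [LinearMap.lTensor_tmul]
    rw [← TensorProduct.tmul_sum]
    congr 1
    exact coe_P hδ n x
  | add x y hx hy =>
    rw [map_add, map_add, hx, hy, ← Finset.sum_add_distrib]
    simp only [map_add]

variable {a : C →ₐ[S] S ⊗[R] C}

lemma inc_P_coact (hδ : IsGrad δ) (ha : IsCoact δ a) {n : ℕ} {f : C} (hf : f ∈ filt δ n) :
    inc R δ n (LinearMap.lTensor S ((P hδ n).restrictScalars R) (a f)) = a f := by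
  obtain ⟨N, hN⟩ := exists_inc_P hδ (a f)
  have h1 := hN (max N n) (le_max_left _ _)
  rw [inc_P_eq] at h1 ⊢
  have h2 : n + 1 ≤ max N n + 1 := by omega
  rw [← Finset.sum_range_add_sum_Ico _ h2, Finset.sum_eq_zero (s := Finset.Ico (n + 1) _),
    add_zero] at h1
  · exact h1
  · intro i hi
    rw [Finset.mem_Ico] at hi
    exact ha.filt n f hf i (by omega)

/-- the coaction on the filtration steps -/
noncomputable def an (hδ : IsGrad δ) (a : C →ₐ[S] S ⊗[R] C) (n : ℕ) :
    filt δ n →ₗ[S] S ⊗[R] filt δ n :=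
  TensorProduct.AlgebraTensorModule.map (LinearMap.id : S →ₗ[S] S) ((P hδ n).restrictScalars R) ∘ₗ
    a.toLinearMap ∘ₗ (filt δ n).subtype

lemma inc_an (hδ : IsGrad δ) (ha : IsCoact δ a) {n : ℕ} (f : filt δ n) :
    inc R δ n (an hδ a n f) = a (f : C) :=
  inc_P_coact hδ ha f.2

lemma inc_injective [Module.Flat R S] (n : ℕ) : Function.Injective (inc R (S := S) δ n) :=
  Module.Flat.lTensor_preserves_injective_linearMap _ Subtype.val_injective

lemma mulMap_inc (n : ℕ) (z : S ⊗[R] filt δ n) :
    Desc.CoactDescent.mulMap R S C (inc R δ n z) =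
      (Desc.CoactDescent.mulMap R S (filt δ n) z : C) := by
  induction z with
  | zero => simp
  | tmul s x => rfl
  | add x y hx hy => rw [map_add, map_add, map_add, hx, hy]; rfl

lemma an_counit (hδ : IsGrad δ) (ha : IsCoact δ a) (n : ℕ) (m : filt δ n) :
    Desc.CoactDescent.mulMap R S (filt δ n) (an hδ a n m) = m := by
  apply Subtype.ext
  rw [← mulMap_inc, inc_an hδ ha, ha.counit]

lemma lTensor_inc_an (hδ : IsGrad δ) (ha : IsCoact δ a) (n : ℕ) (z : S ⊗[R] filt δ n) :
    LinearMap.lTensor S (inc R δ n) (LinearMap.lTensor S ((an hδ a n).restrictScalars R) z) =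
      LinearMap.lTensor S (a.toLinearMap.restrictScalars R) (inc R δ n z) := by
  induction z with
  | zero => simp
  | tmul s x =>
    rw [LinearMap.lTensor_tmul, LinearMap.lTensor_tmul, LinearMap.lTensor_tmul,
      LinearMap.lTensor_tmul]
    congr 1
    exact inc_an hδ ha x
  | add x y hx hy => rw [map_add, map_add, map_add, map_add, hx, hy]

lemma lTensor_inc_mk (n : ℕ) (z : S ⊗[R] filt δ n) :
    LinearMap.lTensor S (inc R δ n) (LinearMap.lTensor S (TensorProduct.mk R S (filt δ n) 1) z) =
      LinearMap.lTensor S (TensorProduct.mk R S C 1) (inc R δ n z) := by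
  induction z with
  | zero => simp
  | tmul s x => rfl
  | add x y hx hy => rw [map_add, map_add, map_add, map_add, hx, hy]

lemma an_coassoc [Module.Flat R S] (hδ : IsGrad δ) (ha : IsCoact δ a) (n : ℕ) (m : filt δ n) :
    LinearMap.lTensor S ((an hδ a n).restrictScalars R) (an hδ a n m) =
      LinearMap.lTensor S (TensorProduct.mk R S (filt δ n) 1) (an hδ a n m) := by
  have hinj : Function.Injective (LinearMap.lTensor S (inc R (S := S) δ n)) :=
    Module.Flat.lTensor_preserves_injective_linearMap _ (inc_injective n)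
  apply hinj
  rw [lTensor_inc_an hδ ha, lTensor_inc_mk, inc_an hδ ha, ha.coassoc]

/-- the `R`-algebra of coinvariants -/
def coinvAlg (a : C →ₐ[S] S ⊗[R] C) : Subalgebra R C where
  carrier := {m | a m = 1 ⊗ₜ m}
  mul_mem' := by
    intro x y hx hy
    change a (x * y) = 1 ⊗ₜ (x * y)
    rw [map_mul, hx, hy, Algebra.TensorProduct.tmul_mul_tmul, mul_one]
  add_mem' := by
    intro x y hx hy
    change a (x + y) = 1 ⊗ₜ (x + y)
    rw [map_add, hx, hy, TensorProduct.tmul_add]
  algebraMap_mem' := by
    intro r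
    change a (algebraMap R C r) = 1 ⊗ₜ algebraMap R C r
    rw [IsScalarTower.algebraMap_apply R S C, AlgHom.commutes,
      Algebra.TensorProduct.algebraMap_apply, Algebra.algebraMap_self, RingHom.id_apply,
      ← IsScalarTower.algebraMap_apply R S C, Algebra.algebraMap_eq_smul_one (A := S) r,
      Algebra.algebraMap_eq_smul_one (A := C) r, TensorProduct.smul_tmul]

lemma mem_coinvAlg {m : C} : m ∈ coinvAlg a ↔ a m = 1 ⊗ₜ m := Iff.rfl

/-- the filtration on coinvariants -/
def F0 (δ : C →ₐ[S] C[X]) (a : C →ₐ[S] S ⊗[R] C) (n : ℕ) : Submodule R (coinvAlg a) :=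
  ((filt δ n).restrictScalars R).comap (coinvAlg a).val.toLinearMap

lemma mem_F0 {n : ℕ} {x : coinvAlg a} : x ∈ F0 δ a n ↔ (x : C) ∈ filt δ n := Iff.rfl

lemma isFilt_F0 : IsFilt (F0 δ a) where
  mono := fun _ _ hmn _ hx => isFilt_filt.mono hmn hx
  one_mem := isFilt_filt.one_mem
  mul_mem := fun i j _ _ hx hy => isFilt_filt.mul_mem i j _ _ hx hy

/-- `filt n` is spanned by coinvariants -/
lemma exists_sum [Module.Flat R S] (hδ : IsGrad δ) (ha : IsCoact δ a) (n : ℕ) (f : filt δ n) :
    ∃ z : S ⊗[R] F0 δ a n, (Desc.CoactDescent.mulMap R S C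
      (LinearMap.lTensor S ((coinvAlg a).val.toLinearMap ∘ₗ (F0 δ a n).subtype) z)) = f := by
  obtain ⟨y, hy⟩ := (Desc.CoactDescent.ofCoinv_bijective (an hδ a n) (an_counit hδ ha n)
    (an_coassoc hδ ha n)).2 f
  have hm : ∀ m : Desc.CoactDescent.coinv (an hδ a n), ((m : filt δ n) : C) ∈ coinvAlg a := by
    intro m
    have h1 := (Desc.CoactDescent.mem_coinv _).1 m.2
    have h2 := congrArg (inc R δ n) h1
    rw [inc_an hδ ha] at h2
    exact h2
  let g : Desc.CoactDescent.coinv (an hδ a n) →ₗ[R] F0 δ a n :=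
    { toFun := fun m => ⟨⟨m, hm m⟩, m.1.2⟩
      map_add' := fun _ _ => rfl
      map_smul' := fun _ _ => rfl }
  refine ⟨LinearMap.lTensor S g y, ?_⟩
  rw [← hy]
  generalize y = y
  induction y with
  | zero => simp
  | tmul s x => rfl
  | add x y hx hy => rw [map_add, map_add, map_add, map_add, hx, hy]; rfl

/-- the inclusion of Rees algebras -/
noncomputable def jj (δ : C →ₐ[S] C[X]) (a : C →ₐ[S] S ⊗[R] C) :
    rees (isFilt_F0 (δ := δ) (a := a)) →ₐ[R] rees (isFilt_filt (δ := δ)) where
  toFun b := ⟨mapAlgHom (coinvAlg a).val (b : (coinvAlg a)[X]), fun d => by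
    rw [coe_mapAlgHom, coeff_map]
    exact b.2 d⟩
  map_one' := Subtype.ext (map_one _)
  map_mul' x y := Subtype.ext (map_mul (mapAlgHom (coinvAlg a).val) _ _)
  map_zero' := Subtype.ext (map_zero _)
  map_add' x y := Subtype.ext (map_add (mapAlgHom (coinvAlg a).val) _ _)
  commutes' r := Subtype.ext ((mapAlgHom (coinvAlg a).val).commutes r)

lemma coe_jj (b : rees (isFilt_F0 (δ := δ) (a := a))) :
    (jj δ a b : C[X]) = mapAlgHom (coinvAlg a).val (b : (coinvAlg a)[X]) := rfl

/-- the comparison map -/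
noncomputable def gg (δ : C →ₐ[S] C[X]) (a : C →ₐ[S] S ⊗[R] C) :
    S ⊗[R] rees (isFilt_F0 (δ := δ) (a := a)) →ₗ[S] rees (isFilt_filt (δ := δ)) :=
  Desc.CoactDescent.mulMap R S (rees (isFilt_filt (δ := δ))) ∘ₗ
    TensorProduct.AlgebraTensorModule.map (LinearMap.id : S →ₗ[S] S) (jj δ a).toLinearMap

lemma gg_tmul (s : S) (b : rees (isFilt_F0 (δ := δ) (a := a))) :
    gg δ a (s ⊗ₜ b) = s • jj δ a b := rfl

/-- the coaction on polynomials -/
noncomputable def a' (a : C →ₐ[S] S ⊗[R] C) : C[X] →ₗ[S] S ⊗[R] C[X] :=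
  Polynomial.lsum fun d =>
    TensorProduct.AlgebraTensorModule.map (LinearMap.id : S →ₗ[S] S)
      ((monomial d : C →ₗ[C] C[X]).restrictScalars R) ∘ₗ a.toLinearMap

omit [IsScalarTower R S C] in
lemma a'_monomial (d : ℕ) (x : C) : a' a (monomial d x) =
    LinearMap.lTensor S ((monomial d : C →ₗ[C] C[X]).restrictScalars R) (a x) := by
  rw [a', Polynomial.lsum_apply, sum_monomial_index]
  · rfl
  · rw [map_zero]

lemma a'_jj (b : rees (isFilt_F0 (δ := δ) (a := a))) : a' a (jj δ a b : C[X]) =
    1 ⊗ₜ (jj δ a b : C[X]) := by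
  rw [← sum_monomial_eq (jj δ a b : C[X]), Polynomial.sum, map_sum, TensorProduct.tmul_sum]
  refine Finset.sum_congr rfl fun d _ => ?_
  rw [a'_monomial]
  have h : (jj δ a b : C[X]).coeff d ∈ coinvAlg a := by
    rw [coe_jj, coe_mapAlgHom, coeff_map]
    exact ((b : (coinvAlg a)[X]).coeff d).2
  rw [mem_coinvAlg] at h
  rw [h, LinearMap.lTensor_tmul]
  rfl

lemma a'_gg (z : S ⊗[R] rees (isFilt_F0 (δ := δ) (a := a))) : a' a (gg δ a z : C[X]) =
    LinearMap.lTensor S ((mapAlgHom (coinvAlg a).val).toLinearMap ∘ₗ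
      (rees (isFilt_F0 (δ := δ) (a := a))).val.toLinearMap) z := by
  induction z with
  | zero => simp
  | tmul s x =>
    rw [gg_tmul]
    change a' a (s • (jj δ a x : C[X])) = _
    rw [map_smul, a'_jj, TensorProduct.smul_tmul', smul_eq_mul, mul_one]
    rfl
  | add x y hx hy =>
    rw [map_add]
    change a' a ((gg δ a x : C[X]) + (gg δ a y : C[X])) = _
    rw [map_add, map_add, hx, hy]

lemma gg_injective [Module.Flat R S] : Function.Injective (gg δ a) := by
  intro x y hxy
  have h : a' a (gg δ a x : C[X]) = a' a (gg δ a y : C[X]) := by rw [hxy]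
  rw [a'_gg, a'_gg] at h
  refine Module.Flat.lTensor_preserves_injective_linearMap _ ?_ h
  intro b c hbc
  apply Subtype.ext
  exact Polynomial.map_injective (coinvAlg a).val.toRingHom Subtype.val_injective hbc

lemma gg_surjective [Module.Flat R S] (hδ : IsGrad δ) (ha : IsCoact δ a) :
    Function.Surjective (gg δ a) := by
  rintro ⟨b, hb⟩
  have key : ∀ (d : ℕ) (x : C) (hx : x ∈ filt δ d), ∃ z, (gg δ a z : C[X]) = monomial d x := by
    intro d x hx
    obtain ⟨z, hz⟩ := exists_sum hδ ha d ⟨x, hx⟩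
    let g : F0 δ a d →ₗ[R] rees (isFilt_F0 (δ := δ) (a := a)) :=
      { toFun := fun m => ⟨monomial d m.1, monomial_mem_rees _ m.2⟩
        map_add' := fun _ _ => Subtype.ext (map_add _ _ _)
        map_smul' := fun r m => Subtype.ext (by
          change monomial d (r • m.1) = r • monomial d m.1
          rw [smul_monomial]) }
    refine ⟨LinearMap.lTensor S g z, ?_⟩
    have hz' : Desc.CoactDescent.mulMap R S C
      (LinearMap.lTensor S ((coinvAlg a).val.toLinearMap ∘ₗ (F0 δ a d).subtype) z) = x := hz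
    rw [← hz']
    clear hz hz' hx
    induction z with
    | zero => simp
    | tmul s y =>
      rw [LinearMap.lTensor_tmul, LinearMap.lTensor_tmul, gg_tmul]
      change s • (jj δ a (g y) : C[X]) = monomial d (s • ((y.1 : coinvAlg a) : C))
      rw [coe_jj]
      change s • mapAlgHom (coinvAlg a).val (monomial d y.1) = _
      rw [coe_mapAlgHom, map_monomial, smul_monomial]
      rfl
    | add x y hx hy =>
      rw [map_add, map_add, map_add, map_add, map_add, ← hx, ← hy]
      rfl
  choose zz hzz using fun d => key d (b.coeff d) (hb d)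
  refine ⟨∑ d ∈ b.support, zz d, ?_⟩
  apply Subtype.ext
  rw [map_sum]
  change (rees (isFilt_filt (δ := δ))).val (∑ d ∈ b.support, gg δ a (zz d)) = b
  rw [map_sum]
  conv_rhs => rw [← sum_monomial_eq b, Polynomial.sum]
  exact Finset.sum_congr rfl fun d _ => hzz d

/-- the Rees algebra of the coinvariants is smooth. -/
theorem smooth_reesMap_F0 [Module.FaithfullyFlat R S] [Algebra.Smooth S C] (hδ : IsGrad δ)
    (ha : IsCoact δ a) : (reesMap (isFilt_F0 (δ := δ) (a := a))).Smooth := by
  have hj : IsBaseChange S (jj δ a).toLinearMap :=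
    IsBaseChange.of_equiv (LinearEquiv.ofBijective (gg δ a)
      ⟨gg_injective, gg_surjective hδ ha⟩) fun x => by
        rw [LinearEquiv.ofBijective_apply, gg_tmul, one_smul]
        rfl
  refine smooth_of_isBaseChange (jj δ a) hj (aeval _) (aeval _) ?_ (smooth_reesMap hδ)
  intro p
  apply Subtype.ext
  have h1 := coe_reesMap (isFilt_F0 (δ := δ) (a := a)) p
  have h2 := coe_reesMap (isFilt_filt (δ := δ)) (p.map (algebraMap R S))
  change mapAlgHom (coinvAlg a).val ((reesMap (isFilt_F0 (δ := δ) (a := a)) p : rees _) :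
    (coinvAlg a)[X]) = ((reesMap (isFilt_filt (δ := δ)) (p.map (algebraMap R S)) : rees _) : C[X])
  rw [h1, h2, coe_mapAlgHom, Polynomial.map_map, Polynomial.map_map]
  congr 1
  rw [← IsScalarTower.algebraMap_eq R S C]
  rfl

/-- **Main theorem**: a smooth positively graded algebra with a filtered descent datum has a section
compatible with the descent datum. -/
theorem exists_section [Module.FaithfullyFlat R S] [Algebra.Smooth S C] (hδ : IsGrad δ)
    (h0 : ∀ x, ∃ s, (δ x).coeff 0 = algebraMap S C s)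
    (hinj : Function.Injective (algebraMap S C)) (ha : IsCoact δ a) :
    ∃ φ : C →ₐ[S] S, ∀ f, LinearMap.lTensor S (φ.toLinearMap.restrictScalars R) (a f) =
      φ f ⊗ₜ[R] (1 : S) := by
  have hRS : Function.Injective (algebraMap R S) := by
    exact FaithfulSMul.algebraMap_injective R S
  have hF0 : ∀ x ∈ F0 δ a 0, ∃ r : R, algebraMap R (coinvAlg a) r = x := by
    intro x hx
    have h1 := eq_sum hδ (mem_F0.1 hx)
    rw [zero_add, Finset.sum_range_one] at h1
    obtain ⟨s, hs⟩ := h0 x
    rw [hs] at h1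
    have h2 : a (x : C) = 1 ⊗ₜ (x : C) := x.2
    rw [h1, AlgHom.commutes, Algebra.TensorProduct.algebraMap_apply, Algebra.algebraMap_self,
      RingHom.id_apply] at h2
    have h3 : s ⊗ₜ[R] (1 : S) = (1 : S) ⊗ₜ[R] s := by
      apply Module.Flat.lTensor_preserves_injective_linearMap (M := S)
        ((Algebra.linearMap S C).restrictScalars R) hinj
      rw [LinearMap.lTensor_tmul, LinearMap.lTensor_tmul]
      change s ⊗ₜ[R] (algebraMap S C 1) = 1 ⊗ₜ[R] (algebraMap S C s)
      rw [map_one]
      exact h2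
    have h4 : s ∈ Set.range (algebraMap R S) := by
      refine (Algebra.IsEffective.of_faithfullyFlat R S s).1 ?_
      rw [Algebra.TensorProduct.includeLeftSubRight_apply, h3, sub_self]
    obtain ⟨r, rfl⟩ := h4
    refine ⟨r, Subtype.ext ?_⟩
    rw [h1, ← IsScalarTower.algebraMap_apply]
    rfl
  have hinj0 : Function.Injective (algebraMap R (coinvAlg a)) := by
    intro r r' h
    apply hRS
    apply hinj
    rw [← IsScalarTower.algebraMap_apply, ← IsScalarTower.algebraMap_apply]
    exact congrArg Subtype.val h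
  obtain ⟨ψ⟩ := exists_retraction (isFilt_F0 (δ := δ) (a := a)) hF0 hinj0
    (fun x => exists_mem_filt (x : C)) (smooth_reesMap_F0 hδ ha).formallySmooth
  -- the comparison `S ⊗ C₀ ≃ C`
  let e : S ⊗[R] coinvAlg a →ₐ[S] C :=
    Algebra.TensorProduct.lift (Algebra.ofId S C) (coinvAlg a).val fun _ _ => Commute.all _ _
  have he : ∀ s m, e (s ⊗ₜ m) = s • (m : C) := by
    intro s m
    change Algebra.ofId S C s * (m : C) = _
    rw [Algebra.smul_def]
    rfl
  have hb := Desc.CoactDescent.ofCoinv_bijective a.toLinearMap ha.counit ha.coassoc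
  let g : Desc.CoactDescent.coinv a.toLinearMap ≃ₗ[R] coinvAlg a :=
    { toFun := fun m => ⟨m.1, (Desc.CoactDescent.mem_coinv _).1 m.2⟩
      invFun := fun m => ⟨m.1, (Desc.CoactDescent.mem_coinv _).2 m.2⟩
      left_inv := fun _ => rfl
      right_inv := fun _ => rfl
      map_add' := fun _ _ => rfl
      map_smul' := fun _ _ => rfl }
  have hcomp : ∀ z, Desc.CoactDescent.ofCoinv a.toLinearMap z = e (LinearMap.lTensor S g.toLinearMap z) := by
    intro z
    induction z with
    | zero => simp
    | tmul s m =>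
      rw [LinearMap.lTensor_tmul, he]
      rfl
    | add x y hx hy => rw [map_add, map_add, map_add, hx, hy]
  have hbij : Function.Bijective e := by
    have h1 : Function.Bijective (LinearMap.lTensor S g.toLinearMap) :=
      (g.lTensor S).bijective
    have h2 : (e : S ⊗[R] coinvAlg a → C) ∘ (LinearMap.lTensor S g.toLinearMap) =
        Desc.CoactDescent.ofCoinv a.toLinearMap := by
      ext z
      exact (hcomp z).symm
    exact (Function.Bijective.of_comp_iff _ h1).1 (h2 ▸ hb)
  let eq := AlgEquiv.ofBijective e hbij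
  let φ' : S ⊗[R] coinvAlg a →ₐ[S] S :=
    Algebra.TensorProduct.lift (AlgHom.id S S) ((Algebra.ofId R S).comp ψ)
      fun _ _ => Commute.all _ _
  have hφ' : ∀ s m, φ' (s ⊗ₜ m) = s * algebraMap R S (ψ m) := fun s m => rfl
  refine ⟨φ'.comp (eq.symm : C →ₐ[S] _), fun f => ?_⟩
  have hφ : ∀ z, (φ'.comp (eq.symm : C →ₐ[S] _)) (e z) = φ' z := by
    intro z
    change φ' (eq.symm (eq z)) = _
    rw [AlgEquiv.symm_apply_apply]
  obtain ⟨z, rfl⟩ := hbij.2 f
  rw [hφ]
  generalize φ'.comp (eq.symm : C →ₐ[S] _) = φ at hφ ⊢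
  induction z with
  | zero => simp
  | tmul s m =>
    have hm : a (m : C) = 1 ⊗ₜ (m : C) := m.2
    have h5 : φ (m : C) = algebraMap R S (ψ m) := by
      have := hφ (1 ⊗ₜ m)
      rwa [he, one_smul, hφ', one_mul] at this
    rw [he, map_smul, hm, TensorProduct.smul_tmul', smul_eq_mul, mul_one, LinearMap.lTensor_tmul,
      hφ']
    change s ⊗ₜ[R] φ (m : C) = _
    rw [h5, mul_comm s, ← Algebra.smul_def, TensorProduct.smul_tmul,
      Algebra.algebraMap_eq_smul_one]
  | add x y hx hy => rw [map_add, map_add, map_add, map_add, hx, hy, TensorProduct.add_tmul]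

end Descent

end Groth.Agent.Sga3B.Par.ReesDescent
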