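import Groth.Agent.Sga3B.Par.CochBC
import Groth.Agent.Sga3B.Par.ReesDescent

/-!
# Descent of cocharacters modulo the unipotent radical

Let `R → S` be faithfully flat, `H` a Hopf algebra over `R`, `λ` a cocharacter of `H` over `S` whose
two pullbacks to `S ⊗ S` agree modulo `U(λ)`. If `U(λ)` is smooth, then some conjugate of `λ` by a
point of `U(λ)` is defined over `R`.
-/

set_option autoImplicit false

open LaurentPolynomial TensorProduct WithConv Coalgebra
open Groth.Agent.Books.DynBasic Groth.Agent.Books.DynLim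

universe u

namespace Groth.Agent.Sga3B.Par.CochTor

open CochBC

variable {R S H D E : Type u} [CommRing R] [CommRing S] [CommRing H] [CommRing D] [CommRing E]
  [HopfAlgebra R H] [Algebra R S] [Algebra R D] [Algebra R E]
variable (lam : S ⊗[R] H →ₐc[S] S[T;T⁻¹])

section W

variable {σ σ₁ σ₂ σ₃ : S →ₐ[R] D}

/-- the element conjugating one base change to another one -/
noncomputable def W (h : Cong lam σ₁ σ₂) : WithConv (H →ₐ[R] D) :=
  (existsUnique_conj lam h).choose

lemma W_mem (h : Cong lam σ₁ σ₂) : W lam h ∈ Us lam σ₁ :=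
  (existsUnique_conj lam h).choose_spec.1.1

lemma W_conj (h : Cong lam σ₁ σ₂) : Ls lam ((cst R D).comp σ₂) (uT D) =
    mapPt (cst R D) (W lam h) * Ls lam ((cst R D).comp σ₁) (uT D) *
      (mapPt (cst R D) (W lam h))⁻¹ :=
  (existsUnique_conj lam h).choose_spec.1.2

lemma eq_W (h : Cong lam σ₁ σ₂) {u : WithConv (H →ₐ[R] D)} (hu : u ∈ Us lam σ₁)
    (hu2 : Ls lam ((cst R D).comp σ₂) (uT D) = mapPt (cst R D) u *
      Ls lam ((cst R D).comp σ₁) (uT D) * (mapPt (cst R D) u)⁻¹) : u = W lam h :=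
  (existsUnique_conj lam h).choose_spec.2 u ⟨hu, hu2⟩

lemma Us_eq (h : Cong lam σ₁ σ₂) : Us lam σ₂ = Us lam σ₁ := by
  have key : ∀ g, g ∈ Us lam σ₂ ↔ (W lam h)⁻¹ * g * W lam h ∈ Us lam σ₁ := by
    intro g
    have h1 : orbG lam σ₂ g = mapPt (cst R D) (W lam h) *
        orbG lam σ₁ ((W lam h)⁻¹ * g * W lam h) * (mapPt (cst R D) (W lam h))⁻¹ := by
      rw [orbG_apply, orbG_apply, W_conj lam h, map_mul, map_mul, map_inv]
      simp [mul_assoc]
    have hcp : (tl R D).comp (cp R D) = cst R D := tl_comp_cp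
    have hc0 : (ev0 R D).comp (cp R D) = AlgHom.id R D := ev0_comp_cp
    constructor
    · rintro ⟨q, q0, q1⟩
      refine ⟨(mapPt (cp R D) (W lam h))⁻¹ * q * mapPt (cp R D) (W lam h), ?_, ?_⟩
      · change mapPt (ev0 R D) _ = 1
        rw [map_mul, map_mul, map_inv, show mapPt (ev0 R D) q = 1 from q0, mul_one,
          inv_mul_cancel]
      · rw [map_mul, map_mul, map_inv, ← mapPt_comp, hcp, q1, h1]
        simp [mul_assoc]
    · rintro ⟨q, q0, q1⟩
      refine ⟨mapPt (cp R D) (W lam h) * q * (mapPt (cp R D) (W lam h))⁻¹, ?_, ?_⟩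
      · change mapPt (ev0 R D) _ = 1
        rw [map_mul, map_mul, map_inv, show mapPt (ev0 R D) q = 1 from q0, mul_one,
          mul_inv_cancel]
      · rw [map_mul, map_mul, map_inv, ← mapPt_comp, hcp, q1, h1]
  have hW := W_mem lam h
  ext g
  rw [key]
  constructor
  · intro hg
    have := mul_mem (mul_mem hW hg) (inv_mem hW)
    simpa [mul_assoc] using this
  · intro hg
    exact mul_mem (mul_mem (inv_mem hW) hg) hW

lemma W_self (h : Cong lam σ σ) : W lam h = 1 :=
  (eq_W lam h (one_mem _) (by simp)).symm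

lemma W_trans (h12 : Cong lam σ₁ σ₂) (h23 : Cong lam σ₂ σ₃) (h13 : Cong lam σ₁ σ₃) :
    W lam h23 * W lam h12 = W lam h13 := by
  apply eq_W
  · exact mul_mem ((Us_eq lam h12) ▸ W_mem lam h23) (W_mem lam h12)
  · rw [W_conj lam h23, W_conj lam h12, map_mul]
    simp [mul_assoc]

lemma W_map (h : Cong lam σ₁ σ₂) (φ : D →ₐ[R] E) :
    mapPt φ (W lam h) = W lam (h.map lam φ) := by
  apply eq_W
  · exact mapPt_mem_Us lam φ (W_mem lam h)
  · have h1 := congrArg (mapPt (AddMonoidAlgebra.mapAlgHom ℤ φ)) (W_conj lam h)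
    have h2 : ∀ σ : S →ₐ[R] D, (AddMonoidAlgebra.mapAlgHom ℤ φ).comp ((cst R D).comp σ) =
        (cst R E).comp (φ.comp σ) := by
      intro σ
      rw [← AlgHom.comp_assoc, map_comp_cst, AlgHom.comp_assoc]
    rw [map_mul, map_mul, map_inv, mapPt_Ls, mapPt_Ls, map_uT, h2, h2, ← mapPt_comp,
      map_comp_cst, mapPt_comp] at h1
    exact h1

variable (R S) in
/-- congruence over `S ⊗ S` implies congruence everywhere. -/
lemma cong_of (h0 : Cong lam (Algebra.TensorProduct.includeLeft : S →ₐ[R] S ⊗[R] S)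
    Algebra.TensorProduct.includeRight) (σ₁ σ₂ : S →ₐ[R] D) : Cong lam σ₁ σ₂ := by
  have h := h0.map lam (Algebra.TensorProduct.lift σ₁ σ₂ fun _ _ => Commute.all _ _)
  have e1 : (Algebra.TensorProduct.lift σ₁ σ₂ fun _ _ => Commute.all _ _).comp
      (Algebra.TensorProduct.includeLeft : S →ₐ[R] S ⊗[R] S) = σ₁ := by
    ext s
    simp
  have e2 : (Algebra.TensorProduct.lift σ₁ σ₂ fun _ _ => Commute.all _ _).comp
      (Algebra.TensorProduct.includeRight : S →ₐ[R] S ⊗[R] S) = σ₂ := by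
    ext s
    simp
  rwa [e1, e2] at h

end W

section Univ

/-- the coordinate ring of `U(λ)` -/
abbrev CU : Type u := (S ⊗[R] H) ⧸ JU lam

/-- the structure map -/
noncomputable def sU : S →ₐ[R] CU lam := IsScalarTower.toAlgHom R S (CU lam)

/-- the universal point -/
noncomputable def univ : WithConv (H →ₐ[R] CU lam) :=
  res R S H (CU lam) (toConv (Ideal.Quotient.mkₐ S (JU lam)))

lemma univ_mem : univ lam ∈ Us lam (sU lam) := by
  refine (mem_USub_iff' lam _).1 ?_
  rw [mem_USub, ← vanish_JU_iff]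
  intro a ha
  exact Ideal.Quotient.eq_zero_iff_mem.2 ha

lemma univ_ext {f g : CU lam →ₐ[R] E} (h1 : f.comp (sU lam) = g.comp (sU lam))
    (h2 : mapPt f (univ lam) = mapPt g (univ lam)) : f = g := by
  apply AlgHom.ext
  intro x
  obtain ⟨x, rfl⟩ := Ideal.Quotient.mk_surjective x
  have h3 : f.comp (Ideal.Quotient.mkₐ R (JU lam)) = g.comp (Ideal.Quotient.mkₐ R (JU lam)) := by
    apply Algebra.TensorProduct.ext
    · apply AlgHom.ext
      intro s
      exact DFunLike.congr_fun h1 s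
    · apply AlgHom.ext
      intro h
      exact DFunLike.congr_fun (congrArg WithConv.ofConv h2) h
  exact DFunLike.congr_fun h3 x

lemma exists_univ (σ : S →ₐ[R] E) {g : WithConv (H →ₐ[R] E)} (hg : g ∈ Us lam σ) :
    ∃ f : CU lam →ₐ[R] E, f.comp (sU lam) = σ ∧ mapPt f (univ lam) = g := by
  let _ := σ.toRingHom.toAlgebra
  have := tower σ
  have hσ : σ = IsScalarTower.toAlgHom R S E := rfl
  obtain ⟨g', rfl⟩ := (res R S H E).surjective g
  rw [hσ, ← mem_USub_iff', mem_USub, ← vanish_JU_iff] at hg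
  refine ⟨(Ideal.Quotient.liftₐ (JU lam) g'.ofConv hg).restrictScalars R, ?_, ?_⟩
  · apply AlgHom.ext
    intro s
    exact (Ideal.Quotient.liftₐ (JU lam) g'.ofConv hg).commutes s
  · rfl

end Univ

section Coact

variable (h0 : Cong lam (Algebra.TensorProduct.includeLeft : S →ₐ[R] S ⊗[R] S)
    Algebra.TensorProduct.includeRight)

/-- the left structure map -/
noncomputable abbrev sl : S →ₐ[R] S ⊗[R] CU lam := Algebra.TensorProduct.includeLeft

/-- the right structure map -/
noncomputable abbrev sr : S →ₐ[R] S ⊗[R] CU lam :=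
  (Algebra.TensorProduct.includeRight : CU lam →ₐ[R] S ⊗[R] CU lam).comp (sU lam)

/-- the translated universal point -/
noncomputable def vv : WithConv (H →ₐ[R] S ⊗[R] CU lam) :=
  mapPt Algebra.TensorProduct.includeRight (univ lam) * W lam (cong_of R S lam h0 (sl lam) (sr lam))

lemma vv_mem : vv lam h0 ∈ Us lam (sl lam) := by
  refine mul_mem ?_ (W_mem lam _)
  rw [← Us_eq lam (cong_of R S lam h0 (sl lam) (sr lam))]
  exact mapPt_mem_Us lam _ (univ_mem lam)

/-- the coaction as an `R`-algebra map -/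
noncomputable def aR : CU lam →ₐ[R] S ⊗[R] CU lam :=
  (exists_univ lam (sl lam) (vv_mem lam h0)).choose

lemma aR_comp : (aR lam h0).comp (sU lam) = sl lam :=
  (exists_univ lam (sl lam) (vv_mem lam h0)).choose_spec.1

lemma mapPt_aR : mapPt (aR lam h0) (univ lam) = vv lam h0 :=
  (exists_univ lam (sl lam) (vv_mem lam h0)).choose_spec.2

/-- the coaction -/
noncomputable def aa : CU lam →ₐ[S] S ⊗[R] CU lam :=
  { aR lam h0 with
    commutes' := fun s => DFunLike.congr_fun (aR_comp lam h0) s }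

lemma aa_apply (x : CU lam) : aa lam h0 x = aR lam h0 x := rfl

/-- the counit property -/
lemma aa_counit (m : CU lam) : Desc.CoactDescent.mulMap R S (CU lam) (aa lam h0 m) = m := by
  let f : S ⊗[R] CU lam →ₐ[R] CU lam :=
    Algebra.TensorProduct.lift (sU lam) (AlgHom.id R _) fun _ _ => Commute.all _ _
  have hf : ∀ z, Desc.CoactDescent.mulMap R S (CU lam) z = f z := by
    intro z
    induction z with
    | zero => simp
    | tmul s x =>
      rw [Desc.CoactDescent.mulMap_tmul, Algebra.smul_def]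
      rfl
    | add x y hx hy => rw [map_add, map_add, hx, hy]
  have h1 : f.comp (aR lam h0) = AlgHom.id R _ := by
    apply univ_ext lam
    · rw [AlgHom.comp_assoc, aR_comp]
      ext s
      simp [f]
    · rw [mapPt_comp, mapPt_aR, vv, map_mul, W_map, ← mapPt_comp]
      have e1 : f.comp (Algebra.TensorProduct.includeRight : CU lam →ₐ[R] S ⊗[R] CU lam) =
          AlgHom.id R _ := by
        ext s
        simp [f]
      have e2 : f.comp (sl lam) = sU lam := by
        ext s
        simp [f]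
      have e3 : f.comp (sr lam) = sU lam := by
        rw [sr, ← AlgHom.comp_assoc, e1, AlgHom.id_comp]
      rw [e1, mapPt_id]
      have h2 : ∀ (σ₁ σ₂ : S →ₐ[R] CU lam) (h : Cong lam σ₁ σ₂), σ₁ = σ₂ → W lam h = 1 := by
        rintro σ₁ _ h rfl
        exact W_self lam h
      rw [h2 _ _ _ (e2.trans e3.symm), mul_one]
  rw [hf]
  exact DFunLike.congr_fun h1 m

lemma W_congr {σ₁ σ₂ τ₁ τ₂ : S →ₐ[R] D} (h : Cong lam σ₁ σ₂) (h' : Cong lam τ₁ τ₂)
    (e₁ : σ₁ = τ₁) (e₂ : σ₂ = τ₂) : W lam h = W lam h' := by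
  subst e₁ e₂
  rfl

/-- the key computation for coassociativity -/
lemma coassoc_aux (f₁ f₂ ir : S ⊗[R] CU lam →ₐ[R] D)
    (hl : f₁.comp (sl lam) = f₂.comp (sl lam))
    (h1 : f₁.comp Algebra.TensorProduct.includeRight = ir.comp (aR lam h0))
    (h2 : f₂.comp Algebra.TensorProduct.includeRight =
      ir.comp Algebra.TensorProduct.includeRight) :
    f₁.comp (aR lam h0) = f₂.comp (aR lam h0) := by
  have g1 : f₁.comp (sr lam) = ir.comp (sl lam) := by
    rw [sr, ← AlgHom.comp_assoc, h1, AlgHom.comp_assoc, aR_comp]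
  have g2 : f₂.comp (sr lam) = ir.comp (sr lam) := by
    rw [sr, ← AlgHom.comp_assoc, h2, AlgHom.comp_assoc]
  have c12 : Cong lam (f₂.comp (sl lam)) (ir.comp (sl lam)) := cong_of R S lam h0 _ _
  have c13 : Cong lam (f₂.comp (sl lam)) (ir.comp (sr lam)) := cong_of R S lam h0 _ _
  have c23 : Cong lam (ir.comp (sl lam)) (ir.comp (sr lam)) := cong_of R S lam h0 _ _
  have c11 : Cong lam (f₁.comp (sl lam)) (f₁.comp (sr lam)) := cong_of R S lam h0 _ _
  have c22 : Cong lam (f₂.comp (sl lam)) (f₂.comp (sr lam)) := cong_of R S lam h0 _ _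
  have w1 : W lam c11 = W lam c12 := W_congr lam c11 c12 hl g1
  have w2 : W lam c22 = W lam c13 := W_congr lam c22 c13 rfl g2
  have vmap : ∀ (f : S ⊗[R] CU lam →ₐ[R] D)
      (h : Cong lam (f.comp (sl lam)) (f.comp (sr lam))), mapPt f (vv lam h0) =
      mapPt (f.comp Algebra.TensorProduct.includeRight) (univ lam) * W lam h := by
    intro f h
    rw [vv, map_mul, W_map]
    rfl
  have e1 : mapPt f₁ (vv lam h0) =
      mapPt (ir.comp Algebra.TensorProduct.includeRight) (univ lam) * W lam c13 := by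
    have t1 : mapPt (ir.comp (aR lam h0)) (univ lam) = mapPt ir (vv lam h0) := by
      rw [mapPt_comp, mapPt_aR]
    have t2 := W_trans lam c12 c23 c13
    rw [vmap f₁ c11, w1, h1, t1, vmap ir c23, mul_assoc, t2]
  have e2 : mapPt f₂ (vv lam h0) =
      mapPt (ir.comp Algebra.TensorProduct.includeRight) (univ lam) * W lam c13 := by
    rw [vmap f₂ c22, w2, h2]
  apply univ_ext lam
  · rw [AlgHom.comp_assoc, AlgHom.comp_assoc, aR_comp, hl]
  · rw [mapPt_comp, mapPt_comp, mapPt_aR, e1, e2]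

/-- coassociativity -/
lemma aa_coassoc (m : CU lam) :
    LinearMap.lTensor S ((aa lam h0).toLinearMap.restrictScalars R) (aa lam h0 m) =
      LinearMap.lTensor S (TensorProduct.mk R S (CU lam) 1) (aa lam h0 m) := by
  let f₁ : S ⊗[R] CU lam →ₐ[R] S ⊗[R] (S ⊗[R] CU lam) :=
    Algebra.TensorProduct.map (AlgHom.id R S) (aR lam h0)
  let f₂ : S ⊗[R] CU lam →ₐ[R] S ⊗[R] (S ⊗[R] CU lam) :=
    Algebra.TensorProduct.map (AlgHom.id R S) Algebra.TensorProduct.includeRight
  have h3 : f₁.comp (aR lam h0) = f₂.comp (aR lam h0) := by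
    refine coassoc_aux (D := S ⊗[R] (S ⊗[R] CU lam)) lam h0 f₁ f₂
      Algebra.TensorProduct.includeRight ?_ ?_ ?_
    · ext s
      simp [f₁, f₂]
    · ext s
      simp [f₁]
    · ext s
      simp [f₂]
  have e1 : ∀ z, LinearMap.lTensor S ((aa lam h0).toLinearMap.restrictScalars R) z = f₁ z := by
    intro z
    induction z with
    | zero => simp
    | tmul s x => rfl
    | add x y hx hy => rw [map_add, map_add, hx, hy]
  have e2 : ∀ z, LinearMap.lTensor S (TensorProduct.mk R S (CU lam) 1) z = f₂ z := by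
    intro z
    induction z with
    | zero => simp
    | tmul s x => rfl
    | add x y hx hy => rw [map_add, map_add, hx, hy]
  rw [e1, e2]
  exact DFunLike.congr_fun h3 m

end Coact

section Grading

lemma mk_limIsOne : Dyn.LimIsOne S (S ⊗[R] H) lam (CU lam) (Ideal.Quotient.mkₐ S (JU lam)) := by
  rw [← vanish_JU_iff]
  intro a ha
  exact Ideal.Quotient.eq_zero_iff_mem.2 ha

/-- the polynomial orbit of the universal point -/
noncomputable def hh : S ⊗[R] H →ₐ[S] Polynomial (CU lam) := (mk_limIsOne lam).choose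

lemma tl_hh : (tl S (CU lam)).comp (hh lam) =
    Dyn.conjOrbit S (S ⊗[R] H) lam (CU lam) (Ideal.Quotient.mkₐ S (JU lam)) :=
  (mk_limIsOne lam).choose_spec.1

lemma coeff_hh (a : S ⊗[R] H) (n : ℕ) :
    (hh lam a).coeff n = Ideal.Quotient.mk (JU lam) (pr lam n a) :=
  coeff_limit lam _ _ (tl_hh lam) a n

lemma hh_eq_zero (a : S ⊗[R] H) (ha : a ∈ JU lam) : hh lam a = 0 := by
  have h1 : JP lam ≤ RingHom.ker (hh lam) := by
    refine Ideal.span_le.2 ?_
    rintro x ⟨n, hn, hx⟩
    change hh lam x = 0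
    ext m
    rw [coeff_hh, Polynomial.coeff_zero, pr_of_mem lam hx, if_neg (by omega), map_zero]
  have h2 : Ideal.span {a | a ∈ gr lam 0 ∧ Coalgebra.counit (R := S) a = 0} ≤
      RingHom.ker (hh lam) := by
    refine Ideal.span_le.2 ?_
    rintro x ⟨hx, hx0⟩
    change hh lam x = 0
    ext m
    rw [coeff_hh, Polynomial.coeff_zero, pr_of_mem lam hx]
    split_ifs
    · exact Ideal.Quotient.eq_zero_iff_mem.2
        (Ideal.mem_sup_right (Ideal.subset_span ⟨hx, hx0⟩))
    · rw [map_zero]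
  exact (sup_le h1 h2) ha

/-- the grading of the coordinate ring -/
noncomputable def dd : CU lam →ₐ[S] Polynomial (CU lam) :=
  Ideal.Quotient.liftₐ (JU lam) (hh lam) (hh_eq_zero lam)

lemma dd_mk (a : S ⊗[R] H) : dd lam (Ideal.Quotient.mk (JU lam) a) = hh lam a := rfl

lemma isGrad_dd : ReesDescent.IsGrad (dd lam) where
  eval_one := by
    intro x
    obtain ⟨a, rfl⟩ := Ideal.Quotient.mk_surjective x
    rw [dd_mk]
    have h1 := orb_eq lam (1 : (CU lam)ˣ) (toConv (Ideal.Quotient.mkₐ S (JU lam)))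
    rw [orb_one, ← conjOrbit_eq, ← tl_hh] at h1
    have h2 := DFunLike.congr_fun (congrArg WithConv.ofConv h1) a
    change Ideal.Quotient.mk (JU lam) a = evR (k := S) 1 (Polynomial.toLaurent (hh lam a)) at h2
    rw [h2]
    generalize hh lam a = p
    induction p using Polynomial.induction_on' with
    | add p q hp hq => rw [Polynomial.eval_add, map_add, map_add, hp, hq]
    | monomial n a =>
      rw [Polynomial.eval_monomial, Polynomial.toLaurent_C_mul_T, ← single_eq_C_mul_T,
        evR_apply, AddMonoidAlgebra.coeff_single, Finsupp.sum_single_index (by simp)]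
      simp
  coact := by
    intro x n
    obtain ⟨a, rfl⟩ := Ideal.Quotient.mk_surjective x
    rw [dd_mk, coeff_hh, dd_mk]
    ext m
    rw [coeff_hh, pr_pr, Polynomial.coeff_monomial]
    by_cases h : n = m
    · rw [if_pos (by exact_mod_cast h), if_pos h]
    · rw [if_neg (by exact_mod_cast h), if_neg h, map_zero]

lemma exists_coeff_zero (x : CU lam) : ∃ s, (dd lam x).coeff 0 = algebraMap S (CU lam) s := by
  obtain ⟨a, rfl⟩ := Ideal.Quotient.mk_surjective x
  refine ⟨Coalgebra.counit a, ?_⟩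
  rw [dd_mk, coeff_hh]
  exact ((limIsOne_iff lam _).1 (mk_limIsOne lam)).2 a

lemma algebraMap_injective : Function.Injective (algebraMap S (CU lam)) := by
  have h1 : ∀ a ∈ JU lam, (1 : WithConv (S ⊗[R] H →ₐ[S] S)).ofConv a = 0 := by
    rw [vanish_JU_iff, ← mem_USub]
    exact one_mem _
  let f : CU lam →ₐ[S] S := Ideal.Quotient.liftₐ (JU lam) _ h1
  intro s t hst
  have := congrArg f hst
  rwa [AlgHom.commutes, AlgHom.commutes] at this

end Grading

section Filt

variable (h0 : Cong lam (Algebra.TensorProduct.includeLeft : S →ₐ[R] S ⊗[R] S)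
    Algebra.TensorProduct.includeRight)

/-- the grading on the right factor, `S`-linear version -/
noncomputable def kapS : S ⊗[R] CU lam →ₐ[S] (S ⊗[R] CU lam)[T;T⁻¹] :=
  Algebra.TensorProduct.lift (Algebra.ofId S _)
    (((AddMonoidAlgebra.mapAlgHom ℤ (Algebra.TensorProduct.includeRight :
      CU lam →ₐ[R] S ⊗[R] CU lam)).comp (tl R (CU lam))).comp ((dd lam).restrictScalars R))
    fun _ _ => mul_comm (G := (S ⊗[R] CU lam)[T;T⁻¹]) _ _

/-- the grading on the right factor -/
noncomputable def kap : S ⊗[R] CU lam →ₐ[R] (S ⊗[R] CU lam)[T;T⁻¹] :=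
  (kapS lam).restrictScalars R

lemma kap_tmul (s : S) (x : CU lam) : kap lam (s ⊗ₜ x) =
    (C (s ⊗ₜ[R] (1 : CU lam)) : (S ⊗[R] CU lam)[T;T⁻¹]) *
      AddMonoidAlgebra.mapAlgHom ℤ (Algebra.TensorProduct.includeRight :
      CU lam →ₐ[R] S ⊗[R] CU lam) (Polynomial.toLaurent (dd lam x)) := rfl

lemma coeff_mapAlgHom_toLaurent (φ : D →ₐ[R] E) (p : Polynomial D) (i : ℕ) :
    (AddMonoidAlgebra.mapAlgHom ℤ φ (Polynomial.toLaurent p)).coeff (i : ℤ) = φ (p.coeff i) := by
  rw [AddMonoidAlgebra.coeff_mapAlgHom]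
  change φ ((Polynomial.toLaurent p).coeff (i : ℤ)) = _
  rw [coeff_toLaurent_nat]

omit [Algebra R D] in
lemma coeff_C_mul (c : D) (p : D[T;T⁻¹]) (i : ℤ) : (C c * p).coeff i = c * p.coeff i := by
  have h1 := SplitConj.coeff_mul_CT p c 0 i
  rw [T_zero, mul_one, sub_zero] at h1
  rw [mul_comm, h1, mul_comm]

lemma coeff_kap (z : S ⊗[R] CU lam) (i : ℕ) : (kap lam z).coeff (i : ℤ) =
    LinearMap.lTensor S ((ReesDescent.pr (dd lam) i).restrictScalars R) z := by
  induction z with
  | zero => simp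
  | tmul s x =>
    rw [kap_tmul, LinearMap.lTensor_tmul]
    refine (coeff_C_mul (D := S ⊗[R] CU lam) _ _ _).trans ?_
    rw [coeff_mapAlgHom_toLaurent, Algebra.TensorProduct.includeRight_apply,
      Algebra.TensorProduct.tmul_mul_tmul, one_mul, mul_one]
    rfl
  | add x y hx hy =>
    rw [map_add, map_add, AddMonoidAlgebra.coeff_add, Finsupp.add_apply, hx, hy]

/-- `T ↦ T⁻¹` -/
noncomputable def inv' (R : Type u) {E : Type u} [CommRing R] [CommRing E] [Algebra R E] :
    E[T;T⁻¹] →ₐ[R] E[T;T⁻¹] :=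
  ((LaurentPolynomial.invert (R := E) : E[T;T⁻¹] ≃ₐ[E] E[T;T⁻¹]) :
    E[T;T⁻¹] →ₐ[E] E[T;T⁻¹]).restrictScalars R

lemma inv'_cst : (inv' R (E := E)).comp (cst R E) = cst R E := by
  refine AlgHom.ext fun e => ?_
  exact LaurentPolynomial.invert_C e

lemma inv'_Ls (σ : S →ₐ[R] E) : mapPt (inv' R) (Ls lam ((cst R E).comp σ) (uT E)) =
    (Ls lam ((cst R E).comp σ) (uT E))⁻¹ := by
  rw [mapPt_Ls, ← map_inv, ← AlgHom.comp_assoc, inv'_cst]
  congr 1
  ext1
  exact LaurentPolynomial.invert_T 1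

/-- the key formula -/
lemma orbG_mul_W {σ₁ σ₂ : S →ₐ[R] D} (h : Cong lam σ₁ σ₂) (g : WithConv (H →ₐ[R] D)) :
    ∃ q : WithConv (H →ₐ[R] Polynomial D), orbG lam σ₂ g * mapPt (cst R D) (W lam h) =
      Ls lam ((cst R D).comp σ₁) (uT D) * mapPt ((inv' R).comp (tl R D)) q *
        (Ls lam ((cst R D).comp σ₁) (uT D))⁻¹ := by
  obtain ⟨q, -, hq⟩ := W_mem lam h
  refine ⟨q * mapPt (cp R D) ((W lam h)⁻¹ * g * W lam h), ?_⟩
  have h1 : mapPt ((inv' R).comp (tl R D)) q = (Ls lam ((cst R D).comp σ₁) (uT D))⁻¹ *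
      mapPt (cst R D) (W lam h) * Ls lam ((cst R D).comp σ₁) (uT D) := by
    rw [mapPt_comp, hq, orbG_apply, map_mul, map_mul, map_inv, inv'_Ls, ← mapPt_comp, inv'_cst,
      inv_inv]
  have h2 : mapPt ((inv' R).comp (tl R D)) (mapPt (cp R D) ((W lam h)⁻¹ * g * W lam h)) =
      (mapPt (cst R D) (W lam h))⁻¹ * mapPt (cst R D) g * mapPt (cst R D) (W lam h) := by
    rw [← mapPt_comp, AlgHom.comp_assoc, tl_comp_cp, inv'_cst, map_mul, map_mul, map_inv]
  rw [map_mul, h1, h2, orbG_apply, W_conj lam h]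
  simp [mul_assoc]

omit [Algebra R D] in
lemma orb_of_mem_gr [Algebra S D] (x : Dˣ) (g : WithConv (S ⊗[R] H →ₐ[S] D)) {m : ℤ}
    {b : S ⊗[R] H} (hb : b ∈ gr lam m) :
    (orb lam x g).ofConv b = g.ofConv b * ((x ^ m : Dˣ) : D) := by
  rw [orb_apply_apply, (mem_gr lam).1 hb, ← single_eq_C_mul_T, AddMonoidAlgebra.coeff_single,
    Finsupp.sum_single_index (by simp)]

/-- degrees of the conjugate of a point with coefficients in `D[T⁻¹]`. -/
lemma coeff_conj [Algebra S D] [IsScalarTower R S D] (q : WithConv (H →ₐ[R] Polynomial D))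
    (F : S ⊗[R] H →ₐ[S] D[T;T⁻¹])
    (hF : res R S H D[T;T⁻¹] (toConv F) =
      Ls lam ((cst R D).comp (IsScalarTower.toAlgHom R S D)) (uT D) *
        mapPt ((inv' R).comp (tl R D)) q *
        (Ls lam ((cst R D).comp (IsScalarTower.toAlgHom R S D)) (uT D))⁻¹)
    {m : ℤ} {b : S ⊗[R] H} (hb : b ∈ gr lam m) {i : ℤ} (hi : m < i) : (F b).coeff i = 0 := by
  have h1 : toConv F = orb lam (uT D) (mapPt ((inv' S).comp (tl S D)) ((res R S H _).symm q)) := by
    apply (res R S H D[T;T⁻¹]).injective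
    rw [hF, orb_apply, map_mul, map_mul, map_inv, ← Ls_eq, res_mapPt, MulEquiv.apply_symm_apply]
    rfl
  have h2 : F b = _ := DFunLike.congr_fun (congrArg WithConv.ofConv h1) b
  rw [h2, orb_of_mem_gr lam _ _ hb, uT_zpow]
  generalize hq' : (res R S H _).symm q = q'
  change (LaurentPolynomial.invert (Polynomial.toLaurent (q'.ofConv b)) * T m).coeff i = 0
  have h3 := SplitConj.coeff_mul_CT (LaurentPolynomial.invert
    (Polynomial.toLaurent (q'.ofConv b))) 1 m i
  rw [map_one, one_mul, mul_one] at h3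
  rw [h3, LaurentPolynomial.invert_apply]
  exact (exists_toLaurent_iff (Polynomial.toLaurent (q'.ofConv b))).1 ⟨_, rfl⟩ _ (by omega)

lemma res_orbHom [Algebra S E] [IsScalarTower R S E] (g : WithConv (S ⊗[R] H →ₐ[S] E)) :
    res R S H E[T;T⁻¹] (orbHom lam g) = orbG lam (IsScalarTower.toAlgHom R S E)
      (res R S H E g) := by
  rw [orbG_apply, orbHom, MonoidHom.comp_apply, orb_apply, map_mul, map_mul, map_inv, ← Ls_eq]
  rfl

lemma mapPt_tl_dd : mapPt ((tl R (CU lam)).comp ((dd lam).restrictScalars R)) (univ lam) =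
    orbG lam (sU lam) (univ lam) := by
  have h1 : res R S H (CU lam)[T;T⁻¹] (toConv ((tl S (CU lam)).comp (hh lam))) =
      orbG lam (sU lam) (univ lam) := by
    rw [tl_hh, conjOrbit_eq, res_orbHom]
    rfl
  exact h1

/-- generic form of the degree estimate -/
lemma key_gen [Algebra S D] [IsScalarTower R S D] (inc : CU lam →ₐ[R] D)
    (κ : D →ₐ[S] D[T;T⁻¹])
    (e0 : (κ.restrictScalars R).comp inc = (AddMonoidAlgebra.mapAlgHom ℤ inc).comp
      ((tl R (CU lam)).comp ((dd lam).restrictScalars R)))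
    (h : Cong lam (IsScalarTower.toAlgHom R S D) (inc.comp (sU lam)))
    (h' : Cong lam ((κ.restrictScalars R).comp (IsScalarTower.toAlgHom R S D))
      ((κ.restrictScalars R).comp (inc.comp (sU lam))))
    (α : CU lam →ₐ[S] D)
    (hα : mapPt (α.restrictScalars R) (univ lam) = mapPt inc (univ lam) * W lam h)
    {m : ℤ} {b : S ⊗[R] H} (hb : b ∈ gr lam m) {i : ℤ} (hi : m < i) :
    (κ (α (Ideal.Quotient.mk (JU lam) b))).coeff i = 0 := by
  have e1 : (κ.restrictScalars R).comp (IsScalarTower.toAlgHom R S D) =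
      (cst R D).comp (IsScalarTower.toAlgHom R S D) := by
    refine AlgHom.ext fun x => ?_
    exact (κ.commutes x)
  have e2 : (κ.restrictScalars R).comp (inc.comp (sU lam)) =
      (cst R D).comp (inc.comp (sU lam)) := by
    refine AlgHom.ext fun x => ?_
    have h := DFunLike.congr_fun e0 (algebraMap S (CU lam) x)
    refine h.trans ?_
    change AddMonoidAlgebra.mapAlgHom ℤ inc (Polynomial.toLaurent
      (dd lam (algebraMap S (CU lam) x))) = C (inc (algebraMap S (CU lam) x))
    rw [AlgHom.commutes]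
    change AddMonoidAlgebra.mapAlgHom ℤ inc (Polynomial.toLaurent
        (Polynomial.C (algebraMap S (CU lam) x))) = _
    rw [Polynomial.toLaurent_C, ← single_eq_C, AddMonoidAlgebra.mapAlgHom_single, single_eq_C]
  have w1 : mapPt (κ.restrictScalars R) (W lam h) = W lam h' := W_map lam _ _
  have w2 : mapPt (cst R D) (W lam h) = W lam (h.map lam (cst R D)) := W_map lam _ _
  have w3 : W lam h' = W lam (h.map lam (cst R D)) := W_congr lam _ _ e1 e2
  have w4 : mapPt (κ.restrictScalars R) (mapPt inc (univ lam)) =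
      orbG lam (inc.comp (sU lam)) (mapPt inc (univ lam)) := by
    rw [← mapPt_comp, e0, mapPt_comp, mapPt_tl_dd, mapPt_orbG]
  obtain ⟨q, hq⟩ := orbG_mul_W lam h (mapPt inc (univ lam))
  have w5 : mapPt (κ.restrictScalars R) (mapPt (α.restrictScalars R) (univ lam)) =
      orbG lam (inc.comp (sU lam)) (mapPt inc (univ lam)) * mapPt (cst R D) (W lam h) := by
    rw [hα, map_mul, w1, w2, w3, w4]
  let F : S ⊗[R] H →ₐ[S] D[T;T⁻¹] := (κ.comp α).comp (Ideal.Quotient.mkₐ S (JU lam))
  have hF : res R S H D[T;T⁻¹] (toConv F) =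
      mapPt (κ.restrictScalars R) (mapPt (α.restrictScalars R) (univ lam)) := rfl
  exact coeff_conj lam q F ((hF.trans w5).trans hq) hb hi

lemma kap_comp_includeRight :
    (kap lam).comp (Algebra.TensorProduct.includeRight : CU lam →ₐ[R] S ⊗[R] CU lam) =
      (AddMonoidAlgebra.mapAlgHom ℤ (Algebra.TensorProduct.includeRight :
      CU lam →ₐ[R] S ⊗[R] CU lam)).comp ((tl R (CU lam)).comp ((dd lam).restrictScalars R)) := by
  refine AlgHom.ext fun x => ?_
  change kap lam (1 ⊗ₜ x) = _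
  rw [kap_tmul]
  change (C (1 : S ⊗[R] CU lam) : (S ⊗[R] CU lam)[T;T⁻¹]) * _ = _
  rw [map_one, one_mul]
  rfl

/-- the coaction is compatible with the filtration -/
lemma aa_filt (n : ℕ) (f : CU lam) (hf : f ∈ ReesDescent.filt (dd lam) n) (i : ℕ) (hi : n < i) :
    LinearMap.lTensor S ((ReesDescent.pr (dd lam) i).restrictScalars R) (aa lam h0 f) = 0 := by
  have key : ∀ (m : ℕ) (b : S ⊗[R] H), b ∈ gr lam m → m < i →
      (kap lam (aa lam h0 (Ideal.Quotient.mk (JU lam) b))).coeff (i : ℤ) = 0 := by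
    intro m b hb hm
    exact key_gen (D := S ⊗[R] CU lam) lam Algebra.TensorProduct.includeRight (kapS lam)
      (kap_comp_includeRight lam) (cong_of R S lam h0 (sl lam) (sr lam))
      (cong_of R S lam h0 _ _) (aa lam h0) (mapPt_aR lam h0) hb (by exact_mod_cast hm)
  obtain ⟨a, rfl⟩ := Ideal.Quotient.mk_surjective f
  have h1 := ReesDescent.eq_sum (isGrad_dd lam) hf
  have h2 : Ideal.Quotient.mk (JU lam) a = ∑ m ∈ Finset.range (n + 1),
      Ideal.Quotient.mk (JU lam) (pr lam m a) := by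
    rw [h1]
    refine Finset.sum_congr rfl fun m _ => ?_
    rw [dd_mk, coeff_hh]
  rw [h2, map_sum, ← coeff_kap, map_sum, AddMonoidAlgebra.coeff_sum, Finset.sum_apply']
  refine Finset.sum_eq_zero fun m hm => ?_
  rw [Finset.mem_range] at hm
  exact key m _ (pr_mem_gr lam m a) (by omega)

lemma isCoact_aa : ReesDescent.IsCoact (dd lam) (aa lam h0) where
  counit := aa_counit lam h0
  coassoc := aa_coassoc lam h0
  filt := aa_filt lam h0

end Filt

section Final

variable (R S) in
/-- `R[T;T⁻¹] → S[T;T⁻¹]` -/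
noncomputable abbrev iota : R[T;T⁻¹] →ₐ[R] S[T;T⁻¹] :=
  AddMonoidAlgebra.mapAlgHom ℤ (Algebra.ofId R S)

lemma iota_injective [Module.FaithfullyFlat R S] : Function.Injective (iota R S) := by
  intro p q h
  ext n
  have h1 := congrArg (fun f => f.coeff n) h
  simp only [AddMonoidAlgebra.coeff_mapAlgHom] at h1
  exact FaithfulSMul.algebraMap_injective R S h1

lemma exists_iota (x : S[T;T⁻¹]) (hx : ∀ n, ∃ r : R, algebraMap R S r = x.coeff n) :
    ∃ y, iota R S y = x := by
  choose r hr using hx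
  refine ⟨∑ n ∈ x.coeff.support, AddMonoidAlgebra.single n (r n), ?_⟩
  rw [map_sum]
  ext m
  rw [AddMonoidAlgebra.coeff_sum, Finset.sum_apply']
  simp only [AddMonoidAlgebra.mapAlgHom_single, AddMonoidAlgebra.coeff_single]
  rw [Finset.sum_eq_single m]
  · rw [Finsupp.single_eq_same]
    exact hr m
  · intro n _ hn
    rw [Finsupp.single_eq_of_ne hn.symm]
  · intro hm
    rw [Finsupp.notMem_support_iff] at hm
    rw [Finsupp.single_eq_same]
    exact (hr m).trans hm

lemma exists_iota_of_eq [Module.FaithfullyFlat R S] (x : S[T;T⁻¹])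
    (hx : AddMonoidAlgebra.mapAlgHom ℤ
        (Algebra.TensorProduct.includeLeft : S →ₐ[R] S ⊗[R] S) x =
      AddMonoidAlgebra.mapAlgHom ℤ
        (Algebra.TensorProduct.includeRight : S →ₐ[R] S ⊗[R] S) x) : ∃ y, iota R S y = x := by
  apply exists_iota
  intro n
  have h1 := congrArg (fun f => f.coeff n) hx
  simp only [AddMonoidAlgebra.coeff_mapAlgHom] at h1
  have h2 : x.coeff n ⊗ₜ[R] (1 : S) = (1 : S) ⊗ₜ[R] x.coeff n := h1
  refine (Algebra.IsEffective.of_faithfullyFlat R S (x.coeff n)).1 ?_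
  rw [Algebra.TensorProduct.includeLeftSubRight_apply, h2, sub_self]

/-- the conjugate of `λ_σ(x)` by `u` -/
noncomputable def mu (u : WithConv (H →ₐ[R] S)) (σ : S →ₐ[R] D) (x : Dˣ) : WithConv (H →ₐ[R] D) :=
  mapPt σ u * Ls lam σ x * (mapPt σ u)⁻¹

lemma mu_mul (u : WithConv (H →ₐ[R] S)) (σ : S →ₐ[R] D) (x y : Dˣ) :
    mu lam u σ x * mu lam u σ y = mu lam u σ (x * y) := by
  rw [mu, mu, mu, map_mul]
  simp [mul_assoc]

lemma mapPt_mu (u : WithConv (H →ₐ[R] S)) (σ : S →ₐ[R] D) (x : Dˣ) (φ : D →ₐ[R] E) :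
    mapPt φ (mu lam u σ x) = mu lam u (φ.comp σ) (Units.map (φ : D →* E) x) := by
  rw [mu, mu, map_mul, map_mul, map_inv, mapPt_Ls, mapPt_comp]

variable [Module.FaithfullyFlat R S]

/-- descent of a conjugate of `λ` -/
theorem exists_descent (u : WithConv (H →ₐ[R] S))
    (hu : mu lam u ((cst R (S ⊗[R] S)).comp (Algebra.TensorProduct.includeLeft :
        S →ₐ[R] S ⊗[R] S)) (uT _) =
      mu lam u ((cst R (S ⊗[R] S)).comp (Algebra.TensorProduct.includeRight :
        S →ₐ[R] S ⊗[R] S)) (uT _)) :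
    ∃ lam0 : H →ₐc[R] R[T;T⁻¹], ∀ h, iota R S (lam0 h) = (mu lam u (cst R S) (uT S)).ofConv h := by
  have e1 : ∀ h, ∃ y, iota R S y = (mu lam u (cst R S) (uT S)).ofConv h := by
    intro h
    apply exists_iota_of_eq
    have h2 : ∀ i : S →ₐ[R] S ⊗[R] S, mapPt (AddMonoidAlgebra.mapAlgHom ℤ i)
        (mu lam u (cst R S) (uT S)) = mu lam u ((cst R (S ⊗[R] S)).comp i) (uT _) := by
      intro i
      rw [mapPt_mu, map_comp_cst, map_uT]
    exact DFunLike.congr_fun (congrArg WithConv.ofConv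
      ((h2 Algebra.TensorProduct.includeLeft).trans
        (hu.trans (h2 Algebra.TensorProduct.includeRight).symm))) h
  have e2 : ∀ h, (mu lam u (cst R S) (uT S)).ofConv h ∈ (iota R S).range := e1
  let l0 : H →ₐ[R] R[T;T⁻¹] :=
    ((AlgEquiv.ofInjective (iota R S) iota_injective).symm : _ →ₐ[R] _).comp
      ((mu lam u (cst R S) (uT S)).ofConv.codRestrict _ e2)
  have hl0 : (iota R S).comp l0 = (mu lam u (cst R S) (uT S)).ofConv := by
    refine AlgHom.ext fun a => ?_
    change iota R S ((AlgEquiv.ofInjective (iota R S) iota_injective).symm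
      ((mu lam u (cst R S) (uT S)).ofConv.codRestrict _ e2 a)) = _
    have h2 := (AlgEquiv.ofInjective (iota R S) iota_injective).apply_symm_apply
      ((mu lam u (cst R S) (uT S)).ofConv.codRestrict _ e2 a)
    exact congrArg Subtype.val h2
  obtain ⟨g, hg⟩ := exists_bialgHom l0 (by
    intro E _ _ x y
    let i : E →ₐ[R] E ⊗[R] S := Algebra.TensorProduct.includeLeft
    have hi : Function.Injective i := FaithfulSMul.algebraMap_injective E (E ⊗[R] S)
    apply mapPt_injective i hi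
    let σ : S →ₐ[R] E ⊗[R] S := Algebra.TensorProduct.includeRight
    have key : ∀ x : Eˣ, mapPt i (toConv ((evU R x).comp l0)) =
        mu lam u σ (Units.map (i : E →* E ⊗[R] S) x) := by
      intro x
      have h1 : i.comp (evU R x) = (evS σ (Units.map (i : E →* E ⊗[R] S) x)).comp (iota R S) := by
        apply algHom_ext_T
        rw [AlgHom.comp_apply, AlgHom.comp_apply, evU_T]
        have h3 : iota R S (T 1) = T 1 := by
          rw [T, AddMonoidAlgebra.mapAlgHom_single, map_one]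
          rfl
        rw [h3, evS_T]
        simp
      have h2 : mapPt i (toConv ((evU R x).comp l0)) =
          mapPt (evS σ (Units.map (i : E →* E ⊗[R] S) x)) (mu lam u (cst R S) (uT S)) := by
        apply WithConv.ofConv_injective
        change i.comp ((evU R x).comp l0) = (evS σ (Units.map (i : E →* E ⊗[R] S) x)).comp
          (mu lam u (cst R S) (uT S)).ofConv
        rw [← AlgHom.comp_assoc, h1, AlgHom.comp_assoc, hl0]
      rw [h2, mapPt_mu]
      congr 1
      · refine AlgHom.ext fun s => ?_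
        exact evS_C σ _ s
      · ext1
        change evS σ _ (T 1) = _
        rw [evS_T, zpow_one]
    rw [map_mul, key, key, key, mu_mul, map_mul])
  refine ⟨g, fun h => ?_⟩
  rw [← hl0, ← hg]
  rfl

/-- **Descent of cocharacters modulo the unipotent radical**. -/
theorem exists_cochar [Algebra.Smooth S (CU lam)]
    (h0 : Cong lam (Algebra.TensorProduct.includeLeft : S →ₐ[R] S ⊗[R] S)
      Algebra.TensorProduct.includeRight) :
    ∃ (lam0 : H →ₐc[R] R[T;T⁻¹]) (u : WithConv (S ⊗[R] H →ₐ[S] S)), u ∈ USub lam S ∧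
      ∀ h : H, iota R S (lam0 h) =
        (mapPt (cst S S) u * lamU lam (uT S) * (mapPt (cst S S) u)⁻¹).ofConv (1 ⊗ₜ h) := by
  obtain ⟨φ, hφ⟩ := ReesDescent.exists_section (isGrad_dd lam) (exists_coeff_zero lam)
    (algebraMap_injective lam) (isCoact_aa lam h0)
  let ur : WithConv (H →ₐ[R] S) := mapPt (φ.restrictScalars R) (univ lam)
  have hσ : (φ.restrictScalars R).comp (sU lam) = AlgHom.id R S := by
    refine AlgHom.ext fun s => ?_
    exact φ.commutes s
  have hur : ur ∈ Us lam (AlgHom.id R S) := by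
    rw [← hσ]
    exact mapPt_mem_Us lam _ (univ_mem lam)
  let i₁ : S →ₐ[R] S ⊗[R] S := Algebra.TensorProduct.includeLeft
  let i₂ : S →ₐ[R] S ⊗[R] S := Algebra.TensorProduct.includeRight
  let θ : S ⊗[R] CU lam →ₐ[R] S ⊗[R] S :=
    Algebra.TensorProduct.map (AlgHom.id R S) (φ.restrictScalars R)
  have t1 : θ.comp (aR lam h0) = i₁.comp (φ.restrictScalars R) := by
    refine AlgHom.ext fun f => ?_
    have h1 : ∀ z, LinearMap.lTensor S (φ.toLinearMap.restrictScalars R) z = θ z := by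
      intro z
      induction z with
      | zero => simp
      | tmul s x => rfl
      | add x y hx hy => rw [map_add, map_add, hx, hy]
    have h2 := hφ f
    rw [h1] at h2
    exact h2
  have t2 : θ.comp (Algebra.TensorProduct.includeRight : CU lam →ₐ[R] S ⊗[R] CU lam) =
      i₂.comp (φ.restrictScalars R) := by
    refine AlgHom.ext fun f => ?_
    simp [θ, i₂]
  have t3 : θ.comp (sl lam) = i₁ := by
    refine AlgHom.ext fun f => ?_
    simp [θ, i₁]
  have t4 : θ.comp (sr lam) = i₂ := by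
    rw [sr, ← AlgHom.comp_assoc, t2, AlgHom.comp_assoc, hσ, AlgHom.comp_id]
  have c1 : Cong lam (θ.comp (sl lam)) (θ.comp (sr lam)) := cong_of R S lam h0 _ _
  have w1 : W lam c1 = W lam h0 := W_congr lam c1 h0 t3 t4
  have key : mapPt i₁ ur = mapPt i₂ ur * W lam h0 := by
    have h1 : mapPt θ (vv lam h0) = mapPt i₁ ur := by
      rw [← mapPt_aR, ← mapPt_comp, t1, mapPt_comp]
    have h2 : mapPt θ (vv lam h0) = mapPt i₂ ur * W lam c1 := by
      rw [vv, map_mul, W_map, ← mapPt_comp, t2, mapPt_comp]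
    rw [← h1, h2, w1]
  obtain ⟨lam0, hlam0⟩ := exists_descent lam ur (by
    have h1 := W_conj lam h0
    rw [mu, mu, mapPt_comp, mapPt_comp]
    change mapPt (cst R (S ⊗[R] S)) (mapPt i₁ ur) * _ * (mapPt (cst R (S ⊗[R] S)) (mapPt i₁ ur))⁻¹ =
      mapPt (cst R (S ⊗[R] S)) (mapPt i₂ ur) * _ * (mapPt (cst R (S ⊗[R] S)) (mapPt i₂ ur))⁻¹
    rw [key, h1, map_mul]
    simp [mul_assoc])
  refine ⟨lam0, (res R S H S).symm ur, ?_, fun h => ?_⟩
  · rw [mem_USub_iff', MulEquiv.apply_symm_apply]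
    exact hur
  · rw [hlam0]
    have h3 : mu lam ur (cst R S) (uT S) = res R S H S[T;T⁻¹]
        (mapPt (cst S S) ((res R S H S).symm ur) * lamU lam (uT S) *
          (mapPt (cst S S) ((res R S H S).symm ur))⁻¹) := by
      rw [map_mul, map_mul, map_inv, ← Ls_eq, res_mapPt, MulEquiv.apply_symm_apply]
      rfl
    rw [h3]
    rfl

end Final

end Groth.Agent.Sga3B.Par.CochTor
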