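import Groth.Agent.Sga3B.Parab.Dyn998

/-!
# Conjugate cocharacters

`lam' = w lam w⁻¹` for a global section `w` of `G`: the subgroups `P`, `U`, `Z` of `lam'` are the conjugates
of those of `lam`; if `w` lies in `P_G(lam)` then `P_G(lam') = P_G(lam)` and `U_G(lam') = U_G(lam)`.
-/

set_option autoImplicit false
universe u

open CategoryTheory MonoidalCategory CartesianMonoidalCategory MonObj GrpObj AlgebraicGeometry Limits
open scoped LaurentPolynomial Polynomial
open Groth.Agent.Sga3B.Parab Groth.Agent.Sga3B.Parab.Dyn998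

namespace Groth.Agent.Sga3B.Par.ConjDyn895

variable {S : Scheme.{u}} {G : Over S} [GrpObj G]

/-- `lam' = w lam w⁻¹` on points -/
def IsConj (lam : Red.Gm S ⟶ G) (w : 𝟙_ (Over S) ⟶ G) (lam' : Red.Gm S ⟶ G) : Prop :=
  ∀ (X : Over S) (t : X ⟶ Red.Gm S),
    t ≫ lam' = (toUnit X ≫ w) * (t ≫ lam) * (toUnit X ≫ w)⁻¹

/-- conjugation by the inverse of a section -/
noncomputable def cj (w : 𝟙_ (Over S) ⟶ G) {X : Over S} (g : X ⟶ G) : X ⟶ G :=
  (toUnit X ≫ w)⁻¹ * g * (toUnit X ≫ w)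

lemma comp_cj (w : 𝟙_ (Over S) ⟶ G) {X Y : Over S} (x : Y ⟶ X) (g : X ⟶ G) :
    x ≫ cj w g = cj w (x ≫ g) := by
  rw [cj, cj, MonObj.comp_mul, MonObj.comp_mul, GrpObj.comp_inv, ← Category.assoc,
    comp_toUnit]

variable {lam lam' : Red.Gm S ⟶ G} {w : 𝟙_ (Over S) ⟶ G}

lemma IsConj.symm (h : IsConj lam w lam') : IsConj lam' w⁻¹ lam := by
  intro X t
  rw [h X t, GrpObj.comp_inv]
  group

section Test

variable {C : Type u} [CommRing C] {c : Spec (CommRingCat.of C) ⟶ S}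

lemma orb_conj (h : IsConj lam w lam') (g : aff C c ⟶ G) :
    orb lam' g = (toUnit _ ≫ w) * orb lam (cj w g) * (toUnit _ ≫ w)⁻¹ := by
  rw [orb, orb, h, comp_cj, cj]
  group

lemma limEx_conj_iff (h : IsConj lam w lam') (g : aff C c ⟶ G) :
    LimEx lam' g ↔ LimEx lam (cj w g) := by
  constructor
  · rintro ⟨a, ha⟩
    refine ⟨cj w a, ?_⟩
    rw [comp_cj, ha, orb_conj h, cj]
    group
  · rintro ⟨a, ha⟩
    refine ⟨(toUnit _ ≫ w) * a * (toUnit _ ≫ w)⁻¹, ?_⟩
    rw [orb_conj h, ← ha, MonObj.comp_mul, MonObj.comp_mul, GrpObj.comp_inv, ← Category.assoc,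
      comp_toUnit]

lemma limOne_conj_iff (h : IsConj lam w lam') (g : aff C c ⟶ G) :
    LimOne lam' g ↔ LimOne lam (cj w g) := by
  constructor
  · rintro ⟨a, ha, h0⟩
    refine ⟨cj w a, ?_, ?_⟩
    · rw [comp_cj, ha, orb_conj h, cj]
      group
    · rw [comp_cj, h0, cj]
      group
  · rintro ⟨a, ha, h0⟩
    refine ⟨(toUnit _ ≫ w) * a * (toUnit _ ≫ w)⁻¹, ?_, ?_⟩
    · rw [orb_conj h, ← ha, MonObj.comp_mul, MonObj.comp_mul, GrpObj.comp_inv, ← Category.assoc,
        comp_toUnit]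
    · rw [MonObj.comp_mul, MonObj.comp_mul, GrpObj.comp_inv, h0, ← Category.assoc,
        comp_toUnit]
      group

lemma orbConst_conj_iff (h : IsConj lam w lam') (g : aff C c ⟶ G) :
    OrbConst lam' g ↔ OrbConst lam (cj w g) := by
  rw [OrbConst, OrbConst, orb_conj h, comp_cj, mul_inv_eq_iff_eq_mul, ← eq_inv_mul_iff_mul_eq,
    ← _root_.mul_assoc]
  rfl

end Test

lemma ptP_conj_iff (h : IsConj lam w lam') {X : Over S} (g : X ⟶ G) :
    PtP lam' g ↔ PtP lam (cj w g) := by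
  refine forall_congr' fun C => forall_congr' fun _ => forall_congr' fun c => forall_congr' fun x => ?_
  rw [limEx_conj_iff h, comp_cj]

lemma ptU_conj_iff (h : IsConj lam w lam') {X : Over S} (g : X ⟶ G) :
    PtU lam' g ↔ PtU lam (cj w g) := by
  refine forall_congr' fun C => forall_congr' fun _ => forall_congr' fun c => forall_congr' fun x => ?_
  rw [limOne_conj_iff h, comp_cj]

lemma ptZ_conj_iff (h : IsConj lam w lam') {X : Over S} (g : X ⟶ G) :
    PtZ lam' g ↔ PtZ lam (cj w g) := by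
  refine forall_congr' fun C => forall_congr' fun _ => forall_congr' fun c => forall_congr' fun x => ?_
  rw [orbConst_conj_iff h, comp_cj]

/-- Conjugating by a point of the subgroup does not change the points of the subgroup. -/
lemma exists_comp_cj_iff {P : Over S} [GrpObj P] (p : P ⟶ G) [IsMonHom p] (v : 𝟙_ (Over S) ⟶ P)
    {X : Over S} (g : X ⟶ G) : (∃ x : X ⟶ P, x ≫ p = cj (v ≫ p) g) ↔ ∃ x : X ⟶ P, x ≫ p = g := by
  constructor
  · rintro ⟨x, hx⟩
    refine ⟨(toUnit X ≫ v) * x * (toUnit X ≫ v)⁻¹, ?_⟩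
    rw [MonObj.mul_comp, MonObj.mul_comp, GrpObj.inv_comp, hx, cj, Category.assoc]
    group
  · rintro ⟨x, rfl⟩
    refine ⟨(toUnit X ≫ v)⁻¹ * x * (toUnit X ≫ v), ?_⟩
    rw [MonObj.mul_comp, MonObj.mul_comp, GrpObj.inv_comp, cj, Category.assoc]

/-- (G5) -/
theorem conj_isDynP' {P : Over S} [GrpObj P] {p : P ⟶ G} (hp : IsDynP lam p)
    (v : 𝟙_ (Over S) ⟶ P) (h : IsConj lam (v ≫ p) lam') : IsDynP lam' p where
  isMonHom := hp.isMonHom
  mono := hp.mono
  iff_ptP X g := by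
    have := hp.isMonHom
    rw [ptP_conj_iff h, ← hp.iff_ptP X, exists_comp_cj_iff]

/-- The unipotent part does not change under conjugation by a point of `P_G(lam)`. -/
theorem conj_isDynU' {P U : Over S} [GrpObj P] [GrpObj U] {p : P ⟶ G} (hp : IsDynP lam p)
    {u : U ⟶ G} (hu : IsDynU lam u)
    (v : 𝟙_ (Over S) ⟶ P) (h : IsConj lam (v ≫ p) lam') : IsDynU lam' u where
  isMonHom := hu.isMonHom
  mono := hu.mono
  iff_ptU X g := by
    rw [ptU_conj_iff h, hu.iff_ptU X]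
    have hv : ∀ (C : Type u) [CommRing C] (c : Spec (CommRingCat.of C) ⟶ S),
        LimEx lam (toUnit (aff C c) ≫ v ≫ p) := by
      intro C _ c
      exact ptP_iff.1 ((hp.iff_ptP _ _).1 ⟨toUnit _ ≫ v, Category.assoc _ _ _⟩)
    refine forall_congr' fun C => forall_congr' fun _ => forall_congr' fun c =>
      forall_congr' fun x => ?_
    rw [comp_cj]
    constructor
    · intro h1
      have h2 := h1.conj (hv C c).inv
      rwa [_root_.inv_inv] at h2
    · intro h1
      have h2 := h1.conj (hv C c)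
      refine cast (congrArg _ ?_) h2
      rw [cj]
      group

/-- (G5), in terms of cocharacters of `P` -/
theorem conj_isDynP {P : Over S} [GrpObj P] (p : P ⟶ G) [IsMonHom p] (v : 𝟙_ (Over S) ⟶ P)
    (c c' : Red.Gm S ⟶ P)
    (h : ∀ (X : Over S) (t : X ⟶ Red.Gm S), t ≫ c' = (toUnit X ≫ v) * (t ≫ c) * (toUnit X ≫ v)⁻¹)
    (hp : IsDynP (c ≫ p) p) : IsDynP (c' ≫ p) p := by
  refine conj_isDynP' hp v ?_
  intro X t
  rw [← Category.assoc, h, MonObj.mul_comp, MonObj.mul_comp, GrpObj.inv_comp, Category.assoc,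
    Category.assoc]

end Groth.Agent.Sga3B.Par.ConjDyn895
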