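import Groth.Agent.Sga3B.Par.LocMain

/-!
# Conjugacy of Levi subgroups, given cocharacters étale-locally
-/

set_option autoImplicit false

universe u

open CategoryTheory MonoidalCategory CartesianMonoidalCategory AlgebraicGeometry
open scoped MonObj

namespace Groth.Agent.Sga3B.Par.ConjOf

open LeviProj LeviConj LocBC LocMain Parab

variable {S : Scheme.{u}} {G P U L L' : Over S} [GrpObj G] [GrpObj P] [GrpObj U] [GrpObj L]
  [GrpObj L']

/-- **S2996** from the étale-local structure of `P`: étale-locally the Levi subgroup `l` is the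
centralizer and `u` the unipotent part of a cocharacter. -/
theorem main (hG : Red.IsReductive G) (p : P ⟶ G) (hp : Red.IsParabolic p) (u : U ⟶ P)
    (hU : Par.IsUnipotentRadical u) (l : L ⟶ P) (l' : L' ⟶ P) (hl : Par.IsLevi l)
    (hl' : Par.IsLevi l')
    (hloc : ∀ s : S, ∃ (S' : Scheme.{u}) (f : S' ⟶ S) (lam : Red.Gm S' ⟶ Red.bc f G), Etale f ∧
      s ∈ Set.range f ∧ IsMonHom lam ∧ IsDynU lam ((Over.pullback f).map (u ≫ p)) ∧
      Red.IsCentralizerOf lam ((Over.pullback f).map (l ≫ p))) :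
    ∃! x : 𝟙_ (Over S) ⟶ U, ∃ e : L ≅ L',
      e.hom ≫ l' = (toUnit L ≫ x ≫ u) * l * (toUnit L ≫ x ≫ u)⁻¹ := by
  have h := isSemi_of_isLevi hl hU
  have h' := isSemi_of_isLevi hl' hU
  have : IsAffineHom G.hom := hG.1
  have : IsMonHom p := hp.1
  have : IsClosedImmersion p.left := hp.2.1
  have : Mono p := Over.mono_of_mono_left p
  have hD : ∀ s, Nonempty (LocData h h' s) := by
    intro s
    obtain ⟨S', f, lam, hf, hs, hlam, h1, h2⟩ := hloc s
    exact nonempty_of_bc h h' p f s hs lam h1 h2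
  exact existsUnique_levi_conj h h' fun s => (hD s).some

end Groth.Agent.Sga3B.Par.ConjOf
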