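import Groth.Agent.Sga3B.Par.LocMain
import Groth.Agent.Sga3B.Parab.PcL783
import Groth.Agent.Sga3B.Parab.RadExist147

/-!
# Conjugacy of Levi subgroups, from (PcP) and the field statements
-/

set_option autoImplicit false

universe u

open CategoryTheory MonoidalCategory CartesianMonoidalCategory AlgebraicGeometry
open scoped MonObj

namespace Groth.Agent.Sga3B.Par.ConjOf2

open LeviProj LeviConj LocBC LocMain Parab

variable {S : Scheme.{u}} {G P U L L' : Over S} [GrpObj G] [GrpObj P] [GrpObj U] [GrpObj L]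
  [GrpObj L']

/-- local data from a cocharacter with `P = P_G(λ)` over an étale neighbourhood -/
theorem nonempty_locData (hg : DynGeomU.{u}) (h3 : DynK3.{u}) (hG : Red.IsReductive G)
    {p : P ⟶ G} [IsMonHom p] [Mono p] {u : U ⟶ P} (hu : Par.IsUnipotentRadical u) {l : L ⟶ P}
    (hl : Par.IsLevi l) {l' : L' ⟶ P} (h : IsSemi l u) (h' : IsSemi l' u) {S' : Scheme.{u}}
    (f : S' ⟶ S) [Etale f] (lam : Red.Gm S' ⟶ Red.bc f G) [IsMonHom lam]
    (hp : IsDynP lam ((Over.pullback f).map p)) {s : S} (hs : s ∈ Set.range f) :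
    Nonempty (LocData h h' s) := by
  obtain ⟨s', hs'⟩ := hs
  have hGa : IsAffineHom (Red.bc f G).hom :=
    MorphismProperty.pullback_snd (P := @IsAffineHom) G.hom f hG.1
  have hU := PcL783.isDynU_bc hg h3 hG hu hl f lam hp
  let r : Spec (CommRingCat.of (S'.affineOpenCover.X (S'.affineOpenCover.idx s'))) ⟶ S' :=
    S'.affineOpenCover.f (S'.affineOpenCover.idx s')
  have h1 : s' ∈ Set.range r := S'.affineOpenCover.covers s'
  have h2 : IsOpenImmersion r := S'.affineOpenCover.map_prop _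
  obtain ⟨s'', hs''⟩ := h1
  have hGr : IsAffineHom (Red.bc r (Red.bc f G)).hom :=
    MorphismProperty.pullback_snd (P := @IsAffineHom) (Red.bc f G).hom r hGa
  have hP' := hp.bc r
  have hU' := hU.bc r
  rw [Functor.map_comp, Functor.map_comp] at hU'
  obtain ⟨Z, _, z0, hz0⟩ := DynExist998.exists_isDynZ (bcLam lam r)
  obtain ⟨z, rfl⟩ := DynLevi998.exists_zP hP' hz0.1
  obtain ⟨mu, hmu, hmP, hmU, hmZ⟩ := PcL783.exists_mu (bcLam lam r) hP' hU' hz0.1
    (IsSemi.bc (IsSemi.bc h f) r)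
  obtain ⟨D⟩ := nonempty_locData' (IsSemi.bc (IsSemi.bc h f) r) (IsSemi.bc (IsSemi.bc h' f) r)
    ((Over.pullback r).map ((Over.pullback f).map p)) mu hmU ((DynExist998.isDynZ_iff _).1 hmZ) s''
  exact ⟨ofBC f hs' (ofBC r hs'' D)⟩

/-- **S2996** from (PcP) and the field statements -/
theorem main (hg : DynGeomU.{u}) (h3 : DynK3.{u}) (hPcP : RadExist147.PcP.{u})
    (hG : Red.IsReductive G) (p : P ⟶ G) (hp : Red.IsParabolic p) (u : U ⟶ P)
    (hU : Par.IsUnipotentRadical u) (l : L ⟶ P) (l' : L' ⟶ P) (hl : Par.IsLevi l)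
    (hl' : Par.IsLevi l') :
    ∃! x : 𝟙_ (Over S) ⟶ U, ∃ e : L ≅ L',
      e.hom ≫ l' = (toUnit L ≫ x ≫ u) * l * (toUnit L ≫ x ≫ u)⁻¹ := by
  have h := isSemi_of_isLevi hl hU
  have h' := isSemi_of_isLevi hl' hU
  have : IsMonHom p := hp.1
  have : IsClosedImmersion p.left := hp.2.1
  have : Mono p := Over.mono_of_mono_left p
  have hD : ∀ s, Nonempty (LocData h h' s) := by
    intro s
    obtain ⟨S', f, hf, hs, lam, hlam, h1⟩ := hPcP p hG hp s
    exact nonempty_locData hg h3 hG hU hl h h' f lam h1 hs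
  exact existsUnique_levi_conj h h' fun s => (hD s).some

end Groth.Agent.Sga3B.Par.ConjOf2
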