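import Mathlib.AlgebraicGeometry.Morphisms.Etale
import Mathlib.AlgebraicGeometry.Morphisms.Flat
import Mathlib.AlgebraicGeometry.Morphisms.UniversallyOpen
import Mathlib.AlgebraicGeometry.Morphisms.FlatDescent
import Mathlib.RingTheory.Flat.FaithfullyFlat.Basic
import Mathlib.RingTheory.Flat.FaithfullyFlat.Algebra

/-!
# Finite étale-local covers by affines give one faithfully flat algebra
-/

set_option autoImplicit false

universe u

open CategoryTheory AlgebraicGeometry

namespace Groth.Agent.Sga3B.Par.CovFin383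

/-- finite products of flat modules are flat -/
theorem flat_pi {A : Type u} [CommRing A] {ι : Type} [Finite ι] (M : ι → Type u)
    [∀ i, AddCommGroup (M i)] [∀ i, Module A (M i)] [∀ i, Module.Flat A (M i)] :
    Module.Flat A (∀ i, M i) := by
  classical
  have := Fintype.ofFinite ι
  exact Module.Flat.of_linearEquiv (DirectSum.linearEquivFunOnFintype A ι M).symm

/-- A finite jointly surjective family of flat algebras. -/
theorem faithfullyFlat_pi {A : Type u} [CommRing A] {ι : Type} [Finite ι] (B : ι → Type u)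
    [∀ i, CommRing (B i)] [∀ i, Algebra A (B i)] (hf : ∀ i, Module.Flat A (B i))
    (hs : ∀ p : PrimeSpectrum A, ∃ (i : ι) (q : PrimeSpectrum (B i)),
      PrimeSpectrum.comap (algebraMap A (B i)) q = p) : Module.FaithfullyFlat A (∀ i, B i) := by
  have := flat_pi (A := A) B
  refine Module.FaithfullyFlat.of_comap_surjective ?_
  intro p
  obtain ⟨i, q, hq⟩ := hs p
  refine ⟨PrimeSpectrum.comap (Pi.evalRingHom _ i) q, ?_⟩
  rw [← PrimeSpectrum.comap_comp_apply]
  exact hq

/-- A family of étale morphisms from affine schemes to `Spec A`, jointly surjective, has a finite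
subfamily whose product algebra is faithfully flat. -/
theorem exists_finite_cover {A : Type u} [CommRing A] (B : Spec (.of A) → Type u)
    [∀ s, CommRing (B s)] (f : ∀ s, Spec (.of (B s)) ⟶ Spec (.of A)) (hf : ∀ s, Etale (f s))
    (hs : ∀ s, s ∈ Set.range (f s)) : ∃ (n : ℕ) (s : Fin n → Spec (.of A)),
      (letI : ∀ i, Algebra A (B (s i)) := fun i => (Spec.preimage (f (s i))).hom.toAlgebra
       Module.FaithfullyFlat A (∀ i, B (s i))) := by
  obtain ⟨t, ht⟩ := isCompact_univ.elim_finite_subcover (X := Spec (.of A))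
    (fun s : Spec (.of A) => Set.range (f s)) (fun s => (f s).isOpenMap.isOpen_range)
    (fun s _ => Set.mem_iUnion.mpr ⟨s, hs s⟩)
  have ht' : ∀ p : Spec (.of A), ∃ s ∈ t, ∃ q, f s q = p := by
    intro p
    have := ht (Set.mem_univ p)
    simpa only [Set.mem_iUnion, exists_prop, Set.mem_range] using this
  refine ⟨t.card, fun i => (t.equivFin.symm i : Spec (.of A)), ?_⟩
  generalize hσ : (fun i => (t.equivFin.symm i : Spec (.of A))) = σ
  have hσ' : ∀ s ∈ t, ∃ i, σ i = s := fun s hst =>
    ⟨t.equivFin ⟨s, hst⟩, by rw [← hσ]; simp⟩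
  clear hσ
  let : ∀ i, Algebra A (B (σ i)) := fun i => (Spec.preimage (f (σ i))).hom.toAlgebra
  refine faithfullyFlat_pi (fun i => B (σ i)) ?_ ?_
  · intro i
    have h1 : Flat (Spec.map (Spec.preimage (f (σ i)))) := by
      rw [Spec.map_preimage]
      have := hf (σ i)
      infer_instance
    exact (HasRingHomProperty.Spec_iff (P := @Flat)).mp h1
  · intro p
    obtain ⟨s, hst, q, hq⟩ := ht' p
    obtain ⟨i, rfl⟩ := hσ' s hst
    refine ⟨i, q, ?_⟩
    have h2 : (Spec.map (Spec.preimage (f (σ i)))) q = p := by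
      rw [Spec.map_preimage]
      exact hq
    exact h2

end Groth.Agent.Sga3B.Par.CovFin383
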