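import Groth.Agent.Sga3B.Par.DynDesc383
import Groth.Agent.Sga3B.Par.CovFin383
import Groth.Agent.Sga3B.Parab.EtHom

/-!
# `P_G(λ)`, `U_G(λ)`, `Z_G(λ)` can be recognised on a covering
-/

set_option autoImplicit false

universe u

open CategoryTheory MonoidalCategory CartesianMonoidalCategory MonObj GrpObj AlgebraicGeometry Limits

namespace Groth.Agent.Sga3B.Par.DynCov383

open Groth.Agent.Sga3B.Parab Groth.Agent.Sga3B.Parab.DynExist998
open Groth.Agent.Sga3B.Par.DynDesc383

section family

variable {S : Scheme.{u}} {J : Type u} {S' : J → Scheme.{u}} {f : ∀ i, S' i ⟶ S}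
  (hf : EtHom.IsCov f)

include hf

/-- Isomorphisms can be recognised on a covering. -/
theorem isIso_of_cov {X Y : Over S} (k : X ⟶ Y)
    (h : ∀ i, IsIso ((Over.pullback (f i)).map k)) : IsIso k := by
  have h2 : IsIso k.left := EtHom.of_cover (MorphismProperty.isomorphisms Scheme.{u}) hf k
    fun i => by
      have := h i
      exact (Over.forget (S' i)).map_isIso ((Over.pullback (f i)).map k)
  have : IsIso ((Over.forget S).map k) := h2
  exact isIso_of_reflects_iso k (Over.forget S)

/-- Factorizations through monomorphisms can be checked on a covering. -/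
theorem exists_factor_of_cov {P P₀ G : Over S} (p : P ⟶ G) (p₀ : P₀ ⟶ G) [Mono p₀]
    (h : ∀ i, ∃ x : (Over.pullback (f i)).obj P ⟶ (Over.pullback (f i)).obj P₀,
      x ≫ (Over.pullback (f i)).map p₀ = (Over.pullback (f i)).map p) :
    ∃ x : P ⟶ P₀, x ≫ p₀ = p := by
  have := isIso_of_cov hf (pullback.fst p p₀) (fun i => by
    obtain ⟨x, hx⟩ := h i
    have hpb := (IsPullback.of_hasPullback p p₀).map (Over.pullback (f i))
    have : Mono ((Over.pullback (f i)).map (pullback.fst p p₀)) := inferInstance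
    have h2 : hpb.lift (𝟙 _) x (by rw [Category.id_comp, hx]) ≫
        (Over.pullback (f i)).map (pullback.fst p p₀) = 𝟙 _ := hpb.lift_fst _ _ _
    have : IsSplitEpi ((Over.pullback (f i)).map (pullback.fst p p₀)) := IsSplitEpi.mk' ⟨_, h2⟩
    exact isIso_of_mono_of_isSplitEpi _)
  refine ⟨inv (pullback.fst p p₀) ≫ pullback.snd p p₀, ?_⟩
  rw [Category.assoc, ← pullback.condition, IsIso.inv_hom_id_assoc]

variable {G P : Over S} [GrpObj G] [GrpObj P] [IsAffineHom G.hom] (lam : Red.Gm S ⟶ G)
  [IsMonHom lam] (p : P ⟶ G) [IsMonHom p]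

/-- `P_G(λ)` can be recognised on a covering (monomorphism form). -/
theorem isDynP_of_cov' [Mono p]
    (h : ∀ i, IsDynP (bcLam lam (f i)) ((Over.pullback (f i)).map p)) : IsDynP lam p := by
  obtain ⟨P₀, _, p₀, h₀, -⟩ := exists_isDynP lam
  have := h₀.mono
  refine ⟨inferInstance, inferInstance, fun X g => ?_⟩
  rw [← h₀.iff_ptP]
  refine exists_congr (exists_factor_of_cov hf p p₀ fun i => ?_)
    (exists_factor_of_cov hf p₀ p fun i => ?_) g
  · obtain ⟨φ, -, hφ⟩ := (h i).exists_iso (h₀.bc (f i))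
    exact ⟨φ.hom, hφ⟩
  · obtain ⟨φ, -, hφ⟩ := (h₀.bc (f i)).exists_iso (h i)
    exact ⟨φ.hom, hφ⟩

/-- `U_G(λ)` can be recognised on a covering (monomorphism form). -/
theorem isDynU_of_cov' [Mono p]
    (h : ∀ i, IsDynU (bcLam lam (f i)) ((Over.pullback (f i)).map p)) : IsDynU lam p := by
  obtain ⟨P₀, _, p₀, h₀, -⟩ := exists_isDynU lam
  have := h₀.mono
  refine ⟨inferInstance, inferInstance, fun X g => ?_⟩
  rw [← h₀.iff_ptU]
  refine exists_congr (exists_factor_of_cov hf p p₀ fun i => ?_)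
    (exists_factor_of_cov hf p₀ p fun i => ?_) g
  · obtain ⟨φ, -, hφ⟩ := (h i).exists_iso (h₀.bc (f i))
    exact ⟨φ.hom, hφ⟩
  · obtain ⟨φ, -, hφ⟩ := (h₀.bc (f i)).exists_iso (h i)
    exact ⟨φ.hom, hφ⟩

/-- `Z_G(λ)` can be recognised on a covering (monomorphism form). -/
theorem isDynZ_of_cov' [Mono p]
    (h : ∀ i, IsDynZ (bcLam lam (f i)) ((Over.pullback (f i)).map p)) : IsDynZ lam p := by
  obtain ⟨P₀, _, p₀, h₀, -⟩ := exists_isDynZ lam
  have := h₀.mono
  refine ⟨inferInstance, inferInstance, fun X g => ?_⟩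
  rw [← h₀.iff_ptZ]
  refine exists_congr (exists_factor_of_cov hf p p₀ fun i => ?_)
    (exists_factor_of_cov hf p₀ p fun i => ?_) g
  · obtain ⟨φ, -, hφ⟩ := (h i).exists_iso (h₀.bc (f i))
    exact ⟨φ.hom, hφ⟩
  · obtain ⟨φ, -, hφ⟩ := (h₀.bc (f i)).exists_iso (h i)
    exact ⟨φ.hom, hφ⟩

/-- `P_G(λ)` can be recognised on a covering. -/
theorem isDynP_of_cov [IsClosedImmersion p.left]
    (h : ∀ i, IsDynP (bcLam lam (f i)) ((Over.pullback (f i)).map p)) : IsDynP lam p := by
  have : Mono p := Over.mono_of_mono_left p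
  exact isDynP_of_cov' hf lam p h

/-- `U_G(λ)` can be recognised on a covering. -/
theorem isDynU_of_cov [IsClosedImmersion p.left]
    (h : ∀ i, IsDynU (bcLam lam (f i)) ((Over.pullback (f i)).map p)) : IsDynU lam p := by
  have : Mono p := Over.mono_of_mono_left p
  exact isDynU_of_cov' hf lam p h

/-- `Z_G(λ)` can be recognised on a covering. -/
theorem isDynZ_of_cov [IsClosedImmersion p.left]
    (h : ∀ i, IsDynZ (bcLam lam (f i)) ((Over.pullback (f i)).map p)) : IsDynZ lam p := by
  have : Mono p := Over.mono_of_mono_left p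
  exact isDynZ_of_cov' hf lam p h

end family

/-- finite products of flat modules are flat -/
theorem flat_pi' {A : Type u} [CommRing A] {K : Type u} [Finite K] (M : K → Type u)
    [∀ i, AddCommGroup (M i)] [∀ i, Module A (M i)] [∀ i, Module.Flat A (M i)] :
    Module.Flat A (∀ i, M i) := by
  classical
  have := Fintype.ofFinite K
  exact Module.Flat.of_linearEquiv (DirectSum.linearEquivFunOnFintype A K M).symm

/-- A finite jointly surjective family of flat algebras. -/
theorem faithfullyFlat_pi' {A : Type u} [CommRing A] {K : Type u} [Finite K] (B : K → Type u)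
    [∀ i, CommRing (B i)] [∀ i, Algebra A (B i)] (hf : ∀ i, Module.Flat A (B i))
    (hs : ∀ p : PrimeSpectrum A, ∃ (i : K) (q : PrimeSpectrum (B i)),
      PrimeSpectrum.comap (algebraMap A (B i)) q = p) : Module.FaithfullyFlat A (∀ i, B i) := by
  have := flat_pi' (A := A) B
  refine Module.FaithfullyFlat.of_comap_surjective ?_
  intro p
  obtain ⟨i, q, hq⟩ := hs p
  refine ⟨PrimeSpectrum.comap (Pi.evalRingHom _ i) q, ?_⟩
  rw [← PrimeSpectrum.comap_comp_apply]
  exact hq

/-- A family of étale morphisms from affine schemes to `Spec A`, jointly surjective, has a finite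
subfamily which is a covering and whose product algebra is faithfully flat. Existence form with
étale `A`-algebras. -/
theorem exists_finite_etale {A : Type u} [CommRing A]
    (Pr : ∀ (B : Type u) [CommRing B] [Algebra A B], Prop)
    (h : ∀ s : Spec (.of A), ∃ (B : Type u) (_ : CommRing B) (_ : Algebra A B),
      Algebra.Etale A B ∧
      s ∈ Set.range (Spec.map (CommRingCat.ofHom (algebraMap A B))) ∧ Pr B) :
    ∃ (n : ℕ) (B : ULift.{u} (Fin n) → Type u) (_ : ∀ i, CommRing (B i))
      (_ : ∀ i, Algebra A (B i)), (∀ i, Algebra.Etale A (B i)) ∧ (∀ i, Pr (B i)) ∧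
      Module.FaithfullyFlat A (∀ i, B i) ∧
      EtHom.IsCov fun i => Spec.map (CommRingCat.ofHom (algebraMap A (B i))) := by
  choose B iB iB' hB hs hP using h
  have hfl : ∀ s, Flat (Spec.map (CommRingCat.ofHom (algebraMap A (B s)))) := fun s => by
    have := hB s
    exact (HasRingHomProperty.Spec_iff (P := @Flat)).mpr
      (RingHom.flat_algebraMap_iff.mpr inferInstance)
  have hfp : ∀ s, LocallyOfFinitePresentation
      (Spec.map (CommRingCat.ofHom (algebraMap A (B s)))) := fun s => by
    have := hB s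
    exact (HasRingHomProperty.Spec_iff (P := @LocallyOfFinitePresentation)).mpr
      (RingHom.finitePresentation_algebraMap.mpr inferInstance)
  obtain ⟨t, ht⟩ := isCompact_univ.elim_finite_subcover (X := Spec (.of A))
    (fun s : Spec (.of A) => Set.range (Spec.map (CommRingCat.ofHom (algebraMap A (B s)))))
    (fun s => (Spec.map (CommRingCat.ofHom (algebraMap A (B s)))).isOpenMap.isOpen_range)
    (fun s _ => Set.mem_iUnion.mpr ⟨s, hs s⟩)
  have ht' : ∀ p : Spec (.of A), ∃ s ∈ t,
      p ∈ Set.range (Spec.map (CommRingCat.ofHom (algebraMap A (B s)))) := by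
    intro p
    have := ht (Set.mem_univ p)
    simpa only [Set.mem_iUnion, exists_prop] using this
  generalize hσ : (fun i : ULift.{u} (Fin t.card) => (t.equivFin.symm i.down : Spec (.of A))) = σ
  have hσ' : ∀ s ∈ t, ∃ i, σ i = s := fun s hst =>
    ⟨⟨t.equivFin ⟨s, hst⟩⟩, by rw [← hσ]; simp⟩
  clear hσ
  refine ⟨t.card, fun i => B (σ i), fun i => iB _, fun i => iB' _, fun i => hB _, fun i => hP _,
    ?_, fun i => hfl _, fun i => hfp _, fun s => ?_⟩
  · have hfl' : ∀ i, Module.Flat A (B (σ i)) := fun i => by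
      have := hB (σ i)
      infer_instance
    refine faithfullyFlat_pi' (fun i => B (σ i)) hfl' ?_
    intro p
    obtain ⟨s, hst, q, hq⟩ := ht' p
    obtain ⟨i, rfl⟩ := hσ' s hst
    exact ⟨i, q, hq⟩
  · obtain ⟨s', hst, hq⟩ := ht' s
    obtain ⟨i, rfl⟩ := hσ' s' hst
    exact ⟨i, hq⟩

end Groth.Agent.Sga3B.Par.DynCov383
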