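import Groth.Agent.Sga3B.Parab.DynBc998
import Mathlib.AlgebraicGeometry.Morphisms.FlatDescent
import Mathlib.RingTheory.Flat.FaithfullyFlat.Algebra

/-!
# `P_G(λ)`, `U_G(λ)`, `Z_G(λ)` can be recognised after a faithfully flat quasi-compact base change
-/

set_option autoImplicit false

universe u

open CategoryTheory MonoidalCategory CartesianMonoidalCategory MonObj GrpObj AlgebraicGeometry Limits

namespace Groth.Agent.Sga3B.Par.DynDesc383

open Groth.Agent.Sga3B.Parab Groth.Agent.Sga3B.Parab.DynExist998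

variable {S S' : Scheme.{u}} (f : S' ⟶ S)

/-- The base change of a morphism over `S` forms a cartesian square with the projections. -/
lemma isPullback_map_left {Z Y : Over S} (i : Z ⟶ Y) :
    IsPullback (pullback.fst Z.hom f) ((Over.pullback f).map i).left i.left
      (pullback.fst Y.hom f) := by
  have hw : i.left ≫ Y.hom = Z.hom := Over.w i
  have h2 : IsPullback (pullback.fst Z.hom f) (pullback.snd Z.hom f) (i.left ≫ Y.hom) f := by
    rw [hw]
    exact IsPullback.of_hasPullback Z.hom f
  have h1 : pullback.fst Z.hom f ≫ i.left =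
      ((Over.pullback f).map i).left ≫ pullback.fst Y.hom f :=
    (pullback.lift_fst _ _ _).symm
  have h3 : ((Over.pullback f).map i).left ≫ pullback.snd Y.hom f = pullback.snd Z.hom f :=
    pullback.lift_snd _ _ _
  refine IsPullback.of_bot (h₂₁ := pullback.fst Y.hom f) (v₂₁ := pullback.snd Y.hom f)
    (v₂₂ := Y.hom) (h₃₁ := f) ?_ h1 (IsPullback.of_hasPullback Y.hom f)
  rw [h3]
  exact h2

variable [Surjective f] [Flat f] [QuasiCompact f]

/-- Isomorphisms descend. -/
theorem isIso_of_bc {X Y : Over S} (k : X ⟶ Y) [IsIso ((Over.pullback f).map k)] : IsIso k := by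
  have h1 : IsIso ((Over.pullback f).map k).left :=
    (Over.forget S').map_isIso ((Over.pullback f).map k)
  have h2 : IsIso k.left := by
    refine MorphismProperty.of_isPullback_of_descendsAlong
      (P := MorphismProperty.isomorphisms Scheme.{u})
      (Q := @Surjective ⊓ @Flat ⊓ @QuasiCompact) (isPullback_map_left f k).flip
      ⟨⟨?_, ?_⟩, ?_⟩ h1
    · exact (inferInstance : Surjective (pullback.fst Y.hom f))
    · exact (inferInstance : Flat (pullback.fst Y.hom f))
    · exact (inferInstance : QuasiCompact (pullback.fst Y.hom f))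
  have : IsIso ((Over.forget S).map k) := h2
  exact isIso_of_reflects_iso k (Over.forget S)

/-- Factorizations through monomorphisms descend. -/
theorem exists_factor_of_bc {P P₀ G : Over S} (p : P ⟶ G) (p₀ : P₀ ⟶ G) [Mono p₀]
    (h : ∃ x : (Over.pullback f).obj P ⟶ (Over.pullback f).obj P₀,
      x ≫ (Over.pullback f).map p₀ = (Over.pullback f).map p) : ∃ x : P ⟶ P₀, x ≫ p₀ = p := by
  obtain ⟨x, hx⟩ := h
  have hpb := (IsPullback.of_hasPullback p p₀).map (Over.pullback f)
  have : Mono ((Over.pullback f).map (pullback.fst p p₀)) := inferInstance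
  have h1 : IsIso ((Over.pullback f).map (pullback.fst p p₀)) := by
    have h2 : hpb.lift (𝟙 _) x (by rw [Category.id_comp, hx]) ≫
        (Over.pullback f).map (pullback.fst p p₀) = 𝟙 _ := hpb.lift_fst _ _ _
    have : IsSplitEpi ((Over.pullback f).map (pullback.fst p p₀)) := IsSplitEpi.mk' ⟨_, h2⟩
    exact isIso_of_mono_of_isSplitEpi _
  have := isIso_of_bc f (pullback.fst p p₀)
  refine ⟨inv (pullback.fst p p₀) ≫ pullback.snd p p₀, ?_⟩
  rw [Category.assoc, ← pullback.condition, IsIso.inv_hom_id_assoc]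

omit [Surjective f] [Flat f] [QuasiCompact f] in
/-- Points through two monomorphisms which factor through each other. -/
lemma exists_congr {G P P₀ : Over S} {p₀ : P₀ ⟶ G} {p : P ⟶ G} (h1 : ∃ a : P ⟶ P₀, a ≫ p₀ = p)
    (h2 : ∃ b : P₀ ⟶ P, b ≫ p = p₀) {X : Over S} (g : X ⟶ G) :
    (∃ x : X ⟶ P, x ≫ p = g) ↔ ∃ x : X ⟶ P₀, x ≫ p₀ = g := by
  obtain ⟨a, ha⟩ := h1
  obtain ⟨b, hb⟩ := h2
  constructor
  · rintro ⟨x, rfl⟩
    exact ⟨x ≫ a, by rw [Category.assoc, ha]⟩
  · rintro ⟨x, rfl⟩
    exact ⟨x ≫ b, by rw [Category.assoc, hb]⟩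

variable {G P : Over S} [GrpObj G] [GrpObj P] [IsAffineHom G.hom] (lam : Red.Gm S ⟶ G)
  [IsMonHom lam] (p : P ⟶ G) [IsMonHom p] [Mono p]

/-- `P_G(λ)` can be recognised after base change. -/
theorem isDynP_of_bc' (h : IsDynP (bcLam lam f) ((Over.pullback f).map p)) : IsDynP lam p := by
  obtain ⟨P₀, _, p₀, h₀, -⟩ := exists_isDynP lam
  obtain ⟨φ, -, hφ⟩ := h.exists_iso (h₀.bc f)
  have := h₀.mono
  refine ⟨inferInstance, inferInstance, fun X g => ?_⟩
  rw [← h₀.iff_ptP]
  refine exists_congr (exists_factor_of_bc f p p₀ ⟨φ.hom, hφ⟩)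
    (exists_factor_of_bc f p₀ p ⟨φ.inv, ?_⟩) g
  rw [← hφ, Iso.inv_hom_id_assoc]

/-- `U_G(λ)` can be recognised after base change. -/
theorem isDynU_of_bc' (h : IsDynU (bcLam lam f) ((Over.pullback f).map p)) : IsDynU lam p := by
  obtain ⟨P₀, _, p₀, h₀, -⟩ := exists_isDynU lam
  obtain ⟨φ, -, hφ⟩ := h.exists_iso (h₀.bc f)
  have := h₀.mono
  refine ⟨inferInstance, inferInstance, fun X g => ?_⟩
  rw [← h₀.iff_ptU]
  refine exists_congr (exists_factor_of_bc f p p₀ ⟨φ.hom, hφ⟩)
    (exists_factor_of_bc f p₀ p ⟨φ.inv, ?_⟩) g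
  rw [← hφ, Iso.inv_hom_id_assoc]

/-- `Z_G(λ)` can be recognised after base change. -/
theorem isDynZ_of_bc' (h : IsDynZ (bcLam lam f) ((Over.pullback f).map p)) : IsDynZ lam p := by
  obtain ⟨P₀, _, p₀, h₀, -⟩ := exists_isDynZ lam
  obtain ⟨φ, -, hφ⟩ := h.exists_iso (h₀.bc f)
  have := h₀.mono
  refine ⟨inferInstance, inferInstance, fun X g => ?_⟩
  rw [← h₀.iff_ptZ]
  refine exists_congr (exists_factor_of_bc f p p₀ ⟨φ.hom, hφ⟩)
    (exists_factor_of_bc f p₀ p ⟨φ.inv, ?_⟩) g
  rw [← hφ, Iso.inv_hom_id_assoc]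

omit [Surjective f] [Flat f] [QuasiCompact f] in
/-- The morphism of spectra of a faithfully flat algebra is surjective. -/
theorem surjective_specMap (A B : Type u) [CommRing A] [CommRing B] [Algebra A B]
    [Module.FaithfullyFlat A B] : Surjective (Spec.map (CommRingCat.ofHom (algebraMap A B))) :=
  ⟨PrimeSpectrum.comap_surjective_of_faithfullyFlat⟩

omit [Surjective f] [Flat f] [QuasiCompact f] in
/-- The morphism of spectra of a faithfully flat algebra is flat. -/
theorem flat_specMap (A B : Type u) [CommRing A] [CommRing B] [Algebra A B]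
    [Module.FaithfullyFlat A B] : Flat (Spec.map (CommRingCat.ofHom (algebraMap A B))) :=
  (HasRingHomProperty.Spec_iff (P := @Flat)).mpr
    (RingHom.flat_algebraMap_iff.mpr inferInstance)

end Groth.Agent.Sga3B.Par.DynDesc383

namespace Groth.Agent.Sga3B.Par.DynDesc383

open Groth.Agent.Sga3B.Parab

section affine

variable {A B : Type u} [CommRing A] [CommRing B] [Algebra A B] [Module.FaithfullyFlat A B]
  {G P : Over (Spec (.of A))} [GrpObj G] [GrpObj P] [IsAffineHom G.hom]
  (lam : Red.Gm _ ⟶ G) [IsMonHom lam] (p : P ⟶ G) [IsMonHom p]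

theorem isDynP_of_bc (hp : IsClosedImmersion p.left)
    (h : IsDynP (bcLam lam (Spec.map (CommRingCat.ofHom (algebraMap A B))))
      ((Over.pullback (Spec.map (CommRingCat.ofHom (algebraMap A B)))).map p)) : IsDynP lam p := by
  have := surjective_specMap A B
  have := flat_specMap A B
  have : Mono p := Over.mono_of_mono_left p
  exact isDynP_of_bc' (Spec.map (CommRingCat.ofHom (algebraMap A B))) lam p h

theorem isDynU_of_bc (hp : IsClosedImmersion p.left)
    (h : IsDynU (bcLam lam (Spec.map (CommRingCat.ofHom (algebraMap A B))))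
      ((Over.pullback (Spec.map (CommRingCat.ofHom (algebraMap A B)))).map p)) : IsDynU lam p := by
  have := surjective_specMap A B
  have := flat_specMap A B
  have : Mono p := Over.mono_of_mono_left p
  exact isDynU_of_bc' (Spec.map (CommRingCat.ofHom (algebraMap A B))) lam p h

theorem isDynZ_of_bc (hp : IsClosedImmersion p.left)
    (h : IsDynZ (bcLam lam (Spec.map (CommRingCat.ofHom (algebraMap A B))))
      ((Over.pullback (Spec.map (CommRingCat.ofHom (algebraMap A B)))).map p)) : IsDynZ lam p := by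
  have := surjective_specMap A B
  have := flat_specMap A B
  have : Mono p := Over.mono_of_mono_left p
  exact isDynZ_of_bc' (Spec.map (CommRingCat.ofHom (algebraMap A B))) lam p h

end affine

end Groth.Agent.Sga3B.Par.DynDesc383
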