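import Groth.Agent.Sga3B.Par.LRes
import Groth.Agent.Sga3A.FFDescent
import Mathlib.RingTheory.TensorProduct.IncludeLeftSubRight

/-!
# Multiplicative loops and cocharacters
-/

set_option autoImplicit false

open LaurentPolynomial TensorProduct WithConv
open Groth.Agent.Books.DynBasic Groth.Agent.Books.DynLim

universe u

namespace Groth.Agent.Sga3B.Par.LCoch

open LFilt LRes

section Gen

variable {k : Type u} [CommRing k] {A : Type u} [CommRing A] [HopfAlgebra k A]
variable {X : Type u} [CommRing X] [Algebra k X]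

/-- the comultiplication of a bialgebra through the convolution product -/
lemma map_comul_eq {B : Type u} [CommRing B] [Bialgebra k B] (f : B →ₐ[k] X) :
    (Algebra.TensorProduct.map f f).comp (Bialgebra.comulAlgHom k B) =
      (toConv ((Algebra.TensorProduct.includeLeft).comp f) *
        toConv ((Algebra.TensorProduct.includeRight).comp f) :
          WithConv (B →ₐ[k] X ⊗[k] X)).ofConv := by
  ext a
  rw [AlgHom.convMul_def]
  change _ = Algebra.TensorProduct.lmul' k (Algebra.TensorProduct.map _ _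
    (Bialgebra.comulAlgHom k B a))
  rw [AlgHom.comp_apply]
  generalize Bialgebra.comulAlgHom k B a = x
  induction x using TensorProduct.induction_on with
  | zero => simp
  | tmul x y => simp
  | add x y hx hy => simp only [map_add, hx, hy]

end Gen

section Coch

variable {k : Type u} [CommRing k] {A : Type u} [CommRing A] [HopfAlgebra k A]
variable {D : Type u} [CommRing D] [Algebra k D]

section Aux

variable {X : Type u} [CommRing X] [Algebra k X]

lemma conj_aux (a b c : D[T;T⁻¹] →ₐ[k] X) (z : D →ₐ[k] X) (ha : a.comp (cst k D) = z)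
    (hb : b.comp (cst k D) = z) (hc : c.comp (cst k D) = z) {l : WithConv (A →ₐ[k] D[T;T⁻¹])}
    (hl : mapPt a l = mapPt b l * mapPt c l) (u : WithConv (A →ₐ[k] D)) :
    mapPt a (conjL u l) = mapPt b (conjL u l) * mapPt c (conjL u l) := by
  have h1 : ∀ d : D[T;T⁻¹] →ₐ[k] X, d.comp (cst k D) = z →
      mapPt d (conjL u l) = mapPt z u * mapPt d l * (mapPt z u)⁻¹ := by
    intro d hd
    rw [conjL, map_mul, map_mul, map_inv, ← mapPt_comp (cst k D) d, hd]
  rw [h1 a ha, h1 b hb, h1 c hc, hl]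
  simp [mul_assoc]

end Aux

variable (k D) in
/-- the map `T ↦ T ⊗ 1` -/
noncomputable def iL : D[T;T⁻¹] →ₐ[k] D[T;T⁻¹] ⊗[D] D[T;T⁻¹] :=
  (Algebra.TensorProduct.includeLeft : D[T;T⁻¹] →ₐ[D] D[T;T⁻¹] ⊗[D] D[T;T⁻¹]).restrictScalars k

variable (k D) in
/-- the map `T ↦ 1 ⊗ T` -/
noncomputable def iR : D[T;T⁻¹] →ₐ[k] D[T;T⁻¹] ⊗[D] D[T;T⁻¹] :=
  (Algebra.TensorProduct.includeRight : D[T;T⁻¹] →ₐ[D] D[T;T⁻¹] ⊗[D] D[T;T⁻¹]).restrictScalars k

variable (k D) in
/-- the map `T ↦ T ⊗ T` -/
noncomputable def iM : D[T;T⁻¹] →ₐ[k] D[T;T⁻¹] ⊗[D] D[T;T⁻¹] :=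
  (Bialgebra.comulAlgHom D D[T;T⁻¹]).restrictScalars k

/-- the loop `l` is multiplicative -/
def IsCoch (l : WithConv (A →ₐ[k] D[T;T⁻¹])) : Prop :=
  mapPt (iM k D) l = mapPt (iL k D) l * mapPt (iR k D) l

lemma iM_cst : (iM k D).comp (cst k D) = Algebra.algHom k D _ := by
  ext d
  change Bialgebra.comulAlgHom D D[T;T⁻¹] (algebraMap D D[T;T⁻¹] d) = _
  rw [AlgHom.commutes]
  rfl

lemma iL_cst : (iL k D).comp (cst k D) = Algebra.algHom k D _ := by
  ext d
  change (Algebra.TensorProduct.includeLeft : D[T;T⁻¹] →ₐ[D] D[T;T⁻¹] ⊗[D] D[T;T⁻¹])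
    (algebraMap D D[T;T⁻¹] d) = _
  rw [AlgHom.commutes]
  rfl

lemma iR_cst : (iR k D).comp (cst k D) = Algebra.algHom k D _ := by
  ext d
  change (Algebra.TensorProduct.includeRight : D[T;T⁻¹] →ₐ[D] D[T;T⁻¹] ⊗[D] D[T;T⁻¹])
    (algebraMap D D[T;T⁻¹] d) = _
  rw [AlgHom.commutes]
  rfl

/-- multiplicative loops are stable under conjugation by constants -/
lemma IsCoch.conj {l : WithConv (A →ₐ[k] D[T;T⁻¹])} (hl : IsCoch l) (u : WithConv (A →ₐ[k] D)) :
    IsCoch (conjL u l) :=
  conj_aux _ _ _ _ iM_cst iL_cst iR_cst hl u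

/-- a cocharacter over `D` gives a multiplicative loop -/
lemma isCoch_of_bialgHom (lam : (D ⊗[k] A) →ₐc[D] D[T;T⁻¹]) :
    IsCoch (resPt (toConv (lam : (D ⊗[k] A) →ₐ[D] D[T;T⁻¹]))) := by
  have h0 : (Bialgebra.comulAlgHom D D[T;T⁻¹]).comp (lam : (D ⊗[k] A) →ₐ[D] D[T;T⁻¹]) =
      (Algebra.TensorProduct.map (lam : (D ⊗[k] A) →ₐ[D] D[T;T⁻¹])
        (lam : (D ⊗[k] A) →ₐ[D] D[T;T⁻¹])).comp (Bialgebra.comulAlgHom D (D ⊗[k] A)) := by
    apply AlgHom.ext
    intro x
    exact (CoalgHomClass.map_comp_comul_apply lam x).symm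
  have h1 : mapPt (Bialgebra.comulAlgHom D D[T;T⁻¹])
      (toConv (lam : (D ⊗[k] A) →ₐ[D] D[T;T⁻¹])) =
      mapPt (Algebra.TensorProduct.includeLeft) (toConv (lam : (D ⊗[k] A) →ₐ[D] D[T;T⁻¹])) *
      mapPt (Algebra.TensorProduct.includeRight) (toConv (lam : (D ⊗[k] A) →ₐ[D] D[T;T⁻¹])) := by
    apply WithConv.ofConv_injective
    exact h0.trans (map_comul_eq _)
  have h2 := congrArg (resPt (k := k)) h1
  have h3 := map_mul (resPt (k := k) (A := A) (D := D) (E := D[T;T⁻¹] ⊗[D] D[T;T⁻¹]))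
    (mapPt (Algebra.TensorProduct.includeLeft) (toConv (lam : (D ⊗[k] A) →ₐ[D] D[T;T⁻¹])))
    (mapPt (Algebra.TensorProduct.includeRight) (toConv (lam : (D ⊗[k] A) →ₐ[D] D[T;T⁻¹])))
  exact h2.trans h3

/-- a multiplicative loop is a cocharacter -/
theorem exists_bialgHom {l : WithConv (A →ₐ[k] D[T;T⁻¹])} (hl : IsCoch l) :
    ∃ lam : (D ⊗[k] A) →ₐc[D] D[T;T⁻¹],
      resPt (toConv (lam : (D ⊗[k] A) →ₐ[D] D[T;T⁻¹])) = l := by
  have h1 : mapPt (Bialgebra.comulAlgHom D D[T;T⁻¹]) (extPt (D := D) l) =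
      mapPt (Algebra.TensorProduct.includeLeft) (extPt (D := D) l) *
      mapPt (Algebra.TensorProduct.includeRight) (extPt (D := D) l) := by
    apply resPt_injective (k := k)
    have h3 := map_mul (resPt (k := k) (A := A) (D := D) (E := D[T;T⁻¹] ⊗[D] D[T;T⁻¹]))
      (mapPt (Algebra.TensorProduct.includeLeft) (extPt (D := D) l))
      (mapPt (Algebra.TensorProduct.includeRight) (extPt (D := D) l))
    refine Eq.trans ?_ h3.symm
    rw [← mapPt_resPt, ← mapPt_resPt, ← mapPt_resPt, resPt_extPt]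
    exact hl
  have h2 : (Algebra.TensorProduct.map (extPt (D := D) l).ofConv (extPt (D := D) l).ofConv).comp
      (Bialgebra.comulAlgHom D (D ⊗[k] A)) =
      (Bialgebra.comulAlgHom D D[T;T⁻¹]).comp (extPt (D := D) l).ofConv :=
    (map_comul_eq _).trans (congrArg WithConv.ofConv h1).symm
  have h4 : (Bialgebra.counitAlgHom D D[T;T⁻¹]).comp (extPt (D := D) l).ofConv =
      Bialgebra.counitAlgHom D (D ⊗[k] A) := by
    have h5 : mapPt (Bialgebra.counitAlgHom D D[T;T⁻¹]) (extPt (D := D) l) = 1 := by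
      have h6 := congrArg (mapPt (Algebra.TensorProduct.lift
        ((Algebra.ofId D D).comp (Bialgebra.counitAlgHom D D[T;T⁻¹]))
        ((Algebra.ofId D D).comp (Bialgebra.counitAlgHom D D[T;T⁻¹]))
        (fun _ _ => Commute.all _ _))) h1
      rw [map_mul, ← mapPt_comp, ← mapPt_comp, ← mapPt_comp] at h6
      have e1 : (Algebra.TensorProduct.lift
        ((Algebra.ofId D D).comp (Bialgebra.counitAlgHom D D[T;T⁻¹]))
        ((Algebra.ofId D D).comp (Bialgebra.counitAlgHom D D[T;T⁻¹]))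
        (fun _ _ => Commute.all _ _)).comp (Bialgebra.comulAlgHom D D[T;T⁻¹]) =
          Bialgebra.counitAlgHom D D[T;T⁻¹] := by
        apply algHom_ext_T
        simp
      have e2 : (Algebra.TensorProduct.lift
        ((Algebra.ofId D D).comp (Bialgebra.counitAlgHom D D[T;T⁻¹]))
        ((Algebra.ofId D D).comp (Bialgebra.counitAlgHom D D[T;T⁻¹]))
        (fun _ _ => Commute.all _ _)).comp Algebra.TensorProduct.includeLeft =
          Bialgebra.counitAlgHom D D[T;T⁻¹] := by
        apply algHom_ext_T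
        simp
      have e3 : (Algebra.TensorProduct.lift
        ((Algebra.ofId D D).comp (Bialgebra.counitAlgHom D D[T;T⁻¹]))
        ((Algebra.ofId D D).comp (Bialgebra.counitAlgHom D D[T;T⁻¹]))
        (fun _ _ => Commute.all _ _)).comp Algebra.TensorProduct.includeRight =
          Bialgebra.counitAlgHom D D[T;T⁻¹] := by
        apply algHom_ext_T
        simp
      rw [e1, e2, e3] at h6
      exact left_eq_mul.1 h6
    exact congrArg WithConv.ofConv h5
  refine ⟨BialgHom.ofAlgHom (extPt (D := D) l).ofConv h4 h2, ?_⟩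
  exact resPt_extPt l

end Coch

section Descent

variable {k : Type u} [CommRing k] {A : Type u} [CommRing A] [HopfAlgebra k A]
variable {D : Type u} [CommRing D] [Algebra k D]

variable (D) in
/-- the basis `Tⁱ` of the Laurent polynomials -/
noncomputable def bT : Module.Basis ℤ D D[T;T⁻¹] := .ofRepr (AddMonoidAlgebra.coeffLinearEquiv D)

lemma bT_repr (f : D[T;T⁻¹]) (i : ℤ) : (bT D).repr f i = f.coeff i := rfl

variable (k D) in
/-- the base change of the ring of the square of the multiplicative group -/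
noncomputable def jj : k[T;T⁻¹] ⊗[k] k[T;T⁻¹] →ₐ[k] D[T;T⁻¹] ⊗[D] D[T;T⁻¹] :=
  Algebra.TensorProduct.lift ((iL k D).comp (mT (Algebra.ofId k D)))
    ((iR k D).comp (mT (Algebra.ofId k D))) (fun _ _ => Commute.all _ _)

lemma jj_tmul (f g : k[T;T⁻¹]) : jj k D (f ⊗ₜ g) =
    (mT (Algebra.ofId k D) f) ⊗ₜ[D] (mT (Algebra.ofId k D) g) := by
  rw [jj, Algebra.TensorProduct.lift_tmul]
  change ((mT (Algebra.ofId k D) f) ⊗ₜ[D] (1 : D[T;T⁻¹])) *
    ((1 : D[T;T⁻¹]) ⊗ₜ[D] (mT (Algebra.ofId k D) g)) = _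
  rw [Algebra.TensorProduct.tmul_mul_tmul, one_mul, mul_one]

lemma repr_jj (x : k[T;T⁻¹] ⊗[k] k[T;T⁻¹]) (p : ℤ × ℤ) :
    ((bT D).tensorProduct (bT D)).repr (jj k D x) p =
      algebraMap k D (((bT k).tensorProduct (bT k)).repr x p) := by
  obtain ⟨i, j⟩ := p
  induction x using TensorProduct.induction_on with
  | zero => simp
  | add x y hx hy => simp only [map_add, Finsupp.add_apply, hx, hy]
  | tmul f g =>
    rw [jj_tmul, Module.Basis.tensorProduct_repr_tmul_apply,
      Module.Basis.tensorProduct_repr_tmul_apply, bT_repr, bT_repr, bT_repr, bT_repr, smul_eq_mul,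
      smul_eq_mul, map_mul]
    congr 1

lemma jj_injective (h : Function.Injective (algebraMap k D)) : Function.Injective (jj k D) := by
  intro x y hxy
  apply ((bT k).tensorProduct (bT k)).repr.injective
  ext p
  apply h
  rw [← repr_jj, ← repr_jj, hxy]

lemma coeff_mT {E : Type u} [CommRing E] [Algebra k E] (φ : D →ₐ[k] E) (f : D[T;T⁻¹]) (n : ℤ) :
    (mT φ f).coeff n = φ (f.coeff n) := by
  simp

lemma mT_injective (h : Function.Injective (algebraMap k D)) :
    Function.Injective (mT (Algebra.ofId k D)) := by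
  intro f g hfg
  ext n
  apply h
  have h1 := congrArg (fun f => f.coeff n) hfg
  simp only [coeff_mT] at h1
  exact h1

lemma mem_range_mT {f : D[T;T⁻¹]} (h : ∀ n, f.coeff n ∈ Set.range (algebraMap k D)) :
    f ∈ (mT (Algebra.ofId k D)).range := by
  have h1 : f ∈ Set.range (AddMonoidAlgebra.map (M := ℤ) ((algebraMap k D : k →+* D) : k →+ D)) := by
    rw [AddMonoidAlgebra.range_map]
    exact h
  obtain ⟨g, hg⟩ := h1
  refine ⟨g, ?_⟩
  ext n
  rw [← hg]
  change (mT (Algebra.ofId k D) g).coeff n = _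
  rw [coeff_mT]
  simp [Algebra.ofId_apply]

/-- **Descent of cocharacters**: a multiplicative loop whose two base changes to `D ⊗ D` agree
comes from a cocharacter over `k`. -/
theorem exists_descent [Module.FaithfullyFlat k D] {l : WithConv (A →ₐ[k] D[T;T⁻¹])}
    (hl : IsCoch l)
    (h : bcL (Algebra.TensorProduct.includeLeft : D →ₐ[k] D ⊗[k] D) l =
      bcL (Algebra.TensorProduct.includeRight : D →ₐ[k] D ⊗[k] D) l) :
    ∃ lam : A →ₐc[k] k[T;T⁻¹],
      bcL (Algebra.ofId k D) (toConv (lam : A →ₐ[k] k[T;T⁻¹])) = l := by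
  have hinj : Function.Injective (algebraMap k D) := FaithfulSMul.algebraMap_injective k D
  -- the coefficients are in `k`
  have h1 : ∀ (a : A) (n : ℤ), (l.ofConv a).coeff n ∈ Set.range (algebraMap k D) := by
    intro a n
    have h2 := congrArg (fun f => f.coeff n) (DFunLike.congr_fun (congrArg WithConv.ofConv h) a)
    change (mT _ (l.ofConv a)).coeff n = (mT _ (l.ofConv a)).coeff n at h2
    rw [coeff_mT, coeff_mT] at h2
    have h3 := (Algebra.IsEffective.of_faithfullyFlat (R := k) (S := D)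
      ((l.ofConv a).coeff n)).1 (by
        rw [Algebra.TensorProduct.includeLeftSubRight_apply, sub_eq_zero]
        exact h2)
    obtain ⟨c, hc⟩ := h3
    exact ⟨c, hc⟩
  have h2 : ∀ a, l.ofConv a ∈ (mT (Algebra.ofId k D)).range := fun a => mem_range_mT (h1 a)
  let l0 : A →ₐ[k] k[T;T⁻¹] :=
    ((AlgEquiv.ofInjective (mT (Algebra.ofId k D)) (mT_injective hinj)).symm : _ →ₐ[k] _).comp
      (l.ofConv.codRestrict _ h2)
  have hl0 : bcL (Algebra.ofId k D) (toConv l0) = l := by
    apply WithConv.ofConv_injective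
    ext1 a
    have h3 := (AlgEquiv.ofInjective (mT (Algebra.ofId k D)) (mT_injective hinj)).apply_symm_apply
      (l.ofConv.codRestrict _ h2 a)
    exact congrArg Subtype.val h3
  have hL : (jj k D).comp Algebra.TensorProduct.includeLeft =
      (iL k D).comp (mT (Algebra.ofId k D)) := by
    rw [jj, Algebra.TensorProduct.lift_comp_includeLeft]
  have hR : (jj k D).comp Algebra.TensorProduct.includeRight =
      (iR k D).comp (mT (Algebra.ofId k D)) := by
    apply AlgHom.ext
    intro f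
    rw [AlgHom.comp_apply, jj, Algebra.TensorProduct.includeRight_apply,
      Algebra.TensorProduct.lift_tmul, map_one, one_mul]
  have hmT : mT (Algebra.ofId k D) (T 1) = T 1 := by
    change AddMonoidAlgebra.mapAlgHom ℤ (Algebra.ofId k D) (T 1) = T 1
    rw [T, AddMonoidAlgebra.mapAlgHom_single, map_one]
    rfl
  have hM : (jj k D).comp (Bialgebra.comulAlgHom k k[T;T⁻¹]) =
      (iM k D).comp (mT (Algebra.ofId k D)) := by
    apply algHom_ext_T
    rw [AlgHom.comp_apply, AlgHom.comp_apply, hmT]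
    change jj k D (Coalgebra.comul (T 1)) = Coalgebra.comul (R := D) (T 1 : D[T;T⁻¹])
    rw [LaurentPolynomial.comul_T, LaurentPolynomial.comul_T, jj_tmul, hmT]
  have hcomul : (Algebra.TensorProduct.map l0 l0).comp (Bialgebra.comulAlgHom k A) =
      (Bialgebra.comulAlgHom k k[T;T⁻¹]).comp l0 := by
    rw [map_comul_eq]
    have h4 : mapPt (jj k D) (toConv ((Algebra.TensorProduct.includeLeft).comp l0) *
        toConv ((Algebra.TensorProduct.includeRight).comp l0)) =
        mapPt (jj k D) (toConv ((Bialgebra.comulAlgHom k k[T;T⁻¹]).comp l0)) := by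
      have e1 : mapPt (jj k D) (toConv ((Algebra.TensorProduct.includeLeft).comp l0)) =
          mapPt (iL k D) l := by
        rw [← hl0, bcL, ← mapPt_comp, ← hL]
        rfl
      have e2 : mapPt (jj k D) (toConv ((Algebra.TensorProduct.includeRight).comp l0)) =
          mapPt (iR k D) l := by
        rw [← hl0, bcL, ← mapPt_comp, ← hR]
        rfl
      have e3 : mapPt (jj k D) (toConv ((Bialgebra.comulAlgHom k k[T;T⁻¹]).comp l0)) =
          mapPt (iM k D) l := by
        rw [← hl0, bcL, ← mapPt_comp, ← hM]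
        rfl
      rw [map_mul, e1, e2, e3]
      exact hl.symm
    exact congrArg WithConv.ofConv (mapPt_injective _ (jj_injective hinj) h4)
  obtain ⟨lamD, hlamD⟩ := exists_bialgHom hl
  have hcounit : (Bialgebra.counitAlgHom k k[T;T⁻¹]).comp l0 = Bialgebra.counitAlgHom k A := by
    ext a
    apply hinj
    have h5 : (Algebra.ofId k D).comp (Bialgebra.counitAlgHom k k[T;T⁻¹]) =
        ((Bialgebra.counitAlgHom D D[T;T⁻¹]).restrictScalars k).comp (mT (Algebra.ofId k D)) := by
      apply algHom_ext_T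
      rw [AlgHom.comp_apply, AlgHom.comp_apply, hmT]
      simp
    have h6 := DFunLike.congr_fun h5 (l0 a)
    have h7 : mT (Algebra.ofId k D) (l0 a) = l.ofConv a :=
      DFunLike.congr_fun (congrArg WithConv.ofConv hl0) a
    have h8 : l.ofConv a = lamD ((1 : D) ⊗ₜ[k] a) := by
      rw [← hlamD]
      rfl
    refine h6.trans ?_
    change Coalgebra.counit (R := D) (mT (Algebra.ofId k D) (l0 a)) = _
    rw [h7, h8]
    refine (CoalgHomClass.counit_comp_apply lamD _).trans ?_
    rw [TensorProduct.counit_tmul, CommSemiring.counit_apply, Algebra.smul_def, mul_one]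
    rfl
  exact ⟨BialgHom.ofAlgHom l0 hcounit hcomul, hl0⟩

end Descent

end Groth.Agent.Sga3B.Par.LCoch
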