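import Groth.Agent.Sga3B.Par.CanDef
import Groth.Agent.Sga3B.Par.LeviProj

/-!
# Splitting data adapted to a parabolic subgroup

`LD c p`: over `c : T ⟶ S` the group `G` has a splitting `D` with torus inside `P`, and
`P = P_G(λ)` for a cocharacter `λ` of that torus.
-/

set_option autoImplicit false

universe u

open CategoryTheory MonoidalCategory CartesianMonoidalCategory MonObj GrpObj AlgebraicGeometry Limits

namespace Groth.Agent.Sga3B.Par

open Parab

variable {S T : Scheme.{u}} {G P : Over S} [GrpObj G] [GrpObj P]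

/-- Splitting data for `p : P ⟶ G` over the `S`-scheme `c : T ⟶ S`. -/
structure LD (c : T ⟶ S) (p : P ⟶ G) where
  /-- the splitting -/
  D : Red.SplitRed (Red.bc c G)
  /-- the coweight -/
  x : Module.Dual ℤ D.M
  /-- the inclusion of the torus -/
  j : D.T ⟶ Red.bc c P
  hj : j ≫ (Over.pullback c).map p = D.i
  dyn : IsDynP (coch D x) ((Over.pullback c).map p)

/-- The canonical cocharacter of `P`. -/
noncomputable def LD.co {c : T ⟶ S} {p : P ⟶ G} (L : LD c p) : Red.Gm T ⟶ Red.bc c P :=
  cochT L.D (can L.D.P L.x) ≫ L.j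

lemma LD.co_comp {c : T ⟶ S} {p : P ⟶ G} (L : LD c p) :
    L.co ≫ (Over.pullback c).map p = coch L.D (can L.D.P L.x) := by
  rw [LD.co, Category.assoc, L.hj, coch]

end Groth.Agent.Sga3B.Par
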