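import Groth.Agent.Books.DynLim
import Mathlib.RingTheory.Coalgebra.Convolution
import Mathlib.Algebra.Polynomial.Div
import Mathlib.Tactic.NoncommRing

/-!
# The filtration by the order of vanishing of `l(T) g l(T)⁻¹ - 1` at `T = 0`

`A` is a Hopf algebra over `k`, `D` a `k`-algebra and `l` a point of `Spec A` with values in
`D[T;T⁻¹]`.
-/

set_option autoImplicit false

open LaurentPolynomial TensorProduct WithConv
open Groth.Agent.Books.DynBasic Groth.Agent.Books.DynLim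

universe u

namespace Groth.Agent.Sga3B.Par.LFilt

section Cv

variable {k : Type u} [CommRing k] {A : Type u} [CommRing A] [HopfAlgebra k A]
variable {D : Type u} [CommRing D] [Algebra k D] {E : Type u} [CommRing E] [Algebra k E]
variable {F : Type u} [CommRing F] [Algebra k F]

/-- a point as an element of the convolution ring -/
noncomputable def toCv : WithConv (A →ₐ[k] D) →* WithConv (A →ₗ[k] D) where
  toFun g := toConv g.ofConv.toLinearMap
  map_one' := rfl
  map_mul' _ _ := rfl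

lemma toCv_apply (g : WithConv (A →ₐ[k] D)) (a : A) : (toCv g).ofConv a = g.ofConv a := rfl

lemma toCv_mul_inv (g : WithConv (A →ₐ[k] D)) : toCv g * toCv g⁻¹ = 1 := by
  rw [← map_mul, mul_inv_cancel, map_one]

lemma toCv_inv_mul (g : WithConv (A →ₐ[k] D)) : toCv g⁻¹ * toCv g = 1 := by
  rw [← map_mul, inv_mul_cancel, map_one]

/-- functoriality of the convolution ring -/
noncomputable def mapC (φ : D →ₐ[k] E) : WithConv (A →ₗ[k] D) →+* WithConv (A →ₗ[k] E) where
  toFun x := toConv (φ.toLinearMap ∘ₗ x.ofConv)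
  map_one' := by
    apply WithConv.ofConv_injective
    ext a
    change φ (algebraMap k D (Coalgebra.counit a)) = algebraMap k E (Coalgebra.counit a)
    rw [AlgHom.commutes]
  map_mul' f g := by
    apply WithConv.ofConv_injective
    exact LinearMap.algHom_comp_convMul_distrib φ f g
  map_zero' := by
    apply WithConv.ofConv_injective
    ext a
    exact map_zero φ
  map_add' f g := by
    apply WithConv.ofConv_injective
    ext a
    exact map_add φ _ _

@[simp] lemma mapC_apply (φ : D →ₐ[k] E) (x : WithConv (A →ₗ[k] D)) (a : A) :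
    (mapC φ x).ofConv a = φ (x.ofConv a) := rfl

lemma mapC_toCv (φ : D →ₐ[k] E) (g : WithConv (A →ₐ[k] D)) :
    mapC φ (toCv g) = toCv (mapPt φ g) := rfl

lemma mapC_comp (φ : D →ₐ[k] E) (ψ : E →ₐ[k] F) (x : WithConv (A →ₗ[k] D)) :
    mapC (ψ.comp φ) x = mapC ψ (mapC φ x) := rfl

lemma mapC_injective (φ : D →ₐ[k] E) (h : Function.Injective φ) :
    Function.Injective (mapC (A := A) φ) := by
  intro f g hfg
  apply WithConv.ofConv_injective
  ext a
  apply h
  exact DFunLike.congr_fun (congrArg WithConv.ofConv hfg) a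

/-- coefficients of functionals with values in polynomials -/
noncomputable def cf (n : ℕ) : WithConv (A →ₗ[k] Polynomial D) →+ WithConv (A →ₗ[k] D) where
  toFun x := toConv (((Polynomial.lcoeff D n).restrictScalars k) ∘ₗ x.ofConv)
  map_zero' := by
    apply WithConv.ofConv_injective
    ext a
    exact Polynomial.coeff_zero n
  map_add' x y := by
    apply WithConv.ofConv_injective
    ext a
    exact Polynomial.coeff_add _ _ n

@[simp] lemma cf_apply (n : ℕ) (x : WithConv (A →ₗ[k] Polynomial D)) (a : A) :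
    (cf n x).ofConv a = (x.ofConv a).coeff n := rfl

lemma cf_mul (n : ℕ) (x y : WithConv (A →ₗ[k] Polynomial D)) :
    cf n (x * y) = ∑ p ∈ Finset.antidiagonal n, cf p.1 x * cf p.2 y := by
  apply WithConv.ofConv_injective
  ext a
  rw [cf_apply, (Coalgebra.Repr.arbitrary k a).convMul_apply, Polynomial.finsetSum_coeff]
  have h1 : (∑ p ∈ Finset.antidiagonal n, cf p.1 x * cf p.2 y).ofConv a =
      ∑ p ∈ Finset.antidiagonal n, (cf p.1 x * cf p.2 y).ofConv a := by
    induction (Finset.antidiagonal n) using Finset.induction_on with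
    | empty => rfl
    | insert p s hp ih =>
      rw [Finset.sum_insert hp, Finset.sum_insert hp, ← ih]
      rfl
  rw [h1]
  simp only [(Coalgebra.Repr.arbitrary k a).convMul_apply, cf_apply, Polynomial.coeff_mul]
  rw [Finset.sum_comm]

/-- vanishing to order `n` -/
def Van (n : ℕ) (x : WithConv (A →ₗ[k] Polynomial D)) : Prop := ∀ i < n, cf i x = 0

lemma Van.mul_left {n : ℕ} {x : WithConv (A →ₗ[k] Polynomial D)} (hx : Van n x)
    (y : WithConv (A →ₗ[k] Polynomial D)) : Van n (y * x) := by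
  intro i hi
  rw [cf_mul]
  apply Finset.sum_eq_zero
  rintro ⟨a, b⟩ hab
  rw [Finset.mem_antidiagonal] at hab
  rw [hx b (by simp only at hab; omega), mul_zero]

lemma Van.mul_right {n : ℕ} {x : WithConv (A →ₗ[k] Polynomial D)} (hx : Van n x)
    (y : WithConv (A →ₗ[k] Polynomial D)) : Van n (x * y) := by
  intro i hi
  rw [cf_mul]
  apply Finset.sum_eq_zero
  rintro ⟨a, b⟩ hab
  rw [Finset.mem_antidiagonal] at hab
  rw [hx a (by simp only at hab; omega), zero_mul]

lemma Van.cf_mul_left {n : ℕ} {x : WithConv (A →ₗ[k] Polynomial D)} (hx : Van n x)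
    (y : WithConv (A →ₗ[k] Polynomial D)) : cf n (y * x) = cf 0 y * cf n x := by
  rw [cf_mul, Finset.sum_eq_single (0, n)]
  · rintro ⟨a, b⟩ hab hne
    rw [Finset.mem_antidiagonal] at hab
    simp only at hab
    rw [hx b (by
      rcases Nat.eq_zero_or_pos a with rfl | ha
      · exact absurd (by simp only [zero_add] at hab; rw [hab]) hne
      · omega), mul_zero]
  · intro h
    exact absurd (Finset.mem_antidiagonal.2 (by simp)) h

lemma Van.cf_mul_right {n : ℕ} {x : WithConv (A →ₗ[k] Polynomial D)} (hx : Van n x)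
    (y : WithConv (A →ₗ[k] Polynomial D)) : cf n (x * y) = cf n x * cf 0 y := by
  rw [cf_mul, Finset.sum_eq_single (n, 0)]
  · rintro ⟨a, b⟩ hab hne
    rw [Finset.mem_antidiagonal] at hab
    simp only at hab
    rw [hx a (by
      rcases Nat.eq_zero_or_pos b with rfl | hb
      · exact absurd (by simp only [add_zero] at hab; rw [hab]) hne
      · omega), zero_mul]
  · intro h
    exact absurd (Finset.mem_antidiagonal.2 (by simp)) h

lemma Van.add {n : ℕ} {x y : WithConv (A →ₗ[k] Polynomial D)} (hx : Van n x) (hy : Van n y) :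
    Van n (x + y) := by
  intro i hi
  rw [map_add, hx i hi, hy i hi, add_zero]

lemma Van.sub {n : ℕ} {x y : WithConv (A →ₗ[k] Polynomial D)} (hx : Van n x) (hy : Van n y) :
    Van n (x - y) := by
  intro i hi
  rw [map_sub, hx i hi, hy i hi, sub_zero]

lemma cf_one (n : ℕ) : cf n (1 : WithConv (A →ₗ[k] Polynomial D)) = if n = 0 then 1 else 0 := by
  apply WithConv.ofConv_injective
  ext a
  change (algebraMap k (Polynomial D) (Coalgebra.counit a)).coeff n = _
  rw [IsScalarTower.algebraMap_apply k D (Polynomial D), Polynomial.algebraMap_eq,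
      Polynomial.coeff_C]
  split_ifs <;> rfl

lemma cf_mapC_cp (n : ℕ) (x : WithConv (A →ₗ[k] D)) :
    cf n (mapC (cp k D) x) = if n = 0 then x else 0 := by
  apply WithConv.ofConv_injective
  ext a
  change (Polynomial.C (x.ofConv a)).coeff n = _
  rw [Polynomial.coeff_C]
  split_ifs <;> rfl

lemma cf_zero_toCv (h : WithConv (A →ₐ[k] Polynomial D)) :
    cf 0 (toCv h) = toCv (mapPt (ev0 k D) h) := by
  apply WithConv.ofConv_injective
  ext a
  change (h.ofConv a).coeff 0 = ev0 k D (h.ofConv a)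
  rw [ev0_apply]

/-- coefficients of functionals with values in Laurent polynomials -/
noncomputable def cfL (n : ℤ) : WithConv (A →ₗ[k] D[T;T⁻¹]) →+ WithConv (A →ₗ[k] D) where
  toFun x := toConv
    { toFun := fun a => (x.ofConv a).coeff n
      map_add' := fun a b => by simp
      map_smul' := fun c a => by simp }
  map_zero' := by
    apply WithConv.ofConv_injective
    ext a
    simp
  map_add' x y := by
    apply WithConv.ofConv_injective
    ext a
    simp

@[simp] lemma cfL_apply (n : ℤ) (x : WithConv (A →ₗ[k] D[T;T⁻¹])) (a : A) :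
    (cfL n x).ofConv a = (x.ofConv a).coeff n := rfl

lemma cfL_tl (n : ℕ) (x : WithConv (A →ₗ[k] Polynomial D)) :
    cfL (n : ℤ) (mapC (tl k D) x) = cf n x := by
  apply WithConv.ofConv_injective
  ext a
  exact coeff_toLaurent_nat _ _

lemma cfL_tl_neg {n : ℤ} (hn : n < 0) (x : WithConv (A →ₗ[k] Polynomial D)) :
    cfL n (mapC (tl k D) x) = 0 := by
  apply WithConv.ofConv_injective
  ext a
  exact (exists_toLaurent_iff _).1 ⟨_, rfl⟩ n hn

lemma cfL_ext {x y : WithConv (A →ₗ[k] D[T;T⁻¹])} (h : ∀ n, cfL n x = cfL n y) : x = y := by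
  apply WithConv.ofConv_injective
  ext a n
  exact DFunLike.congr_fun (congrArg WithConv.ofConv (h n)) a

/-- functionals without negative coefficients are polynomial -/
lemma exists_mapC_tl {x : WithConv (A →ₗ[k] D[T;T⁻¹])} (h : ∀ n < 0, cfL n x = 0) :
    ∃ y : WithConv (A →ₗ[k] Polynomial D), mapC (tl k D) y = x := by
  have h1 : ∀ a, x.ofConv a ∈ LinearMap.range (tl k D).toLinearMap := by
    intro a
    obtain ⟨p, hp⟩ := (exists_toLaurent_iff (x.ofConv a)).2 fun n hn =>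
      DFunLike.congr_fun (congrArg WithConv.ofConv (h n hn)) a
    exact ⟨p, hp⟩
  have h2 : Function.Injective (tl k D).toLinearMap := tl_injective (k := k) (R := D)
  refine ⟨toConv ((LinearEquiv.ofInjective (tl k D).toLinearMap h2).symm.toLinearMap ∘ₗ
    (x.ofConv.codRestrict _ h1)), ?_⟩
  apply WithConv.ofConv_injective
  ext1 a
  have h3 := (LinearEquiv.ofInjective (tl k D).toLinearMap h2).apply_symm_apply
    (x.ofConv.codRestrict _ h1 a)
  exact congrArg Subtype.val h3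

variable (k) in
/-- reduction modulo `X ^ n` -/
noncomputable def qn (D : Type u) [CommRing D] [Algebra k D] (n : ℕ) :
    Polynomial D →ₐ[k] Polynomial D ⧸ Ideal.span {(Polynomial.X : Polynomial D) ^ n} :=
  (Ideal.Quotient.mkₐ D _).restrictScalars k

lemma qn_eq_iff (n : ℕ) (p q : Polynomial D) :
    qn k D n p = qn k D n q ↔ ∀ i < n, p.coeff i = q.coeff i := by
  change Ideal.Quotient.mk _ p = Ideal.Quotient.mk _ q ↔ _
  rw [Ideal.Quotient.eq, Ideal.mem_span_singleton, Polynomial.X_pow_dvd_iff]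
  simp only [Polynomial.coeff_sub, sub_eq_zero]

lemma mapPt_qn_eq_one_iff (n : ℕ) (h : WithConv (A →ₐ[k] Polynomial D)) :
    mapPt (qn k D n) h = 1 ↔ Van n (toCv h - 1) := by
  have h1 : (1 : WithConv (A →ₐ[k] Polynomial D ⧸ Ideal.span {(Polynomial.X : Polynomial D) ^ n})) =
      mapPt (qn k D n) 1 := (map_one _).symm
  rw [h1]
  constructor
  · intro e i hi
    apply WithConv.ofConv_injective
    ext a
    have e1 := DFunLike.congr_fun (congrArg WithConv.ofConv e) a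
    rw [mapPt_apply, mapPt_apply, qn_eq_iff] at e1
    have e2 := e1 i hi
    rw [map_sub]
    change (h.ofConv a).coeff i - ((1 : WithConv (A →ₐ[k] Polynomial D)).ofConv a).coeff i = 0
    rw [e2, sub_self]
  · intro e
    apply WithConv.ofConv_injective
    ext1 a
    rw [mapPt_apply, mapPt_apply, qn_eq_iff]
    intro i hi
    have e1 := DFunLike.congr_fun (congrArg WithConv.ofConv (e i hi)) a
    rw [map_sub] at e1
    exact sub_eq_zero.1 e1

/-- `ε`-derivations -/
def IsDer (δ : WithConv (A →ₗ[k] D)) : Prop :=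
  ∀ a b : A, δ.ofConv (a * b) = algebraMap k D (Coalgebra.counit a) * δ.ofConv b +
    algebraMap k D (Coalgebra.counit b) * δ.ofConv a

lemma IsDer.add {δ δ' : WithConv (A →ₗ[k] D)} (h : IsDer δ) (h' : IsDer δ') : IsDer (δ + δ') := by
  intro a b
  rw [WithConv.ofConv_add, LinearMap.add_apply, LinearMap.add_apply, LinearMap.add_apply, h a b,
    h' a b]
  ring

lemma IsDer.sub {δ δ' : WithConv (A →ₗ[k] D)} (h : IsDer δ) (h' : IsDer δ') : IsDer (δ - δ') := by
  intro a b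
  rw [WithConv.ofConv_sub, LinearMap.sub_apply, LinearMap.sub_apply, LinearMap.sub_apply, h a b,
    h' a b]
  ring

lemma IsDer.map {δ : WithConv (A →ₗ[k] D)} (h : IsDer δ) (φ : D →ₐ[k] E) : IsDer (mapC φ δ) := by
  intro a b
  rw [mapC_apply, h a b, map_add, map_mul, map_mul, AlgHom.commutes, AlgHom.commutes]
  rfl

end Cv

section Loop

variable {k : Type u} [CommRing k] {A : Type u} [CommRing A] [HopfAlgebra k A]
variable {D : Type u} [CommRing D] [Algebra k D] {E : Type u} [CommRing E] [Algebra k E]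
variable (l : WithConv (A →ₐ[k] D[T;T⁻¹]))

/-- the conjugated orbit -/
noncomputable def orbL : WithConv (A →ₐ[k] D) →* WithConv (A →ₐ[k] D[T;T⁻¹]) :=
  (MulAut.conj l).toMonoidHom.comp (mapPt (cst k D))

lemma orbL_apply (g : WithConv (A →ₐ[k] D)) : orbL l g = l * mapPt (cst k D) g * l⁻¹ := rfl

/-- the points whose orbit has a limit -/
noncomputable def PL : Subgroup (WithConv (A →ₐ[k] D)) := (mapPt (tl k D)).range.comap (orbL l)

/-- the points whose orbit is `1` modulo `X ^ n` -/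
noncomputable def FL (n : ℕ) : Subgroup (WithConv (A →ₐ[k] D)) :=
  ((mapPt (qn k D n)).ker.map (mapPt (tl k D))).comap (orbL l)

variable {l}

lemma mem_PL {g : WithConv (A →ₐ[k] D)} :
    g ∈ PL l ↔ ∃ h : WithConv (A →ₐ[k] Polynomial D), mapPt (tl k D) h = orbL l g := Iff.rfl

lemma mem_FL {n : ℕ} {g : WithConv (A →ₐ[k] D)} :
    g ∈ FL l n ↔ ∃ h : WithConv (A →ₐ[k] Polynomial D), Van n (toCv h - 1) ∧
      mapPt (tl k D) h = orbL l g := by
  constructor
  · rintro ⟨h, h1, h2⟩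
    exact ⟨h, (mapPt_qn_eq_one_iff n h).1 h1, h2⟩
  · rintro ⟨h, h1, h2⟩
    exact ⟨h, (mapPt_qn_eq_one_iff n h).2 h1, h2⟩

lemma FL_le_PL (n : ℕ) : FL l n ≤ PL l := by
  rintro g ⟨h, -, h2⟩
  exact ⟨h, h2⟩

lemma FL_antitone {m n : ℕ} (h : m ≤ n) : FL l n ≤ FL l m := by
  intro g hg
  rw [mem_FL] at hg ⊢
  obtain ⟨x, hx, hx2⟩ := hg
  exact ⟨x, fun i hi => hx i (by omega), hx2⟩

lemma conj_mem_PL {p g : WithConv (A →ₐ[k] D)} (hp : p ∈ PL l) (hg : g ∈ PL l) :
    p * g * p⁻¹ ∈ PL l := mul_mem (mul_mem hp hg) (inv_mem hp)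

lemma conj_mem_FL {n : ℕ} {p g : WithConv (A →ₐ[k] D)} (hp : p ∈ PL l) (hg : g ∈ FL l n) :
    p * g * p⁻¹ ∈ FL l n := by
  obtain ⟨h, h0, hh⟩ := hg
  obtain ⟨hp, hhp⟩ := hp
  refine ⟨hp * h * hp⁻¹, Subgroup.Normal.conj_mem inferInstance h h0 hp, ?_⟩
  rw [map_mul, map_mul, map_inv, hh, hhp, map_mul, map_mul, map_inv]

lemma conj_mem_FL' {n : ℕ} {p g : WithConv (A →ₐ[k] D)} (hp : p ∈ PL l) (hg : g ∈ FL l n) :
    p⁻¹ * g * p ∈ FL l n := by
  have := conj_mem_FL (inv_mem hp) hg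
  rwa [inv_inv] at this

variable (l) in
/-- the leading term -/
noncomputable def lead (n : ℕ) (g : WithConv (A →ₐ[k] D)) : WithConv (A →ₗ[k] D) :=
  cfL n (toCv (orbL l g))

lemma lead_eq {n : ℕ} {g : WithConv (A →ₐ[k] D)} {h : WithConv (A →ₐ[k] Polynomial D)}
    (hh : mapPt (tl k D) h = orbL l g) : lead l n g = cf n (toCv h) := by
  rw [lead, ← hh, ← mapC_toCv, cfL_tl]

lemma lead_eq' {n : ℕ} (hn : 1 ≤ n) {g : WithConv (A →ₐ[k] D)}
    {h : WithConv (A →ₐ[k] Polynomial D)}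
    (hh : mapPt (tl k D) h = orbL l g) : lead l n g = cf n (toCv h - 1) := by
  rw [lead_eq hh, map_sub, cf_one, if_neg (by omega), sub_zero]

lemma lead_mul {n : ℕ} (hn : 1 ≤ n) {g g' : WithConv (A →ₐ[k] D)} (hg : g ∈ FL l n)
    (hg' : g' ∈ FL l n) : lead l n (g * g') = lead l n g + lead l n g' := by
  obtain ⟨h, h1, h2⟩ := mem_FL.1 hg
  obtain ⟨h', h1', h2'⟩ := mem_FL.1 hg'
  have h3 : mapPt (tl k D) (h * h') = orbL l (g * g') := by rw [map_mul, map_mul, h2, h2']
  rw [lead_eq' hn h2, lead_eq' hn h2', lead_eq' hn h3, map_mul]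
  have e : toCv h * toCv h' - 1 = (toCv h - 1) * toCv h' + (toCv h' - 1) := by noncomm_ring
  rw [e, map_add, h1.cf_mul_right]
  have e2 : cf 0 (toCv h') = 1 := by
    have := h1' 0 (by omega)
    rw [map_sub, cf_one, if_pos rfl, sub_eq_zero] at this
    exact this
  rw [e2, mul_one]

lemma lead_one {n : ℕ} (hn : 1 ≤ n) : lead l n 1 = 0 := by
  have h := lead_mul hn (one_mem (FL l n)) (one_mem (FL l n))
  rw [mul_one] at h
  simpa using h.symm

lemma lead_inv {n : ℕ} (hn : 1 ≤ n) {g : WithConv (A →ₐ[k] D)} (hg : g ∈ FL l n) :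
    lead l n g⁻¹ = -lead l n g := by
  have h := lead_mul hn hg (inv_mem hg)
  rw [mul_inv_cancel, lead_one hn] at h
  exact (neg_eq_of_add_eq_zero_right h.symm).symm

lemma mem_FL_succ_iff {n : ℕ} (hn : 1 ≤ n) {g : WithConv (A →ₐ[k] D)} (hg : g ∈ FL l n) :
    g ∈ FL l (n + 1) ↔ lead l n g = 0 := by
  constructor
  · intro hg'
    obtain ⟨h, h1, h2⟩ := mem_FL.1 hg'
    rw [lead_eq' hn h2]
    exact h1 n (by omega)
  · intro e
    obtain ⟨h, h1, h2⟩ := mem_FL.1 hg
    refine mem_FL.2 ⟨h, fun i hi => ?_, h2⟩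
    by_cases hin : i < n
    · exact h1 i hin
    · obtain rfl : i = n := by omega
      rw [← lead_eq' hn h2, e]

lemma isDer_lead {n : ℕ} (hn : 1 ≤ n) {g : WithConv (A →ₐ[k] D)} (hg : g ∈ FL l n) :
    IsDer (lead l n g) := by
  obtain ⟨h, h1, h2⟩ := mem_FL.1 hg
  rw [lead_eq h2]
  have h3 : ∀ i < n, ∀ a, (h.ofConv a).coeff i =
      if i = 0 then algebraMap k D (Coalgebra.counit a) else 0 := by
    intro i hi a
    have h4 := h1 i hi
    rw [map_sub, cf_one, sub_eq_zero] at h4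
    have h5 := DFunLike.congr_fun (congrArg WithConv.ofConv h4) a
    rw [cf_apply] at h5
    refine h5.trans ?_
    split_ifs <;> rfl
  intro a b
  change (h.ofConv (a * b)).coeff n = _ * (h.ofConv b).coeff n + _ * (h.ofConv a).coeff n
  rw [map_mul, Polynomial.coeff_mul]
  obtain ⟨m, rfl⟩ : ∃ m, n = m + 1 := ⟨n - 1, by omega⟩
  rw [Finset.Nat.sum_antidiagonal_succ, Finset.Nat.sum_antidiagonal_eq_sum_range_succ_mk,
    Finset.sum_range_succ]
  simp only [h3 0 (by omega), if_true, Nat.sub_self]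
  rw [Finset.sum_eq_zero, zero_add]
  · rw [mul_comm ((h.ofConv a).coeff (m + 1))]
  · intro i hi
    rw [Finset.mem_range] at hi
    rw [h3 (i + 1) (by omega), if_neg (by omega), zero_mul]

/-- conjugation of a polynomial element -/
lemma cf_conj {n : ℕ} {x : WithConv (A →ₗ[k] Polynomial D)} (hx : Van n x)
    (y z : WithConv (A →ₗ[k] Polynomial D)) : cf n (y * x * z) = cf 0 y * cf n x * cf 0 z := by
  rw [(hx.mul_left y).cf_mul_right, hx.cf_mul_left]

/-- conjugation by `U` does not change the leading term -/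
lemma lead_conj {n : ℕ} (hn : 1 ≤ n) {p g : WithConv (A →ₐ[k] D)} (hp : p ∈ FL l 1)
    (hg : g ∈ FL l n) : lead l n (p * g * p⁻¹) = lead l n g := by
  obtain ⟨h, h1, h2⟩ := mem_FL.1 hg
  obtain ⟨q, q1, q2⟩ := mem_FL.1 hp
  have h3 : mapPt (tl k D) (q * h * q⁻¹) = orbL l (p * g * p⁻¹) := by
    rw [map_mul, map_mul, map_inv, h2, q2, map_mul, map_mul, map_inv]
  rw [lead_eq' hn h3, lead_eq' hn h2, map_mul, map_mul]
  have e : toCv q * toCv h * toCv q⁻¹ - 1 = toCv q * (toCv h - 1) * toCv q⁻¹ := by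
    rw [mul_sub, sub_mul, mul_one, toCv_mul_inv]
  have e0 : cf 0 (toCv q) = 1 := by
    have := q1 0 (by omega)
    rw [map_sub, cf_one, if_pos rfl, sub_eq_zero] at this
    exact this
  have e1 : cf 0 (toCv q⁻¹) = 1 := by
    have e2 : cf 0 (toCv q * toCv q⁻¹) = 1 := by rw [toCv_mul_inv, cf_one, if_pos rfl]
    rw [cf_mul] at e2
    simp only [Finset.Nat.antidiagonal_zero, Finset.sum_singleton] at e2
    rwa [e0, one_mul] at e2
  rw [e, cf_conj h1, e0, e1, one_mul, mul_one]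

end Loop

section Change

variable {k : Type u} [CommRing k] {A : Type u} [CommRing A] [HopfAlgebra k A]
variable {D : Type u} [CommRing D] [Algebra k D] {E : Type u} [CommRing E] [Algebra k E]
variable {F : Type u} [CommRing F] [Algebra k F]

/-- the conjugate of a loop by a constant -/
noncomputable def conjL (u : WithConv (A →ₐ[k] D)) (l : WithConv (A →ₐ[k] D[T;T⁻¹])) :
    WithConv (A →ₐ[k] D[T;T⁻¹]) := mapPt (cst k D) u * l * (mapPt (cst k D) u)⁻¹

variable {l : WithConv (A →ₐ[k] D[T;T⁻¹])}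

lemma conjL_mul (u v : WithConv (A →ₐ[k] D)) : conjL (u * v) l = conjL u (conjL v l) := by
  simp [conjL, mul_assoc]

lemma conjL_one : conjL (1 : WithConv (A →ₐ[k] D)) l = l := by
  simp [conjL]

lemma orbL_conjL (u g : WithConv (A →ₐ[k] D)) :
    orbL (conjL u l) g = mapPt (cst k D) u * orbL l (u⁻¹ * g * u) * (mapPt (cst k D) u)⁻¹ := by
  simp [conjL, orbL_apply, mul_assoc]

lemma mapPt_tl_cp (u : WithConv (A →ₐ[k] D)) :
    mapPt (tl k D) (mapPt (cp k D) u) = mapPt (cst k D) u := by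
  rw [← mapPt_comp (cp k D) (tl k D), tl_comp_cp]

lemma PL_le_conjL {u : WithConv (A →ₐ[k] D)} (hu : u ∈ PL l) : PL l ≤ PL (conjL u l) := by
  intro g hg
  obtain ⟨h, hh⟩ := conj_mem_PL (inv_mem hu) hg
  rw [inv_inv] at hh
  refine ⟨mapPt (cp k D) u * h * (mapPt (cp k D) u)⁻¹, ?_⟩
  rw [map_mul, map_mul, map_inv, mapPt_tl_cp, hh, orbL_conjL]

lemma FL_le_conjL {u : WithConv (A →ₐ[k] D)} (hu : u ∈ PL l) (n : ℕ) :
    FL l n ≤ FL (conjL u l) n := by
  intro g hg
  obtain ⟨h, h0, hh⟩ := conj_mem_FL' hu hg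
  refine ⟨mapPt (cp k D) u * h * (mapPt (cp k D) u)⁻¹,
    Subgroup.Normal.conj_mem inferInstance h h0 _, ?_⟩
  rw [map_mul, map_mul, map_inv, mapPt_tl_cp, hh, orbL_conjL]

lemma inv_mem_PL_conjL {u : WithConv (A →ₐ[k] D)} (hu : u ∈ PL l) : u⁻¹ ∈ PL (conjL u l) :=
  PL_le_conjL hu (inv_mem hu)

lemma PL_conjL {u : WithConv (A →ₐ[k] D)} (hu : u ∈ PL l) : PL (conjL u l) = PL l := by
  apply le_antisymm _ (PL_le_conjL hu)
  have h := PL_le_conjL (inv_mem_PL_conjL hu)
  rwa [← conjL_mul, inv_mul_cancel, conjL_one] at h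

lemma FL_conjL {u : WithConv (A →ₐ[k] D)} (hu : u ∈ PL l) (n : ℕ) :
    FL (conjL u l) n = FL l n := by
  apply le_antisymm _ (FL_le_conjL hu n)
  have h := FL_le_conjL (inv_mem_PL_conjL hu) n
  rwa [← conjL_mul, inv_mul_cancel, conjL_one] at h

lemma lead_conjL {n : ℕ} (hn : 1 ≤ n) {u g : WithConv (A →ₐ[k] D)} (hu : u ∈ FL l 1)
    (hg : g ∈ FL l n) : lead (conjL u l) n g = toCv u * lead l n g * toCv u⁻¹ := by
  have hg' := conj_mem_FL' (FL_le_PL 1 hu) hg
  have e := lead_conj hn (inv_mem hu) hg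
  rw [inv_inv] at e
  obtain ⟨h, h1, h2⟩ := mem_FL.1 hg'
  have h3 : mapPt (tl k D) (mapPt (cp k D) u * h * (mapPt (cp k D) u)⁻¹) =
      orbL (conjL u l) g := by
    rw [map_mul, map_mul, map_inv, mapPt_tl_cp, h2, orbL_conjL]
  rw [lead_eq' hn h3, ← e, lead_eq' hn h2, map_mul, map_mul]
  have e1 : toCv (mapPt (cp k D) u) * toCv h * toCv (mapPt (cp k D) u)⁻¹ - 1 =
      toCv (mapPt (cp k D) u) * (toCv h - 1) * toCv (mapPt (cp k D) u)⁻¹ := by
    rw [mul_sub, sub_mul, mul_one, toCv_mul_inv]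
  rw [e1, cf_conj h1, ← map_inv, ← mapC_toCv, ← mapC_toCv, cf_mapC_cp, cf_mapC_cp, if_pos rfl,
    if_pos rfl]

/-- the adjoint orbit of a functional -/
noncomputable def adL (l : WithConv (A →ₐ[k] D[T;T⁻¹])) (δ : WithConv (A →ₗ[k] D)) :
    WithConv (A →ₗ[k] D[T;T⁻¹]) := toCv l * mapC (cst k D) δ * toCv l⁻¹

lemma adL_add (δ δ' : WithConv (A →ₗ[k] D)) : adL l (δ + δ') = adL l δ + adL l δ' := by
  simp only [adL, map_add, mul_add, add_mul]

lemma adL_sub (δ δ' : WithConv (A →ₗ[k] D)) : adL l (δ - δ') = adL l δ - adL l δ' := by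
  simp only [adL, map_sub, mul_sub, sub_mul]

/-- the derivations of weight at least `n` -/
structure TL (l : WithConv (A →ₐ[k] D[T;T⁻¹])) (n : ℕ) (δ : WithConv (A →ₗ[k] D)) : Prop where
  der : IsDer δ
  van : ∃ η : WithConv (A →ₗ[k] Polynomial D), mapC (tl k D) η = adL l δ ∧ Van n η

lemma TL.add {n : ℕ} {δ δ' : WithConv (A →ₗ[k] D)} (h : TL l n δ) (h' : TL l n δ') :
    TL l n (δ + δ') := by
  refine ⟨h.der.add h'.der, ?_⟩
  obtain ⟨η, h1, h2⟩ := h.van
  obtain ⟨η', h1', h2'⟩ := h'.van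
  exact ⟨η + η', by rw [map_add, h1, h1', adL_add], h2.add h2'⟩

lemma TL.sub {n : ℕ} {δ δ' : WithConv (A →ₗ[k] D)} (h : TL l n δ) (h' : TL l n δ') :
    TL l n (δ - δ') := by
  refine ⟨h.der.sub h'.der, ?_⟩
  obtain ⟨η, h1, h2⟩ := h.van
  obtain ⟨η', h1', h2'⟩ := h'.van
  exact ⟨η - η', by rw [map_sub, h1, h1', adL_sub], h2.sub h2'⟩

lemma TL.zero (n : ℕ) : TL l n 0 := by
  refine ⟨fun a b => ?_, 0, ?_, fun i _ => map_zero _⟩
  · change (0 : D) = _ * 0 + _ * 0
    simp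
  · rw [map_zero, adL, map_zero, mul_zero, zero_mul]

lemma TL.neg {n : ℕ} {δ : WithConv (A →ₗ[k] D)} (h : TL l n δ) : TL l n (-δ) := by
  have := (TL.zero (l := l) n).sub h
  rwa [zero_sub] at this

lemma TL.mono {m n : ℕ} (hmn : m ≤ n) {δ : WithConv (A →ₗ[k] D)} (h : TL l n δ) : TL l m δ := by
  obtain ⟨η, h1, h2⟩ := h.van
  exact ⟨h.der, η, h1, fun i hi => h2 i (by omega)⟩

lemma TL.conj {n : ℕ} {u : WithConv (A →ₐ[k] D)} (hu : u ∈ PL l) {δ : WithConv (A →ₗ[k] D)}
    (h : TL l n δ) : TL (conjL u l) n δ := by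
  obtain ⟨η, h1, h2⟩ := h.van
  obtain ⟨q, hq⟩ := hu
  refine ⟨h.der, toCv (mapPt (cp k D) u * q⁻¹) * η * toCv (q * (mapPt (cp k D) u)⁻¹), ?_,
    (h2.mul_left _).mul_right _⟩
  rw [map_mul, map_mul, h1, mapC_toCv, mapC_toCv]
  simp only [map_mul, map_inv, mapPt_tl_cp, hq, adL, conjL, orbL_apply, mul_inv_rev, inv_inv]
  simp only [mul_assoc]
  congr 2
  rw [← mul_assoc (toCv l⁻¹) (toCv l), toCv_inv_mul, one_mul,
    ← mul_assoc (toCv l⁻¹) (toCv l), toCv_inv_mul, one_mul]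

lemma TL_conjL_iff {n : ℕ} {u : WithConv (A →ₐ[k] D)} (hu : u ∈ PL l)
    {δ : WithConv (A →ₗ[k] D)} : TL (conjL u l) n δ ↔ TL l n δ := by
  refine ⟨fun h => ?_, fun h => h.conj hu⟩
  have h' := h.conj (inv_mem_PL_conjL hu)
  rwa [← conjL_mul, inv_mul_cancel, conjL_one] at h'

lemma cf_zero_eq_one {n : ℕ} (hn : 1 ≤ n) {h : WithConv (A →ₐ[k] Polynomial D)}
    (hh : Van n (toCv h - 1)) : cf 0 (toCv h) = 1 := by
  have := hh 0 (by omega)
  rw [map_sub, cf_one, if_pos rfl, sub_eq_zero] at this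
  exact this

lemma cf_zero_inv_eq_one {n : ℕ} (hn : 1 ≤ n) {h : WithConv (A →ₐ[k] Polynomial D)}
    (hh : Van n (toCv h - 1)) : cf 0 (toCv h⁻¹) = 1 := by
  have e2 : cf 0 (toCv h * toCv h⁻¹) = 1 := by rw [toCv_mul_inv, cf_one, if_pos rfl]
  rw [cf_mul] at e2
  simp only [Finset.Nat.antidiagonal_zero, Finset.sum_singleton] at e2
  rwa [cf_zero_eq_one hn hh, one_mul] at e2

/-- `U` acts trivially on the graded pieces -/
lemma TL.conj_sub {n : ℕ} {u : WithConv (A →ₐ[k] D)} (hu : u ∈ FL l 1)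
    {δ : WithConv (A →ₗ[k] D)} (h : TL l n δ) (hder : IsDer (toCv u * δ * toCv u⁻¹)) :
    TL l (n + 1) (toCv u * δ * toCv u⁻¹ - δ) := by
  obtain ⟨η, h1, h2⟩ := h.van
  obtain ⟨q, q1, q2⟩ := mem_FL.1 hu
  refine ⟨hder.sub h.der, toCv q * η * toCv q⁻¹ - η, ?_, ?_⟩
  · rw [map_sub, adL_sub, ← h1]
    congr 1
    rw [map_mul, map_mul, h1, mapC_toCv, mapC_toCv, map_inv, q2]
    simp only [adL, orbL_apply, map_mul, mapC_toCv, map_inv, mul_inv_rev, inv_inv]
    simp only [mul_assoc]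
    congr 2
    rw [← mul_assoc (toCv l⁻¹) (toCv l), toCv_inv_mul, one_mul,
      ← mul_assoc (toCv l⁻¹) (toCv l), toCv_inv_mul, one_mul]
  · intro i hi
    by_cases hin : i < n
    · rw [map_sub, (h2.mul_left _).mul_right _ i hin, h2 i hin, sub_zero]
    · obtain rfl : i = n := by omega
      rw [map_sub, cf_conj h2, cf_zero_eq_one le_rfl q1, cf_zero_inv_eq_one le_rfl q1, one_mul,
        mul_one, sub_self]

/-- the leading term modulo higher weight does not depend on the loop in its `U`-conjugacy class -/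
lemma TL_lead_sub {n : ℕ} (hn : 1 ≤ n) {u g : WithConv (A →ₐ[k] D)} (hu : u ∈ FL l 1)
    (hg : g ∈ FL l n) (hT : TL l n (lead l n g)) :
    TL l (n + 1) (lead (conjL u l) n g - lead l n g) := by
  have h1 : IsDer (lead (conjL u l) n g) :=
    isDer_lead hn (FL_le_conjL (FL_le_PL 1 hu) n hg)
  rw [lead_conjL hn hu hg] at h1 ⊢
  exact hT.conj_sub hu h1

section Map

variable (φ : D →ₐ[k] E) (ψ : E →ₐ[k] F)

/-- Laurent polynomials are functorial -/
noncomputable abbrev mT : D[T;T⁻¹] →ₐ[k] E[T;T⁻¹] := AddMonoidAlgebra.mapAlgHom ℤ φ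

/-- base change of loops -/
noncomputable def bcL (l : WithConv (A →ₐ[k] D[T;T⁻¹])) : WithConv (A →ₐ[k] E[T;T⁻¹]) :=
  mapPt (mT φ) l

lemma bcL_comp (l : WithConv (A →ₐ[k] D[T;T⁻¹])) : bcL (ψ.comp φ) l = bcL ψ (bcL φ l) := by
  have h : mT (ψ.comp φ) = (mT ψ).comp (mT φ) := by
    apply AlgHom.ext
    intro f
    induction f using LaurentPolynomial.induction_on' with
    | add p q hp hq => rw [map_add, hp, hq, map_add]
    | C_mul_T n a =>
      rw [← single_eq_C_mul_T, AlgHom.comp_apply, AddMonoidAlgebra.mapAlgHom_single,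
        AddMonoidAlgebra.mapAlgHom_single, AddMonoidAlgebra.mapAlgHom_single]
      rfl
  rw [bcL, h, mapPt_comp]
  rfl

lemma mapPt_cst_comm (g : WithConv (A →ₐ[k] D)) :
    mapPt (mT φ) (mapPt (cst k D) g) = mapPt (cst k E) (mapPt φ g) := by
  rw [← mapPt_comp (cst k D) (mT φ), ← mapPt_comp φ (cst k E), map_comp_cst]

lemma orbL_bcL (g : WithConv (A →ₐ[k] D)) :
    orbL (bcL φ l) (mapPt φ g) = mapPt (mT φ) (orbL l g) := by
  rw [orbL_apply, orbL_apply, map_mul, map_mul, map_inv, mapPt_cst_comm]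
  rfl

lemma bcL_conjL (u : WithConv (A →ₐ[k] D)) :
    bcL φ (conjL u l) = conjL (mapPt φ u) (bcL φ l) := by
  rw [conjL, conjL, bcL, bcL, map_mul, map_mul, map_inv, mapPt_cst_comm]

/-- polynomials are functorial -/
noncomputable abbrev mX : Polynomial D →ₐ[k] Polynomial E := Polynomial.mapAlgHom φ

lemma tl_comp_mX : (tl k E).comp (mX φ) = (mT φ).comp (tl k D) := by
  apply AlgHom.ext
  intro f
  induction f using Polynomial.induction_on' with
  | add p q hp hq => rw [map_add, hp, hq, map_add]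
  | monomial n a =>
    rw [AlgHom.comp_apply, AlgHom.comp_apply, tl_apply, tl_apply]
    change Polynomial.toLaurent (Polynomial.map (φ : D →+* E) (Polynomial.monomial n a)) = _
    rw [Polynomial.map_monomial, Polynomial.toLaurent_C_mul_T, Polynomial.toLaurent_C_mul_T,
      ← single_eq_C_mul_T, ← single_eq_C_mul_T, AddMonoidAlgebra.mapAlgHom_single]
    rfl

lemma cf_mX (n : ℕ) (x : WithConv (A →ₗ[k] Polynomial D)) :
    cf n (mapC (mX φ) x) = mapC φ (cf n x) := by
  apply WithConv.ofConv_injective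
  ext a
  change (Polynomial.map (φ : D →+* E) (x.ofConv a)).coeff n = φ ((x.ofConv a).coeff n)
  rw [Polynomial.coeff_map]
  rfl

lemma cfL_mT (n : ℤ) (x : WithConv (A →ₗ[k] D[T;T⁻¹])) :
    cfL n (mapC (mT φ) x) = mapC φ (cfL n x) := by
  apply WithConv.ofConv_injective
  ext a
  change (AddMonoidAlgebra.mapAlgHom ℤ φ (x.ofConv a)).coeff n = φ ((x.ofConv a).coeff n)
  simp

lemma Van.map {n : ℕ} {x : WithConv (A →ₗ[k] Polynomial D)} (hx : Van n x) :
    Van n (mapC (mX φ) x) := by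
  intro i hi
  rw [cf_mX, hx i hi, map_zero]

lemma mapPt_mem_PL {g : WithConv (A →ₐ[k] D)} (hg : g ∈ PL l) : mapPt φ g ∈ PL (bcL φ l) := by
  obtain ⟨h, hh⟩ := hg
  refine ⟨mapPt (mX φ) h, ?_⟩
  rw [orbL_bcL, ← hh, ← mapPt_comp (mX φ) (tl k E), ← mapPt_comp (tl k D) (mT φ), tl_comp_mX]

lemma mapPt_mem_FL {n : ℕ} {g : WithConv (A →ₐ[k] D)} (hg : g ∈ FL l n) :
    mapPt φ g ∈ FL (bcL φ l) n := by
  obtain ⟨h, h1, h2⟩ := mem_FL.1 hg
  refine mem_FL.2 ⟨mapPt (mX φ) h, ?_, ?_⟩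
  · have := h1.map φ
    rwa [map_sub, map_one, mapC_toCv] at this
  · rw [orbL_bcL, ← h2, ← mapPt_comp (mX φ) (tl k E), ← mapPt_comp (tl k D) (mT φ), tl_comp_mX]

lemma lead_bcL (n : ℕ) (g : WithConv (A →ₐ[k] D)) :
    lead (bcL φ l) n (mapPt φ g) = mapC φ (lead l n g) := by
  rw [lead, lead, orbL_bcL, ← mapC_toCv, cfL_mT]

lemma adL_bcL (δ : WithConv (A →ₗ[k] D)) :
    adL (bcL φ l) (mapC φ δ) = mapC (mT φ) (adL l δ) := by
  have e : mapC (mT φ) (mapC (cst k D) δ) = mapC (cst k E) (mapC φ δ) := by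
    rw [← mapC_comp (cst k D) (mT φ), map_comp_cst, mapC_comp]
  rw [adL, adL, map_mul, map_mul, mapC_toCv, mapC_toCv, e, map_inv (mapPt (mT φ)) l, bcL]

lemma TL.map {n : ℕ} {δ : WithConv (A →ₗ[k] D)} (h : TL l n δ) : TL (bcL φ l) n (mapC φ δ) := by
  obtain ⟨η, h1, h2⟩ := h.van
  refine ⟨h.der.map φ, mapC (mX φ) η, ?_, h2.map φ⟩
  rw [adL_bcL, ← h1, ← mapC_comp (mX φ) (tl k E), ← mapC_comp (tl k D) (mT φ), tl_comp_mX]

end Map

end Change

end Groth.Agent.Sga3B.Par.LFilt
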