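import Groth.Agent.Sga3B.Par.LFilt
import Mathlib.RingTheory.HopfAlgebra.TensorProduct
import Mathlib.RingTheory.HopfAlgebra.MonoidAlgebra

/-!
# Points of `A` over a `D`-algebra as points of `D ⊗ A` over `D`
-/

set_option autoImplicit false

open LaurentPolynomial TensorProduct WithConv
open Groth.Agent.Books.DynBasic Groth.Agent.Books.DynLim

universe u

namespace Groth.Agent.Sga3B.Par.LRes

open LFilt

section Res

variable {k : Type u} [CommRing k] {A : Type u} [CommRing A] [HopfAlgebra k A]
variable {D : Type u} [CommRing D] [Algebra k D]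
variable {E : Type u} [CommRing E] [Algebra k E] [Algebra D E] [IsScalarTower k D E]
variable {E' : Type u} [CommRing E'] [Algebra k E'] [Algebra D E'] [IsScalarTower k D E']

/-- the comultiplication of `1 ⊗ a` -/
lemma comul_one_tmul (a : A) (ι : Type*) (r : Coalgebra.Repr k a ι) :
    Coalgebra.comul (R := D) ((1 : D) ⊗ₜ[k] a) =
      ∑ i ∈ r.index, ((1 : D) ⊗ₜ[k] r.left i) ⊗ₜ[D] ((1 : D) ⊗ₜ[k] r.right i) := by
  rw [TensorProduct.comul_tmul, ← r.eq]
  simp only [CommSemiring.comul_apply, TensorProduct.tmul_sum, map_sum]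
  rfl

/-- restriction of functionals from `D ⊗ A` to `A` -/
noncomputable def res : WithConv ((D ⊗[k] A) →ₗ[D] E) →+* WithConv (A →ₗ[k] E) where
  toFun x := toConv ((x.ofConv.restrictScalars k) ∘ₗ (TensorProduct.mk k D A 1))
  map_one' := by
    apply WithConv.ofConv_injective
    ext a
    change algebraMap D E (Coalgebra.counit (R := D) ((1 : D) ⊗ₜ[k] a)) =
      algebraMap k E (Coalgebra.counit a)
    rw [TensorProduct.counit_tmul, CommSemiring.counit_apply, Algebra.smul_def, mul_one,
      ← IsScalarTower.algebraMap_apply]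
  map_zero' := rfl
  map_add' x y := rfl
  map_mul' x y := by
    apply WithConv.ofConv_injective
    ext a
    change (x * y).ofConv ((1 : D) ⊗ₜ[k] a) = _
    rw [(Coalgebra.Repr.arbitrary k a).convMul_apply, LinearMap.convMul_apply,
      comul_one_tmul a _ (Coalgebra.Repr.arbitrary k a)]
    simp

@[simp] lemma res_apply (x : WithConv ((D ⊗[k] A) →ₗ[D] E)) (a : A) :
    (res x).ofConv a = x.ofConv ((1 : D) ⊗ₜ[k] a) := rfl

lemma res_injective : Function.Injective (res (k := k) (A := A) (D := D) (E := E)) := by
  intro x y h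
  apply WithConv.ofConv_injective
  ext a
  exact DFunLike.congr_fun (congrArg WithConv.ofConv h) a

/-- extension of functionals from `A` to `D ⊗ A` -/
noncomputable def ext (x : WithConv (A →ₗ[k] E)) : WithConv ((D ⊗[k] A) →ₗ[D] E) :=
  toConv (TensorProduct.AlgebraTensorModule.lift
    { toFun := fun d => (LinearMap.lsmul D E d).restrictScalars k ∘ₗ x.ofConv
      map_add' := fun d e => by ext a; simp
      map_smul' := fun d e => by ext a; simp [mul_smul] })

@[simp] lemma ext_tmul (x : WithConv (A →ₗ[k] E)) (d : D) (a : A) :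
    (ext (D := D) x).ofConv (d ⊗ₜ a) = d • x.ofConv a := rfl

@[simp] lemma res_ext (x : WithConv (A →ₗ[k] E)) : res (ext (D := D) x) = x := by
  apply WithConv.ofConv_injective
  ext a
  rw [res_apply, ext_tmul, one_smul]

@[simp] lemma ext_res (x : WithConv ((D ⊗[k] A) →ₗ[D] E)) : ext (res x) = x :=
  res_injective (res_ext _)

/-- restriction of points from `D ⊗ A` to `A` -/
noncomputable def resPt : WithConv ((D ⊗[k] A) →ₐ[D] E) →* WithConv (A →ₐ[k] E) where
  toFun g := toConv ((g.ofConv.restrictScalars k).comp Algebra.TensorProduct.includeRight)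
  map_one' := by
    apply WithConv.ofConv_injective
    apply AlgHom.toLinearMap_injective
    have h := congrArg WithConv.ofConv (map_one (res (k := k) (A := A) (D := D) (E := E)))
    exact h
  map_mul' g h := by
    apply WithConv.ofConv_injective
    apply AlgHom.toLinearMap_injective
    have h := congrArg WithConv.ofConv (map_mul (res (k := k) (A := A) (D := D) (E := E))
      (toCv g) (toCv h))
    exact h

@[simp] lemma resPt_apply (g : WithConv ((D ⊗[k] A) →ₐ[D] E)) (a : A) :
    (resPt g).ofConv a = g.ofConv ((1 : D) ⊗ₜ[k] a) := rfl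

lemma toCv_resPt (g : WithConv ((D ⊗[k] A) →ₐ[D] E)) : toCv (resPt g) = res (toCv g) := rfl

lemma resPt_injective : Function.Injective (resPt (k := k) (A := A) (D := D) (E := E)) := by
  intro x y h
  apply WithConv.ofConv_injective
  apply AlgHom.toLinearMap_injective
  have h2 : res (toCv x) = res (toCv y) := by rw [← toCv_resPt, ← toCv_resPt, h]
  exact congrArg WithConv.ofConv (res_injective h2)

/-- extension of points from `A` to `D ⊗ A` -/
noncomputable def extPt (g : WithConv (A →ₐ[k] E)) : WithConv ((D ⊗[k] A) →ₐ[D] E) :=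
  toConv (Algebra.TensorProduct.productLeftAlgHom (Algebra.ofId D E) g.ofConv)

@[simp] lemma extPt_tmul (g : WithConv (A →ₐ[k] E)) (d : D) (a : A) :
    (extPt (D := D) g).ofConv (d ⊗ₜ a) = d • g.ofConv a := by
  change Algebra.TensorProduct.productLeftAlgHom (Algebra.ofId D E) g.ofConv (d ⊗ₜ a) = _
  rw [Algebra.TensorProduct.productLeftAlgHom, Algebra.TensorProduct.lift_tmul, Algebra.smul_def]
  rfl

@[simp] lemma resPt_extPt (g : WithConv (A →ₐ[k] E)) : resPt (extPt (D := D) g) = g := by
  apply WithConv.ofConv_injective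
  ext a
  rw [resPt_apply, extPt_tmul, one_smul]

@[simp] lemma extPt_resPt (g : WithConv ((D ⊗[k] A) →ₐ[D] E)) : extPt (resPt g) = g :=
  resPt_injective (resPt_extPt _)

lemma mapPt_resPt (φ : E →ₐ[D] E') (g : WithConv ((D ⊗[k] A) →ₐ[D] E)) :
    mapPt (φ.restrictScalars k) (resPt g) = resPt (mapPt φ g) := rfl

lemma mapC_res (φ : E →ₐ[D] E') (g : WithConv ((D ⊗[k] A) →ₗ[D] E)) :
    mapC (φ.restrictScalars k) (res g) = res (mapC φ g) := rfl

lemma isDer_res_iff (δ : WithConv ((D ⊗[k] A) →ₗ[D] E)) : IsDer (res δ) ↔ IsDer δ := by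
  constructor
  · intro h x y
    induction x using TensorProduct.induction_on with
    | zero => simp
    | add x x' hx hx' => simp only [add_mul, map_add, hx, hx', mul_add]; ring
    | tmul d a =>
      induction y using TensorProduct.induction_on with
      | zero => simp
      | add y y' hy hy' => simp only [add_mul, map_add, hy, hy', mul_add]; ring
      | tmul e b =>
        rw [Algebra.TensorProduct.tmul_mul_tmul]
        have h1 : ∀ (d : D) (a : A), δ.ofConv (d ⊗ₜ a) = d • (res δ).ofConv a := by
          intro d a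
          rw [res_apply, ← map_smul, TensorProduct.smul_tmul', smul_eq_mul, mul_one]
        rw [h1, h1, h1, h a b, TensorProduct.counit_tmul, TensorProduct.counit_tmul,
          CommSemiring.counit_apply, CommSemiring.counit_apply]
        simp only [Algebra.smul_def, map_mul, ← IsScalarTower.algebraMap_apply]
        ring
  · intro h a b
    have h1 := h ((1 : D) ⊗ₜ[k] a) ((1 : D) ⊗ₜ[k] b)
    rw [Algebra.TensorProduct.tmul_mul_tmul, one_mul, TensorProduct.counit_tmul,
      TensorProduct.counit_tmul, CommSemiring.counit_apply, Algebra.smul_def, mul_one,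
      Algebra.smul_def, mul_one, ← IsScalarTower.algebraMap_apply,
      ← IsScalarTower.algebraMap_apply] at h1
    exact h1

end Res

end Groth.Agent.Sga3B.Par.LRes
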