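import Groth.Agent.Sga3B.Par.RCHom742
import Groth.Agent.Sga3B.Par.LD742
import Groth.Agent.Sga3B.Par.DynCov383
import Groth.Agent.Sga3B.Par.ConjDyn895
import Groth.Agent.Sga3B.Par.CanSigns
import Groth.Agent.Sga3B.Parab.Func

/-!
# A parabolic subgroup over an affine base is `P_G(λ)`

Assembly: local canonical cocharacters, a finite étale cover, descent of the cocharacter.
-/

set_option autoImplicit false
set_option linter.unusedSectionVars false

universe u

open CategoryTheory MonoidalCategory CartesianMonoidalCategory MonObj GrpObj AlgebraicGeometry Limits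
open scoped LaurentPolynomial Polynomial TensorProduct
open WithConv
open Groth.Agent.Books.AffBridge Groth.Agent.Books.DynBasic Groth.Agent.Books.DynLim
open Groth.Agent.Sga3B.Parab Groth.Agent.Sga3B.Parab.Chart998 Groth.Agent.Sga3B.Parab.AffPts998
open Groth.Agent.Sga3B.Parab.Dyn998
open Groth.Agent.Sga3B.Parab.DynExist998 Groth.Agent.Sga3B.Parab.DynBc998
open Groth.Agent.Sga3B.Par.RelCoch742 Groth.Agent.Sga3B.Par.PiCoch742
open Groth.Agent.Sga3B.Par.RCOver742 Groth.Agent.Sga3B.Par.RCHom742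

namespace Groth.Agent.Sga3B.Par.LeviAsm742

/-- Descent of a cocharacter (statement). -/
def TStmt : Prop :=
  ∀ {A B H : Type u} [CommRing A] [CommRing B] [Algebra A B] [Module.FaithfullyFlat A B]
    [CommRing H] [HopfAlgebra A H] [Algebra.Smooth A H] (l : WithConv (H →ₐ[A] B[T;T⁻¹])),
    IsRC l →
    (∀ (C : Type u) [CommRing C] [Algebra A C] (φ : B →ₐ[A] C) (g : WithConv (H →ₐ[A] C)),
      LimExR l φ g) →
    (∀ (C : Type u) [CommRing C] [Algebra A C] (φ φ' : B →ₐ[A] C) (x : Cˣ),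
      LimOneR l φ (val l φ x * (val l φ' x)⁻¹)) →
    ∃ (l0 : WithConv (H →ₐ[A] A[T;T⁻¹])) (v : WithConv (H →ₐ[A] B)), IsRC l0 ∧
      bcC (Algebra.ofId A B) l0 = mapPt (cst A B) v * l * (mapPt (cst A B) v)⁻¹

section Conj

variable {A : Type u} [CommRing A] {B : Type u} [CommRing B] [Algebra A B]
variable {H : Type u} [CommRing H] [HopfAlgebra A H]
variable {Q : Over (Spec (CommRingCat.of B))} [GrpObj Q] (M : PtModel (sB A B) H Q)

lemma hid : Spec.map (CommRingCat.ofHom (AlgHom.id A B).toRingHom) =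
    𝟙 (Spec (CommRingCat.of B)) := Spec.map_id _

/-- A point of `H` with values in `B` as a section. -/
noncomputable def sec (v : WithConv (H →ₐ[A] B)) :
    𝟙_ (Over (Spec (CommRingCat.of B))) ⟶ Q :=
  M.E (hφ (hid (A := A) (B := B))) v

lemma conj_lc (l l' : Red.Gm (Spec (CommRingCat.of B)) ⟶ Q) (v : WithConv (H →ₐ[A] B))
    (h : lc M l' = mapPt (cst A B) v * lc M l * (mapPt (cst A B) v)⁻¹)
    (X : Over (Spec (CommRingCat.of B))) (t : X ⟶ Red.Gm (Spec (CommRingCat.of B))) :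
    t ≫ l' = (toUnit X ≫ sec M v) * (t ≫ l) * (toUnit X ≫ sec M v)⁻¹ := by
  apply hom_ext_aff
  intro C _ c z
  obtain ⟨a, ha⟩ := exists_uPt c (z ≫ t)
  rw [MonObj.comp_mul, MonObj.comp_mul, GrpObj.comp_inv, ← Category.assoc, ← Category.assoc,
    ← Category.assoc, ← ha]
  letI := ((Spec.preimage c).hom.comp (algebraMap A B)).toAlgebra
  let φ : B →ₐ[A] C := ⟨(Spec.preimage c).hom, fun a => rfl⟩
  have hφ' : Spec.map (CommRingCat.ofHom φ.toRingHom) = c := Spec.map_preimage c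
  have h1 : ∀ l : Red.Gm (Spec (CommRingCat.of B)) ⟶ Q,
      uPt c a ≫ l = M.E (hφ hφ') (val (lc M l) φ a) := by
    intro l
    rw [val_lc M l hφ' a, E_ev]
  have hz : (z ≫ toUnit X).left = Spec.map (CommRingCat.ofHom φ.toRingHom) := by
    rw [hφ']
    have h3 := Over.w (z ≫ toUnit X)
    change (z ≫ toUnit X).left ≫ 𝟙 _ = c at h3
    rw [Category.comp_id] at h3
    exact h3
  have h2 : (z ≫ toUnit X) ≫ sec M v = M.E (hφ hφ') (mapPt φ v) :=
    M.nat (hφ (hid (A := A) (B := B))) (hφ hφ') φ (z ≫ toUnit X) hz v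
  have h4 : val (mapPt (cst A B) v * lc M l * (mapPt (cst A B) v)⁻¹) φ a =
      mapPt φ v * val (lc M l) φ a * (mapPt φ v)⁻¹ := by
    have h5 : mapPt (evL φ a) (mapPt (cst A B) v) = mapPt φ v := by
      have h6 : (evL φ a).comp (cst A B) = φ := AlgHom.ext fun b => evL_C φ a b
      rw [mapPt_comp', h6]
    rw [val, map_mul, map_mul, map_inv, h5]
    rfl
  rw [h1, h1, h2, h, h4, map_mul, map_mul, map_inv]

end Conj

section Main

variable {A : Type u} [CommRing A] {G P : Over (Spec (CommRingCat.of A))} [GrpObj G] [GrpObj P]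
variable (p : P ⟶ G) {H : Type u} [CommRing H] [HopfAlgebra A H] (e : P ≅ SpecOver A H)
  [IsMonHom e.hom]

/-- Base change of splitting data (statement). -/
def BcStmt : Prop :=
  ∀ {B C : Type u} [CommRing B] [Algebra A B] [CommRing C] [Algebra A C] (φ : B →ₐ[A] C)
    (L : LD (sB A B) p), ∃ L' : LD (sB A C) p,
      L'.co.left ≫ pullback.fst P.hom (sB A C) =
      (bcLam L.co (Spec.map (CommRingCat.ofHom φ.toRingHom))).left ≫
        pullback.fst (Red.bc (sB A B) P).hom (Spec.map (CommRingCat.ofHom φ.toRingHom)) ≫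
        pullback.fst P.hom (sB A B)

/-- The canonical cocharacters have all limits and agree modulo the unipotent radical
(statement). -/
def AgStmt : Prop :=
  ∀ {C : Type u} [CommRing C] [Algebra A C] (L₁ L₂ : LD (sB A C) p),
    IsDynP L₁.co (𝟙 (Red.bc (sB A C) P)) ∧
    ∀ (X : Over (Spec (CommRingCat.of C))) (t : X ⟶ Red.Gm _),
      PtU L₁.co ((t ≫ L₁.co) * (t ≫ L₂.co)⁻¹)

/-- Local existence of splitting data (statement). -/
def LocStmt : Prop :=
  ∀ s : Spec (CommRingCat.of A), ∃ (B : Type u) (_ : CommRing B) (_ : Algebra A B),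
    Algebra.Etale A B ∧ s ∈ Set.range (sB A B) ∧ Nonempty (LD (sB A B) p)

variable {p}

section Data

variable {B : Type u} [CommRing B] [Algebra A B] {C : Type u} [CommRing C] [Algebra A C]

/-- The relative cocharacter of splitting data. -/
noncomputable def rc (L : LD (sB A B) p) : WithConv (H →ₐ[A] B[T;T⁻¹]) :=
  lc (bcModel (sB A B) e) L.co

lemma isMonHom_co [IsMonHom p] [Mono p] (L : LD (sB A B) p) : IsMonHom L.co := by
  have h1 : IsMonHom (L.co ≫ (Over.pullback (sB A B)).map p) := by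
    rw [L.co_comp]
    infer_instance
  exact DynLevi998.isMonHom_of_comp_mono (p := (Over.pullback (sB A B)).map p)

lemma isRC_rc [IsMonHom p] [Mono p] (L : LD (sB A B) p) : IsRC (rc e L) := by
  have := isMonHom_co L
  exact isRC_lc _ _

lemma limExR_rc (hA : AgStmt p) (L : LD (sB A B) p) (φ : B →ₐ[A] C) (g : WithConv (H →ₐ[A] C)) :
    LimExR (rc e L) φ g := by
  rw [rc, limExR_lc (bcModel (sB A B) e) L.co rfl]
  exact ptP_iff.1 (((hA L L).1.iff_ptP _ _).1 ⟨_, Category.comp_id _⟩)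

variable {D : Type u} [CommRing D] [Algebra A D]

lemma hu_rc (hB : BcStmt p) (hA : AgStmt p) (L : LD (sB A B) p) (L' : LD (sB A D) p)
    (φ : B →ₐ[A] C) (φ' : D →ₐ[A] C) (x : Cˣ) :
    LimOneR (rc e L) φ (val (rc e L) φ x * (val (rc e L') φ' x)⁻¹) := by
  obtain ⟨L₁, h₁⟩ := hB φ L
  obtain ⟨L₂, h₂⟩ := hB φ' L'
  have e₁ : rc e L₁ = bcC φ (rc e L) := lc_bc e φ L.co L₁.co h₁
  have e₂ : rc e L₂ = bcC φ' (rc e L') := lc_bc e φ' L'.co L₂.co h₂
  have v₁ : val (rc e L) φ x = val (rc e L₁) (AlgHom.id A C) x := by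
    rw [e₁, ← val_comp, AlgHom.id_comp]
  have v₂ : val (rc e L') φ' x = val (rc e L₂) (AlgHom.id A C) x := by
    rw [e₂, ← val_comp, AlgHom.id_comp]
  have h3 := limOneR_comp (rc e L) φ (AlgHom.id A C)
    (val (rc e L) φ x * (val (rc e L') φ' x)⁻¹)
  rw [AlgHom.id_comp] at h3
  rw [h3, ← e₁, v₁, v₂, rc, limOneR_lc (bcModel (sB A C) e) L₁.co (hid (A := A) (B := C)), map_mul,
    map_inv, rc, val_lc _ _ (hid (A := A) (B := C)), val_lc _ _ (hid (A := A) (B := C)), E_ev, E_ev]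
  exact ptU_iff.1 ((hA L₁ L₂).2 _ _)

end Data

/-- the model of an affine group over the base -/
noncomputable def idM : PtModel (sB A A) H P where
  E {C _ _ c} hc := (idModel e).E (c := c) (hc.trans (by
    have : sB A A = 𝟙 _ := Spec.map_id _
    rw [this]))
  nat {C D _ _ _ _ c d} hc hd ψ t ht g := (idModel e).nat _ _ ψ t ht g

include e in
/-- **A parabolic subgroup over an affine base is `P_G(λ)`.** -/
theorem main [IsAffineHom G.hom] [IsMonHom p] [IsClosedImmersion p.left] [Mono p]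
    [Algebra.Smooth A H] (hT : TStmt.{u}) (hB : BcStmt p) (hA : AgStmt p) (hL : LocStmt p) :
    ∃ (lam : Red.Gm (Spec (CommRingCat.of A)) ⟶ G), IsMonHom lam ∧ IsDynP lam p := by
  obtain ⟨n, B, _, _, -, hB', hff, hcov⟩ :=
    DynCov383.exists_finite_etale (fun B _ _ => Nonempty (LD (sB A B) p)) hL
  let L := fun i => (hB' i).some
  obtain ⟨l0, v, h0, hv⟩ := hT (glue fun i => rc e (L i))
    (isRC_glue fun i => isRC_rc e (L i))
    (fun C _ _ φ g => limExR_glue (fun i C _ _ φ g => limExR_rc e hA (L i) φ g) φ g)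
    (fun C _ _ φ φ' x => hu_glue (fun i j C _ _ φ φ' x => hu_rc e hB hA (L i) (L j) φ φ' x)
      φ φ' x)
  let lam0 : Red.Gm (Spec (CommRingCat.of A)) ⟶ P := ofRC (idM e) l0
  have hlam0 : IsMonHom lam0 := isMonHom_ofRC (idM e) h0
  refine ⟨lam0 ≫ p, inferInstance, ?_⟩
  refine DynCov383.isDynP_of_cov hcov (lam0 ≫ p) p fun i => ?_
  rw [bcLam_comp]
  refine ConjDyn895.conj_isDynP _ (sec (bcModel (sB A (B i)) e) (mapPt (Pi.evalAlgHom A B i) v))
    (L i).co _ (conj_lc (bcModel (sB A (B i)) e) _ _ _ ?_) ?_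
  · have h1 := lc_bcLam (B := B i) e (idM e) (fun hc hc' g => rfl) lam0
    have h2 : bcC (Algebra.ofId A (B i)) l0 = bcC (Pi.evalAlgHom A B i)
        (bcC (Algebra.ofId A (∀ i, B i)) l0) := by
      have h5 : (AddMonoidAlgebra.mapAlgHom ℤ (Pi.evalAlgHom A B i)).comp
          (AddMonoidAlgebra.mapAlgHom ℤ (Algebra.ofId A (∀ i, B i))) =
          (AddMonoidAlgebra.mapAlgHom ℤ (Algebra.ofId A (B i)) :
            A[T;T⁻¹] →ₐ[A] (B i)[T;T⁻¹]) := by
        refine AlgHom.ext fun f => ?_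
        ext n
        change (AddMonoidAlgebra.mapAlgHom ℤ (Pi.evalAlgHom A B i)
          (AddMonoidAlgebra.mapAlgHom ℤ (Algebra.ofId A (∀ i, B i)) f)).coeff n = _
        rw [AddMonoidAlgebra.coeff_mapAlgHom, AddMonoidAlgebra.coeff_mapAlgHom,
          AddMonoidAlgebra.coeff_mapAlgHom]
        rfl
      rw [bcC, bcC, bcC, mapPt_comp', h5]
    refine h1.trans ?_
    rw [lc_ofRC, h2, hv, bcC, map_mul, map_mul, map_inv]
    have h3 : mapPt (AddMonoidAlgebra.mapAlgHom ℤ (Pi.evalAlgHom A B i))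
        (glue fun i => rc e (L i)) = rc e (L i) := bcC_glue _ i
    have h4 : mapPt (AddMonoidAlgebra.mapAlgHom ℤ (Pi.evalAlgHom A B i))
        (mapPt (cst A (∀ i, B i)) v) = mapPt (cst A (B i)) (mapPt (Pi.evalAlgHom A B i) v) := by
      rw [mapPt_comp', mapPt_comp', map_comp_cst]
    rw [h3, h4]
    rfl
  · rw [(L i).co_comp]
    exact isDynP_can_iff.2 (L i).dyn

end Main

end Groth.Agent.Sga3B.Par.LeviAsm742
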