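import Groth.Agent.Sga3B.Par.LeviProj
import Groth.Agent.Sga3B.Par.EtGlue
import Groth.Prelude.Def_Red2

/-!
# Conjugacy of Levi subgroups: the pointwise argument and the gluing
-/

set_option autoImplicit false

universe u

open CategoryTheory MonoidalCategory CartesianMonoidalCategory AlgebraicGeometry
open scoped MonObj

namespace Groth.Agent.Sga3B.Par.LeviConj

open LeviProj

variable {S : Scheme.{u}} {P U L L' : Over S} [GrpObj P] [GrpObj U] [GrpObj L] [GrpObj L']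

/-- `v` conjugates `l` into `l'` (through the canonical isomorphism), after any base change. -/
def Good {l : L ⟶ P} {l' : L' ⟶ P} {u : U ⟶ P} (_h : IsSemi l u) (h' : IsSemi l' u)
    {X : Over S} (v : X ⟶ U) : Prop :=
  ∀ (X' : Over S) (x : X' ⟶ X) (a : X' ⟶ L),
    (x ≫ v ≫ u) * (a ≫ l) * (x ≫ v ≫ u)⁻¹ = a ≫ l ≫ prL h' ≫ l'

variable {l : L ⟶ P} {l' : L' ⟶ P} {u : U ⟶ P} (h : IsSemi l u) (h' : IsSemi l' u)

lemma Good.comp {X Y : Over S} {v : X ⟶ U} (hv : Good h h' v) (y : Y ⟶ X) : Good h h' (y ≫ v) := by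
  intro X' x a
  have := hv X' (x ≫ y) a
  simpa only [Category.assoc] using this

variable {X M : Over S} (m : M ⟶ X)

/-- an element of `U` over `X` commuting with the family `λ : M ⟶ P` (`M ⟶ X`) is trivial -/
def Triv (m : M ⟶ X) (lam : M ⟶ P) (u : U ⟶ P) : Prop :=
  ∀ (Y : Over S) (y : Y ⟶ X) (b : Y ⟶ U), (∀ (Y' : Over S) (x : Y' ⟶ Y) (t : Y' ⟶ M),
    t ≫ m = x ≫ y → (x ≫ b ≫ u) * (t ≫ lam) = (t ≫ lam) * (x ≫ b ≫ u)) → b = 1

/-- `λ` commutes with `L` -/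
def Comm (lam : M ⟶ P) (l : L ⟶ P) : Prop :=
  ∀ (Y : Over S) (a : Y ⟶ L) (t : Y ⟶ M), (a ≫ l) * (t ≫ lam) = (t ≫ lam) * (a ≫ l)

variable {lam : M ⟶ P}

include h in
/-- existence: the element conjugating `λ` into `λ' = l' ∘ pr ∘ λ` conjugates `L` into `L'`. -/
lemma good_of_conj (hc : Comm lam l) (ht : Triv m lam u) (v : X ⟶ U)
    (hv : ∀ (Y : Over S) (t : Y ⟶ M),
      (t ≫ m ≫ v ≫ u) * (t ≫ lam) * (t ≫ m ≫ v ≫ u)⁻¹ = t ≫ lam ≫ prL h' ≫ l') :
    Good h h' v := by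
  have := h.monHom_u
  have := h.monHom_l
  have := h'.monHom_l
  have := h.mono_u
  intro X' x a
  -- the two sides have the same projection
  have h1 : ((x ≫ v ≫ u) * (a ≫ l) * (x ≫ v ≫ u)⁻¹) ≫ prL h' =
      (a ≫ l ≫ prL h' ≫ l') ≫ prL h' := by
    rw [mul_prL, mul_prL, GrpObj.inv_comp]
    have e1 : (x ≫ v ≫ u) ≫ prL h' = 1 := by
      have := u_prL h' (x ≫ v)
      rwa [Category.assoc] at this
    rw [e1, one_mul, inv_one, mul_one]
    simp only [Category.assoc, l_prL, Category.comp_id]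
  obtain ⟨n, hn⟩ := (prL_eq_iff h' _ _).1 h1
  -- `n` commutes with `λ'`
  have h2 : ∀ (Y : Over S) (y : Y ⟶ X') (t : Y ⟶ M), t ≫ m = y ≫ x →
      (y ≫ n ≫ u) * (t ≫ lam ≫ prL h' ≫ l') = (t ≫ lam ≫ prL h' ≫ l') * (y ≫ n ≫ u) := by
    intro Y y t hty
    have e1 : (y ≫ a ≫ l ≫ prL h' ≫ l') * (t ≫ lam ≫ prL h' ≫ l') =
        (t ≫ lam ≫ prL h' ≫ l') * (y ≫ a ≫ l ≫ prL h' ≫ l') := by
      have e := congrArg (· ≫ prL h' ≫ l') (hc Y (y ≫ a) t)
      simp only [MonObj.mul_comp, Category.assoc] at e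
      exact e
    have hv' := hv Y t
    rw [← Category.assoc t m, hty] at hv'
    have e2 : (y ≫ ((x ≫ v ≫ u) * (a ≫ l) * (x ≫ v ≫ u)⁻¹)) * (t ≫ lam ≫ prL h' ≫ l') =
        (t ≫ lam ≫ prL h' ≫ l') * (y ≫ ((x ≫ v ≫ u) * (a ≫ l) * (x ≫ v ≫ u)⁻¹)) := by
      rw [← hv', MonObj.comp_mul, MonObj.comp_mul, GrpObj.comp_inv]
      have e := hc Y (y ≫ a) t
      simp only [Category.assoc] at e ⊢
      calc _ = (y ≫ x ≫ v ≫ u) * ((y ≫ a ≫ l) * (t ≫ lam)) * (y ≫ x ≫ v ≫ u)⁻¹ := by group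
        _ = _ := by rw [e]; group
    have e3 : y ≫ n ≫ u = (y ≫ a ≫ l ≫ prL h' ≫ l')⁻¹ *
        (y ≫ ((x ≫ v ≫ u) * (a ≫ l) * (x ≫ v ≫ u)⁻¹)) := by
      rw [hn, MonObj.comp_mul]
      group
    rw [e3, mul_assoc, e2, ← mul_assoc, ← mul_assoc]
    congr 1
    rw [inv_mul_eq_iff_eq_mul, ← mul_assoc, e1]
    group
  -- `v⁻¹ n v` commutes with `λ`
  obtain ⟨n', hn'⟩ := h.normal X' (x ≫ v ≫ u)⁻¹ n
  have h3 : n' = 1 := by
    apply ht X' x
    intro Y y t hty
    have e := h2 Y y t hty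
    have hv' := hv Y t
    rw [← Category.assoc t m, hty] at hv'
    rw [← hv'] at e
    rw [← hn']
    simp only [MonObj.comp_mul, GrpObj.comp_inv, Category.assoc, inv_inv] at e ⊢
    have e4 : (y ≫ x ≫ v ≫ u)⁻¹ * (y ≫ n ≫ u) * (y ≫ x ≫ v ≫ u) * (t ≫ lam) =
        (y ≫ x ≫ v ≫ u)⁻¹ * ((y ≫ n ≫ u) * ((y ≫ x ≫ v ≫ u) * (t ≫ lam) * (y ≫ x ≫ v ≫ u)⁻¹)) *
          (y ≫ x ≫ v ≫ u) := by group
    rw [e4, e]
    group
  have h4 : n ≫ u = 1 := by
    have e : (x ≫ v ≫ u)⁻¹ * (n ≫ u) * (x ≫ v ≫ u)⁻¹⁻¹ = 1 := by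
      rw [hn', h3]
      exact MonObj.one_comp u
    rw [inv_inv] at e
    rw [mul_eq_one_iff_eq_inv, inv_mul_eq_iff_eq_mul, mul_inv_cancel] at e
    exact e
  rw [hn, h4, mul_one]

include h in
/-- uniqueness -/
lemma Good.unique (hcL : ∃ lamL : M ⟶ L, lamL ≫ l = lam) (ht : Triv m lam u) {Y : Over S}
    (y : Y ⟶ X) {v v' : Y ⟶ U} (hv : Good h h' v) (hv' : Good h h' v') : v = v' := by
  have := h.monHom_u
  obtain ⟨lamL, rfl⟩ := hcL
  have h1 : v'⁻¹ * v = 1 := by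
    apply ht Y y
    intro Y' y' t _
    have e := (hv Y' y' (t ≫ lamL)).trans (hv' Y' y' (t ≫ lamL)).symm
    rw [MonObj.mul_comp, MonObj.comp_mul, GrpObj.inv_comp, GrpObj.comp_inv]
    simp only [Category.assoc] at e ⊢
    rw [mul_inv_eq_iff_eq_mul] at e
    rw [mul_assoc, e]
    group
  exact (inv_mul_eq_one.1 h1).symm

/-- local data around a point of the base, sufficient for the conjugacy of `l` and `l'` -/
structure LocData (h : IsSemi l u) (h' : IsSemi l' u) (s : S) where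
  /-- the étale neighbourhood -/
  S' : Scheme.{u}
  /-- its structure morphism -/
  f : S' ⟶ S
  flat : Flat f
  lfp : LocallyOfFinitePresentation f
  mem : s ∈ Set.range f
  /-- the multiplicative group over `S'` -/
  M : Over S
  /-- its structure morphism -/
  m : M ⟶ Over.mk f
  /-- the cocharacter -/
  lam : M ⟶ P
  comm : Comm lam l
  fac : ∃ lamL : M ⟶ L, lamL ≫ l = lam
  triv : Triv m lam u
  exists_conj : ∃ v : Over.mk f ⟶ U, ∀ (Y : Over S) (t : Y ⟶ M),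
      (t ≫ m ≫ v ≫ u) * (t ≫ lam) * (t ≫ m ≫ v ≫ u)⁻¹ = t ≫ lam ≫ prL h' ≫ l'

section Glue

variable (D : ∀ s : S, LocData h h' s)

include D in
lemma over_hom_ext {Y Z : Over S} {a b : Y ⟶ Z}
    (hab : ∀ s : S, ∀ (Y' : Over S) (y : Y' ⟶ Y) (_ : Y' ⟶ Over.mk (D s).f), y ≫ a = y ≫ b) :
    a = b := by
  have := fun s => (D s).flat
  have := fun s => (D s).lfp
  apply Over.OverMorphism.ext
  apply EtGlue.hom_ext (fun s : S => Limits.pullback.fst Y.hom (D s).f)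
  · intro y
    obtain ⟨x, hx⟩ := (D (Y.hom y)).mem
    refine ⟨Y.hom y, ?_⟩
    obtain ⟨z, hz1, hz2⟩ := Scheme.Pullback.exists_preimage_pullback y x hx.symm
    exact ⟨z, hz1⟩
  · intro s
    have h1 := hab s (Over.mk (Limits.pullback.fst Y.hom (D s).f ≫ Y.hom))
      (Over.homMk (Limits.pullback.fst Y.hom (D s).f) rfl)
      (Over.homMk (Limits.pullback.snd Y.hom (D s).f) Limits.pullback.condition.symm)
    exact congrArg Over.Hom.left h1

include D in
lemma Good.unique' {Y : Over S} {v v' : Y ⟶ U} (hv : Good h h' v) (hv' : Good h h' v') :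
    v = v' := by
  apply over_hom_ext h h' D
  intro s Y' y z
  exact Good.unique h h' (D s).m (D s).fac (D s).triv z (hv.comp h h' y) (hv'.comp h h' y)

include D in
theorem exists_good : ∃ v : 𝟙_ (Over S) ⟶ U, Good h h' v := by
  have := fun s => (D s).flat
  have := fun s => (D s).lfp
  have h1 : ∀ s, ∃ v : Over.mk (D s).f ⟶ U, Good h h' v := by
    intro s
    obtain ⟨v, hv⟩ := (D s).exists_conj
    exact ⟨v, good_of_conj h h' (D s).m (D s).comm (D s).triv v hv⟩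
  choose v hv using h1
  obtain ⟨t, ht, -⟩ := EtGlue.existsUnique_glue (fun s : S => (D s).f)
    (fun s => ⟨s, (D s).mem⟩) (fun s => (v s).left) (by
      intro i j T a b hab
      have e := Good.unique' h h' D
        ((hv i).comp h h' (Over.homMk a rfl : Over.mk (a ≫ (D i).f) ⟶ Over.mk (D i).f))
        ((hv j).comp h h' (Over.homMk b hab.symm : Over.mk (a ≫ (D i).f) ⟶ Over.mk (D j).f))
      exact congrArg Over.Hom.left e)
  have ht2 : t ≫ U.hom = 𝟙 S := by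
    apply EtGlue.hom_ext (fun s : S => (D s).f) (fun s => ⟨s, (D s).mem⟩)
    intro s
    rw [← Category.assoc, ht s, Category.comp_id]
    exact Over.w (v s)
  let tt : 𝟙_ (Over S) ⟶ U := Over.homMk t ht2
  refine ⟨tt, ?_⟩
  intro X' x a
  apply over_hom_ext h h' D
  intro s Y y z
  have h2 : z ≫ v s = y ≫ x ≫ tt := by
    apply Over.OverMorphism.ext
    change z.left ≫ (v s).left = y.left ≫ x.left ≫ t
    have hx : x.left = X'.hom := by
      have := Over.w x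
      simpa using this
    have hz : z.left ≫ (D s).f = Y.hom := Over.w z
    have hy : y.left ≫ X'.hom = Y.hom := Over.w y
    rw [hx, ← ht s, ← Category.assoc, ← Category.assoc, hz, hy]
  have h3 := hv s Y z (y ≫ a)
  rw [← Category.assoc z, h2] at h3
  rw [MonObj.comp_mul, MonObj.comp_mul, GrpObj.comp_inv]
  simpa only [Category.assoc] using h3

include D in
/-- **S2996** from the local data. -/
theorem existsUnique_levi_conj :
    ∃! x : 𝟙_ (Over S) ⟶ U, ∃ e : L ≅ L',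
      e.hom ≫ l' = (toUnit L ≫ x ≫ u) * l * (toUnit L ≫ x ≫ u)⁻¹ := by
  have := h.monHom_u
  obtain ⟨v, hv⟩ := exists_good h h' D
  refine ⟨v, ⟨leviIso h h', ?_⟩, ?_⟩
  · have h1 := hv L (toUnit L) (𝟙 L)
    rw [Category.id_comp, Category.id_comp] at h1
    rw [h1]
    simp only [leviIso, Category.assoc]
  · rintro v' ⟨e, he⟩
    have h1 : e.hom = l ≫ prL h' := by
      have h2 := congrArg (· ≫ prL h') he
      have e1 : (toUnit L ≫ v' ≫ u) ≫ prL h' = 1 := by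
        have := u_prL h' (toUnit L ≫ v')
        rwa [Category.assoc] at this
      simp only [Category.assoc, l_prL, Category.comp_id] at h2
      rw [h2, mul_prL, mul_prL, GrpObj.inv_comp, e1, one_mul, inv_one, mul_one]
    apply Good.unique' h h' D _ hv
    intro X' x a
    have h2 := congrArg (a ≫ ·) he
    simp only [MonObj.comp_mul, GrpObj.comp_inv, h1, Category.assoc] at h2
    have h3 : a ≫ toUnit L = x := toUnit_unique _ _
    rw [← Category.assoc a (toUnit L), h3] at h2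
    exact h2.symm

end Glue

end Groth.Agent.Sga3B.Par.LeviConj
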