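import Groth.Agent.Books.DynLim

/-!
# Conjugacy of splittings

Let `H` be an affine group over a ring `k`, `λ : Gm → H` with `P_H(λ) = H`, and `μ : Gm → H` with
`μ(t) λ(t)⁻¹ ∈ U_H(λ)`. Then there is exactly one `u ∈ U_H(λ)(k)` with `μ = u λ u⁻¹`.
-/

set_option autoImplicit false

open LaurentPolynomial TensorProduct WithConv
open Groth.Agent.Books.DynBasic Groth.Agent.Books.DynLim

universe u

namespace Groth.Agent.Sga3B.Par.SplitConj

section RightCoaction

variable {k : Type u} [CommRing k] {A : Type u} [CommRing A] [HopfAlgebra k A]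
variable (lam : A →ₐc[k] k[T;T⁻¹])
variable {R : Type u} [CommRing R] [Algebra k R]
variable {S : Type u} [CommRing S] [Algebra k S]

/-- `g ↦ g λ(T)` on points -/
noncomputable def rtPt (g : WithConv (A →ₐ[k] R)) : WithConv (A →ₐ[k] R[T;T⁻¹]) :=
  mapPt (cst k R) g * lamU lam (uT R)

lemma rtPt_mapPt (φ : R →ₐ[k] S) (g : WithConv (A →ₐ[k] R)) :
    rtPt lam (mapPt φ g) = mapPt (AddMonoidAlgebra.mapAlgHom ℤ φ) (rtPt lam g) := by
  simp only [rtPt, map_mul, mapPt_lamU, map_uT]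
  congr 1
  change toConv ((cst k S).comp (φ.comp g.ofConv)) =
    toConv ((AddMonoidAlgebra.mapAlgHom ℤ φ).comp ((cst k R).comp g.ofConv))
  rw [← AlgHom.comp_assoc, ← AlgHom.comp_assoc, map_comp_cst]

/-- the coaction `A → A[T;T⁻¹]` given by right translation by `λ` -/
noncomputable def rt : A →ₐ[k] A[T;T⁻¹] := (rtPt lam (toConv (AlgHom.id k A))).ofConv

lemma rtPt_eq (g : WithConv (A →ₐ[k] R)) :
    rtPt lam g = toConv ((AddMonoidAlgebra.mapAlgHom ℤ g.ofConv).comp (rt lam)) :=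
  rtPt_mapPt lam g.ofConv (toConv (AlgHom.id k A))

/-- the component of degree `n` for the right translation -/
noncomputable def prr (n : ℤ) : A →ₗ[k] A where
  toFun a := (rt lam a).coeff n
  map_add' a b := by simp
  map_smul' c a := by simp

lemma prr_def (n : ℤ) (a : A) : prr lam n a = (rt lam a).coeff n := rfl

lemma mul_lamU_eq (x : Rˣ) (g : WithConv (A →ₐ[k] R)) :
    g * lamU lam x = mapPt (evR x) (rtPt lam g) := by
  rw [rtPt, map_mul, mapPt_lamU]
  have h1 : Units.map ((evR (k := k) x : R[T;T⁻¹] →ₐ[k] R) : R[T;T⁻¹] →* R) (uT R) = x := by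
    ext1
    change evU R x (T 1) = x
    simp
  rw [h1]
  congr 1
  change g = toConv ((evR (k := k) x).comp ((cst k R).comp g.ofConv))
  rw [← AlgHom.comp_assoc, evR_comp_cst]
  rfl

lemma mul_lamU_apply (x : Rˣ) (g : WithConv (A →ₐ[k] R)) (a : A) :
    (g * lamU lam x).ofConv a =
      (rt lam a).coeff.sum fun n b => g.ofConv b * ((x ^ n : Rˣ) : R) := by
  rw [mul_lamU_eq, rtPt_eq, mapPt_apply]
  change evR x (AddMonoidAlgebra.mapAlgHom ℤ g.ofConv (rt lam a)) = _
  generalize rt lam a = f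
  rw [evR_apply]
  induction f using LaurentPolynomial.induction_on' with
  | add p q hp hq =>
    rw [map_add, AddMonoidAlgebra.coeff_add, AddMonoidAlgebra.coeff_add, Finsupp.sum_add_index,
      Finsupp.sum_add_index, hp, hq]
    all_goals intros
    all_goals simp [add_mul]
  | C_mul_T n a =>
    rw [← single_eq_C_mul_T, AddMonoidAlgebra.mapAlgHom_single]
    simp [-single_eq_C_mul_T]

/-- `a = ∑ aₙ` -/
lemma sum_prr (a : A) : ((rt lam a).coeff.sum fun _ b => b) = a := by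
  have h := mul_lamU_apply lam (1 : Aˣ) (toConv (AlgHom.id k A)) a
  rw [map_one, mul_one] at h
  simpa using h.symm

/-- the element `s * t` where `s` is the outer variable and `t` the inner one -/
lemma val_mul_zpow (m : ℤ) :
    (((uT R[T;T⁻¹] * Units.map (cst k R[T;T⁻¹] : _ →* _) (uT R)) ^ m : R[T;T⁻¹][T;T⁻¹]ˣ) :
      R[T;T⁻¹][T;T⁻¹]) = C (T m) * T m := by
  rw [mul_zpow, Units.val_mul, uT_zpow, ← map_zpow, Units.coe_map, uT_zpow, T_mul]
  rfl

/-- `aₙ` is homogeneous of degree `n`. -/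
lemma rt_prr (n : ℤ) (a : A) : rt lam (prr lam n a) = C (prr lam n a) * T n := by
  have h1 : mapPt ((cst k A[T;T⁻¹]).comp (cst k A)) (toConv (AlgHom.id k A)) *
      lamU lam (Units.map (cst k A[T;T⁻¹] : _ →* _) (uT A) * uT A[T;T⁻¹]) =
      rtPt lam (toConv (rt lam)) := by
    rw [map_mul, ← mul_assoc]
    congr 1
    rw [← mapPt_lamU, mapPt_comp, ← map_mul]
    rfl
  rw [rtPt_eq, mul_comm] at h1
  have h3 := DFunLike.congr_fun (congrArg WithConv.ofConv h1) a
  rw [mul_lamU_apply] at h3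
  have h4 := congrArg (fun f => f.coeff n) h3
  simp only [AlgHom.comp_apply, AddMonoidAlgebra.coeff_mapAlgHom] at h4
  rw [← prr_def] at h4
  rw [← h4]
  rw [Finsupp.sum, AddMonoidAlgebra.coeff_sum, Finset.sum_apply']
  rw [Finset.sum_eq_single n]
  · rw [val_mul_zpow]
    change (C (C ((rt lam a).coeff n)) * (C (T n) * T n)).coeff n = _
    rw [← mul_assoc, ← map_mul, ← single_eq_C_mul_T, AddMonoidAlgebra.coeff_single,
      Finsupp.single_eq_same]
    rfl
  · intro m _ hm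
    rw [val_mul_zpow]
    change (C (C ((rt lam a).coeff m)) * (C (T m) * T m)).coeff n = _
    rw [← mul_assoc, ← map_mul, ← single_eq_C_mul_T, AddMonoidAlgebra.coeff_single,
      Finsupp.single_eq_of_ne hm.symm]
  · intro hn
    rw [Finsupp.notMem_support_iff] at hn
    rw [hn]
    simp

lemma prr_prr (m n : ℤ) (a : A) : prr lam m (prr lam n a) = if n = m then prr lam n a else 0 := by
  rw [prr_def lam m, rt_prr, ← single_eq_C_mul_T, AddMonoidAlgebra.coeff_single,
    Finsupp.single_apply]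

lemma mul_lamU_prr (x : Rˣ) (g : WithConv (A →ₐ[k] R)) (n : ℤ) (a : A) :
    (g * lamU lam x).ofConv (prr lam n a) = g.ofConv (prr lam n a) * ((x ^ n : Rˣ) : R) := by
  rw [mul_lamU_apply, rt_prr, ← single_eq_C_mul_T, AddMonoidAlgebra.coeff_single,
    Finsupp.sum_single_index (by simp)]

/-- only finitely many components are nonzero; evaluation of a sum of components -/
lemma sum_prr' (a : A) : (∑ n ∈ (rt lam a).coeff.support, prr lam n a) = a := sum_prr lam a

end RightCoaction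

section Two

variable {k : Type u} [CommRing k] {A : Type u} [CommRing A] [HopfAlgebra k A]
variable (lam mu : A →ₐc[k] k[T;T⁻¹])
variable {R : Type u} [CommRing R] [Algebra k R]
variable {S : Type u} [CommRing S] [Algebra k S]

/-- the cocycle `μ(x) λ(x)⁻¹` -/
noncomputable def cc (x : Rˣ) : WithConv (A →ₐ[k] R) := lamU mu x * (lamU lam x)⁻¹

lemma mapPt_cc (φ : R →ₐ[k] S) (x : Rˣ) :
    mapPt φ (cc lam mu x) = cc lam mu (Units.map (φ : R →* S) x) := by
  simp only [cc, map_mul, map_inv, mapPt_lamU]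

lemma cc_mul_lamU (x : Rˣ) : cc lam mu x * lamU lam x = lamU mu x := by
  simp [cc]

lemma cc_mul (x y : Rˣ) : cc lam mu (x * y) = cc lam mu x * orb lam x (cc lam mu y) := by
  simp only [cc, map_mul, mul_inv_rev, orb_apply]
  simp [mul_assoc]

lemma mapPt_USub (φ : R →ₐ[k] S) {g : WithConv (A →ₐ[k] R)} (hg : g ∈ USub lam R) :
    mapPt φ g ∈ USub lam S := by
  rw [mem_USub, limIsOne_iff] at hg ⊢
  refine ⟨fun n hn a => ?_, fun a => ?_⟩
  · change φ (g.ofConv (pr lam n a)) = 0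
    rw [hg.1 n hn a, map_zero]
  · change φ (g.ofConv (pr lam 0 a)) = _
    rw [hg.2 a, AlgHom.commutes]

lemma mapPt_PSub (φ : R →ₐ[k] S) {g : WithConv (A →ₐ[k] R)} (hg : g ∈ PSub lam R) :
    mapPt φ g ∈ PSub lam S := by
  rw [mem_PSub, limExists_iff] at hg ⊢
  intro n hn a
  change φ (g.ofConv (pr lam n a)) = 0
  rw [hg n hn a, map_zero]

lemma coeff_mul_CT (q : R[T;T⁻¹]) (c : R) (n m : ℤ) :
    (q * (C c * T n)).coeff m = q.coeff (m - n) * c := by
  induction q using LaurentPolynomial.induction_on' with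
  | add p q hp hq => simp only [add_mul, AddMonoidAlgebra.coeff_add, Finsupp.add_apply, hp, hq]
  | C_mul_T i a =>
    rw [show (C a * T i : R[T;T⁻¹]) * (C c * T n) = C (a * c) * T (i + n) by
      rw [map_mul, T_add]; ring]
    rw [← single_eq_C_mul_T, ← single_eq_C_mul_T, AddMonoidAlgebra.coeff_single,
      AddMonoidAlgebra.coeff_single, Finsupp.single_apply, Finsupp.single_apply]
    by_cases h : i + n = m
    · rw [if_pos h, if_pos (by omega)]
    · rw [if_neg h, if_neg (by omega), zero_mul]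

/-- the inner variable as a unit -/
noncomputable def uI (R : Type u) [CommRing R] [Algebra k R] : R[T;T⁻¹][T;T⁻¹]ˣ :=
  Units.map (cst k R[T;T⁻¹] : R[T;T⁻¹] →* R[T;T⁻¹][T;T⁻¹]) (uT R)

lemma val_uI_zpow (m : ℤ) : (((uI (k := k) R) ^ m : R[T;T⁻¹][T;T⁻¹]ˣ) : R[T;T⁻¹][T;T⁻¹]) =
    C (T m) := by
  rw [uI, ← map_zpow, Units.coe_map, uT_zpow]
  rfl

/-- the point `x λ(s) μ(t)` -/
noncomputable def Q : WithConv (A →ₐ[k] A[T;T⁻¹][T;T⁻¹]) :=
  mapPt ((cst k A[T;T⁻¹]).comp (cst k A)) (toConv (AlgHom.id k A)) * lamU lam (uT A[T;T⁻¹]) *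
    lamU mu (uI (k := k) A)

lemma Q_coeff (f : A) (m j : ℤ) :
    (((Q lam mu).ofConv f).coeff m).coeff j = prr lam m (prr mu j f) := by
  have h1 : ∀ b : A, (mapPt ((cst k A[T;T⁻¹]).comp (cst k A)) (toConv (AlgHom.id k A)) *
      lamU lam (uT A[T;T⁻¹])).ofConv b = AddMonoidAlgebra.mapAlgHom ℤ (cst k A) (rt lam b) := by
    intro b
    have h := rtPt_eq lam (mapPt (cst k A) (toConv (AlgHom.id k A)))
    exact DFunLike.congr_fun (congrArg WithConv.ofConv h) b
  rw [Q, mul_lamU_apply, Finsupp.sum, AddMonoidAlgebra.coeff_sum, Finset.sum_apply',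
    AddMonoidAlgebra.coeff_sum, Finset.sum_apply']
  rw [Finset.sum_eq_single j]
  · rw [h1, val_uI_zpow]
    have h2 := coeff_mul_CT (AddMonoidAlgebra.mapAlgHom ℤ (cst k A) (rt lam
      ((rt mu f).coeff j))) (T j : A[T;T⁻¹]) 0 m
    rw [T_zero, mul_one, sub_zero] at h2
    rw [h2, AddMonoidAlgebra.coeff_mapAlgHom]
    change (C ((rt lam (prr mu j f)).coeff m) * T j).coeff j = _
    rw [← single_eq_C_mul_T, AddMonoidAlgebra.coeff_single, Finsupp.single_eq_same]
    rfl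
  · intro i _ hi
    rw [h1, val_uI_zpow]
    have h2 := coeff_mul_CT (AddMonoidAlgebra.mapAlgHom ℤ (cst k A) (rt lam
      ((rt mu f).coeff i))) (T i : A[T;T⁻¹]) 0 m
    rw [T_zero, mul_one, sub_zero] at h2
    rw [h2, AddMonoidAlgebra.coeff_mapAlgHom]
    change (C ((rt lam (prr mu i f)).coeff m) * T i).coeff j = _
    rw [← single_eq_C_mul_T, AddMonoidAlgebra.coeff_single, Finsupp.single_eq_of_ne hi.symm]
  · intro hj
    rw [Finsupp.notMem_support_iff] at hj
    rw [hj]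
    simp

lemma Q_eq : Q lam mu = mapPt ((cst k A[T;T⁻¹]).comp (cst k A)) (toConv (AlgHom.id k A)) *
    orbHom lam (cc lam mu (uT A)) * lamU lam (uT A[T;T⁻¹] * uI (k := k) A) := by
  have h1 : orbHom lam (cc lam mu (uT A)) =
      orb lam (uT A[T;T⁻¹]) (cc lam mu (uI (k := k) A)) := by
    rw [orbHom, MonoidHom.comp_apply, mapPt_cc]
    rfl
  rw [h1, orb_apply, map_mul, Q, cc]
  simp [mul_assoc]

/-- Step A -/
lemma prr_prr_mu (hU : cc lam mu (uT k) ∈ USub lam k[T;T⁻¹]) (n m j : ℤ) (f : A) (hm : m ≤ n) :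
    prr lam m (prr mu j (prr lam n f)) =
      if m = n ∧ j = n then prr lam n f else 0 := by
  have hU' : cc lam mu (uT A) ∈ USub lam A[T;T⁻¹] := by
    have h := mapPt_USub lam (AddMonoidAlgebra.mapAlgHom ℤ (Algebra.ofId k A)) hU
    rwa [mapPt_cc, map_uT] at h
  obtain ⟨h, h0, hh⟩ := hU'
  set xx : WithConv (A →ₐ[k] A[T;T⁻¹]) := mapPt (cst k A) (toConv (AlgHom.id k A)) with hxx
  have h1 : Q lam mu = mapPt (tl k A[T;T⁻¹]) (mapPt (cp k A[T;T⁻¹]) xx * h) *
      lamU lam (uT A[T;T⁻¹] * uI (k := k) A) := by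
    rw [Q_eq, map_mul (mapPt (tl k A[T;T⁻¹])), ← mapPt_comp (cp k A[T;T⁻¹]) (tl k A[T;T⁻¹]),
      tl_comp_cp, hh]
    rfl
  have h2 : mapPt (ev0 k A[T;T⁻¹]) (mapPt (cp k A[T;T⁻¹]) xx * h) = xx := by
    rw [map_mul, ← mapPt_comp (cp k A[T;T⁻¹]) (ev0 k A[T;T⁻¹]), ev0_comp_cp, mapPt_id,
      show mapPt (ev0 k A[T;T⁻¹]) h = 1 from h0, mul_one]
  rw [← Q_coeff, h1, mul_lamU_prr]
  rw [show uT A[T;T⁻¹] * uI (k := k) A = uT A[T;T⁻¹] * Units.map (cst k A[T;T⁻¹] : _ →* _) (uT A)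
    from rfl, val_mul_zpow, mapPt_apply, coeff_mul_CT]
  rcases hm.lt_or_eq with hm | hm
  · rw [if_neg (by omega)]
    rw [(exists_toLaurent_iff (tl k A[T;T⁻¹] ((mapPt (cp k A[T;T⁻¹]) xx * h).ofConv
      (prr lam n f)))).1 ⟨_, rfl⟩ (m - n) (by omega)]
    simp
  · subst hm
    rw [sub_self]
    have h3 := coeff_toLaurent_nat ((mapPt (cp k A[T;T⁻¹]) xx * h).ofConv (prr lam m f)) 0
    have h4 := DFunLike.congr_fun (congrArg WithConv.ofConv h2) (prr lam m f)
    rw [mapPt_apply, ev0_apply] at h4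
    rw [h4] at h3
    change ((Polynomial.toLaurent ((mapPt (cp k A[T;T⁻¹]) xx * h).ofConv (prr lam m f))).coeff 0 *
      T m).coeff j = _
    have h3' : (Polynomial.toLaurent ((mapPt (cp k A[T;T⁻¹]) xx * h).ofConv
      (prr lam m f))).coeff 0 = xx.ofConv (prr lam m f) := h3
    rw [h3']
    change (C (prr lam m f) * T m).coeff j = _
    rw [← single_eq_C_mul_T, AddMonoidAlgebra.coeff_single, Finsupp.single_apply]
    simp [eq_comm]

/-- Step B -/
lemma prr_mu_eq_zero (hU : cc lam mu (uT k) ∈ USub lam k[T;T⁻¹]) (n j : ℤ) (hj : j < n) (f : A) :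
    prr mu j (prr lam n f) = 0 := by
  set h := prr mu j (prr lam n f) with hh
  have key : ∀ r : ℤ, prr lam r h = 0 := by
    have h1 : ∀ r < n, prr lam r h = 0 := by
      intro r hr
      rw [hh, prr_prr_mu lam mu hU n r j f hr.le, if_neg (by omega)]
    have h2 : ∀ N : ℕ, ∀ r < n + N, prr lam r h = 0 := by
      intro N
      induction N with
      | zero => intro r hr; exact h1 r (by simpa using hr)
      | succ N ih =>
        intro r hr
        by_cases hr' : r < n + N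
        · exact ih r hr'
        have hre : r = n + N := by push_cast at hr; omega
        have e1 : prr mu j h = h := by rw [hh, prr_prr, if_pos rfl]
        have e2 : prr lam r h = prr lam r (prr mu j (∑ m ∈ (rt lam h).coeff.support,
            prr lam m h)) := by rw [sum_prr', e1]
        rw [e2, map_sum, map_sum]
        apply Finset.sum_eq_zero
        intro m _
        rcases lt_trichotomy m r with hm | hm | hm
        · rw [ih m (by omega), map_zero, map_zero]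
        · subst hm
          rw [prr_prr_mu lam mu hU m m j h le_rfl, if_neg]
          rintro ⟨-, h5⟩
          omega
        · rw [prr_prr_mu lam mu hU m r j h hm.le, if_neg (by omega)]
    intro r
    exact h2 (r - n).toNat.succ r (by
      have := Int.self_le_toNat (r - n)
      push_cast
      omega)
  have h3 := sum_prr' lam h
  rw [← h3]
  exact Finset.sum_eq_zero fun m _ => key m

/-- Step C: the cocycle extends to `t = 0`. -/
lemma exists_extend (hU : cc lam mu (uT k) ∈ USub lam k[T;T⁻¹]) :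
    ∃ h : WithConv (A →ₐ[k] Polynomial k), mapPt (tl k k) h = cc lam mu (uT k) := by
  have h1 : ∃ h : A →ₐ[k] Polynomial k, (tl k k).comp h = (cc lam mu (uT k)).ofConv := by
    rw [exists_comp_tl_iff]
    intro a i hi
    have h2 : cc lam mu (uT k) = lamU mu (uT k) * lamU lam (uT k)⁻¹ := by rw [cc, map_inv]
    rw [h2, mul_lamU_apply, Finsupp.sum, AddMonoidAlgebra.coeff_sum, Finset.sum_apply']
    apply Finset.sum_eq_zero
    intro n _
    have h3 : lamU mu (uT k) = (1 : WithConv (A →ₐ[k] k[T;T⁻¹])) * lamU mu (uT k) :=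
      (one_mul _).symm
    rw [h3, mul_lamU_apply, Finsupp.sum, Finset.sum_mul, AddMonoidAlgebra.coeff_sum,
      Finset.sum_apply']
    apply Finset.sum_eq_zero
    intro m _
    change ((1 : WithConv (A →ₐ[k] k[T;T⁻¹])).ofConv (prr mu m (prr lam n a)) *
      ((uT k ^ m : k[T;T⁻¹]ˣ) : k[T;T⁻¹]) * (((uT k)⁻¹ ^ n : k[T;T⁻¹]ˣ) : k[T;T⁻¹])).coeff i = 0
    by_cases hmn : m < n
    · rw [prr_mu_eq_zero lam mu hU n m hmn, map_zero, zero_mul, zero_mul]; rfl
    · rw [inv_zpow', uT_zpow, uT_zpow, mul_assoc, ← T_add]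
      change (algebraMap k k[T;T⁻¹] (Coalgebra.counit (prr mu m (prr lam n a))) *
        T (m + -n)).coeff i = 0
      rw [← C_eq_algebraMap, ← single_eq_C_mul_T, AddMonoidAlgebra.coeff_single,
        Finsupp.single_eq_of_ne]
      omega
  obtain ⟨h, hh⟩ := h1
  exact ⟨toConv h, by rw [mapPt_toConv, hh]⟩

variable (k) in
/-- `T` as a unit of constants in polynomials over Laurent polynomials -/
noncomputable def uC : (Polynomial k[T;T⁻¹])ˣ :=
  Units.map (cp k k[T;T⁻¹] : k[T;T⁻¹] →* Polynomial k[T;T⁻¹]) (uT k)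

/-- `X ↦ T X` -/
noncomputable def scaleX : Polynomial k →ₐ[k] Polynomial k[T;T⁻¹] :=
  Polynomial.aeval (((uC k : (Polynomial k[T;T⁻¹])ˣ) : Polynomial k[T;T⁻¹]) * Polynomial.X)

/-- `X ↦ X` -/
noncomputable def incX : Polynomial k →ₐ[k] Polynomial k[T;T⁻¹] :=
  Polynomial.aeval (Polynomial.X)

lemma ev0_scaleX : (ev0 k k[T;T⁻¹]).comp (scaleX (k := k)) = (Algebra.ofId k k[T;T⁻¹]).comp (ev0 k k) := by
  apply Polynomial.algHom_ext
  rw [AlgHom.comp_apply, AlgHom.comp_apply, scaleX, Polynomial.aeval_X, map_mul, ev0_apply,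
    ev0_apply, ev0_apply]
  simp

lemma ev0_incX : (ev0 k k[T;T⁻¹]).comp (incX (k := k)) = (Algebra.ofId k k[T;T⁻¹]).comp (ev0 k k) := by
  apply Polynomial.algHom_ext
  rw [AlgHom.comp_apply, AlgHom.comp_apply, incX, Polynomial.aeval_X, ev0_apply, ev0_apply]
  simp

lemma tl_scaleX : (tl k k[T;T⁻¹]).comp (scaleX (k := k)) =
    (evU k (uT k[T;T⁻¹] * uI (k := k) k)).comp (tl k k) := by
  apply Polynomial.algHom_ext
  rw [AlgHom.comp_apply, AlgHom.comp_apply, scaleX, Polynomial.aeval_X, map_mul, tl_apply, tl_apply,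
    tl_apply, Polynomial.toLaurent_X, Polynomial.toLaurent_X, evU_T, zpow_one]
  rw [mul_comm]
  congr 1
  change Polynomial.toLaurent (Polynomial.C (T 1)) = C (T 1)
  rw [Polynomial.toLaurent_C]

lemma tl_incX : (tl k k[T;T⁻¹]).comp (incX (k := k)) =
    (evU k (uT k[T;T⁻¹])).comp (tl k k) := by
  apply Polynomial.algHom_ext
  rw [AlgHom.comp_apply, AlgHom.comp_apply, incX, Polynomial.aeval_X, tl_apply, tl_apply,
    Polynomial.toLaurent_X, Polynomial.toLaurent_X, evU_T, zpow_one]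
  rfl

lemma mapPt_evU_cc (x : Rˣ) : mapPt (evU k x) (cc lam mu (uT k)) = cc lam mu x := by
  rw [mapPt_cc]
  congr 1
  ext1
  change evU k x (T 1) = x
  simp

/-- Step D: `μ = u λ u⁻¹` with `u` the value at `0`. -/
lemma cc_eq (h : WithConv (A →ₐ[k] Polynomial k)) (hh : mapPt (tl k k) h = cc lam mu (uT k)) :
    mapPt (cst k k) (mapPt (ev0 k k) h) = cc lam mu (uT k) *
      orb lam (uT k) (mapPt (cst k k) (mapPt (ev0 k k) h)) := by
  have e0 : (cst k k) = Algebra.ofId k k[T;T⁻¹] := by ext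
  -- the cocycle identity over `k[T;T⁻¹][T;T⁻¹]`
  have h1 := cc_mul lam mu (uI (k := k) k) (uT k[T;T⁻¹])
  have h2 : mapPt (tl k k[T;T⁻¹]) (mapPt (scaleX (k := k)) h) =
      cc lam mu (uI (k := k) k * uT k[T;T⁻¹]) := by
    rw [← mapPt_comp, tl_scaleX, mapPt_comp, hh, mapPt_evU_cc, mul_comm]
  have h3 : mapPt (tl k k[T;T⁻¹]) (mapPt (incX (k := k)) h) = cc lam mu (uT k[T;T⁻¹]) := by
    rw [← mapPt_comp, tl_incX, mapPt_comp, hh, mapPt_evU_cc]
  have h4 : Units.map ((tl k k[T;T⁻¹] : Polynomial k[T;T⁻¹] →ₐ[k] k[T;T⁻¹][T;T⁻¹]) :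
      Polynomial k[T;T⁻¹] →* k[T;T⁻¹][T;T⁻¹]) (uC k) = uI (k := k) k := by
    ext1
    change Polynomial.toLaurent (Polynomial.C (T 1)) = C (T 1)
    rw [Polynomial.toLaurent_C]
  have h5 : mapPt (tl k k[T;T⁻¹]) (cc lam mu (uC k) * orb lam (uC k) (mapPt (incX (k := k)) h)) =
      cc lam mu (uI (k := k) k * uT k[T;T⁻¹]) := by
    rw [map_mul, mapPt_cc, mapPt_orb, h3, h4, ← h1]
  have h6 := mapPt_injective _ tl_injective (h2.trans h5.symm)
  have h7 := congrArg (mapPt (ev0 k k[T;T⁻¹])) h6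
  have h8 : Units.map ((ev0 k k[T;T⁻¹] : Polynomial k[T;T⁻¹] →ₐ[k] k[T;T⁻¹]) :
      Polynomial k[T;T⁻¹] →* k[T;T⁻¹]) (uC k) = uT k := by
    ext1
    change ev0 k k[T;T⁻¹] (Polynomial.C (T 1)) = T 1
    rw [ev0_apply, Polynomial.coeff_C_zero]
  rw [map_mul, mapPt_cc, mapPt_orb, h8, ← mapPt_comp, ← mapPt_comp, ev0_scaleX, ev0_incX,
    mapPt_comp, ← e0] at h7
  exact h7

/-- an element of `U_H(λ)` commuting with `λ` is trivial -/
lemma eq_one_of_centralizes {w : WithConv (A →ₐ[k] R)} (hw : w ∈ USub lam R)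
    (hc : orbHom lam w = mapPt (cst k R) w) : w = 1 := by
  obtain ⟨h, h0, hh⟩ := hw
  have h1 : mapPt (tl k R) h = mapPt (tl k R) (mapPt (cp k R) w) := by
    rw [hh, hc, ← mapPt_comp (cp k R) (tl k R), tl_comp_cp]
  have h2 := mapPt_injective _ tl_injective h1
  have h3 : mapPt (ev0 k R) h = 1 := h0
  rw [h2, ← mapPt_comp (cp k R), ev0_comp_cp, mapPt_id] at h3
  exact h3

lemma eq_of_conj_eq {u v : WithConv (A →ₐ[k] R)} (hu : u ∈ USub lam R) (hv : v ∈ USub lam R)
    (h : mapPt (cst k R) u * lamU lam (uT R) * (mapPt (cst k R) u)⁻¹ =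
      mapPt (cst k R) v * lamU lam (uT R) * (mapPt (cst k R) v)⁻¹) : u = v := by
  have h1 : v⁻¹ * u = 1 := by
    apply eq_one_of_centralizes lam (mul_mem (inv_mem hv) hu)
    rw [orbHom, MonoidHom.comp_apply, orb_apply, map_mul, map_inv]
    rw [mul_inv_eq_iff_eq_mul, eq_comm, mul_assoc, inv_mul_eq_iff_eq_mul]
    rw [mul_inv_eq_iff_eq_mul] at h
    rw [h]
    simp [mul_assoc]
  rw [inv_mul_eq_one] at h1
  exact h1.symm

/-- **Conjugacy of splittings**: if `μ(t) λ(t)⁻¹ ∈ U_H(λ)` then `μ = u λ u⁻¹` for exactly one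
`u ∈ U_H(λ)(k)`. -/
theorem existsUnique_conj (hU : cc lam mu (uT k) ∈ USub lam k[T;T⁻¹]) :
    ∃! u : WithConv (A →ₐ[k] k), u ∈ USub lam k ∧
      lamU mu (uT k) = mapPt (cst k k) u * lamU lam (uT k) * (mapPt (cst k k) u)⁻¹ := by
  obtain ⟨h, hh⟩ := exists_extend lam mu hU
  have h1 := cc_eq lam mu h hh
  have hu1 : mapPt (ev0 k k) h ∈ USub lam k := by
    refine ⟨h⁻¹ * mapPt (cp k k) (mapPt (ev0 k k) h), ?_, ?_⟩
    · change mapPt (ev0 k k) _ = 1
      rw [map_mul, map_inv, ← mapPt_comp (cp k k), ev0_comp_cp, mapPt_id, inv_mul_cancel]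
    · rw [map_mul, map_inv, hh, ← mapPt_comp (cp k k), tl_comp_cp, orbHom, MonoidHom.comp_apply]
      rw [inv_mul_eq_iff_eq_mul]
      exact h1
  have hu2 : lamU mu (uT k) = mapPt (cst k k) (mapPt (ev0 k k) h) * lamU lam (uT k) *
      (mapPt (cst k k) (mapPt (ev0 k k) h))⁻¹ := by
    have h2 := cc_mul_lamU lam mu (uT k)
    rw [orb_apply] at h1
    have h3 : cc lam mu (uT k) = mapPt (cst k k) (mapPt (ev0 k k) h) *
        (lamU lam (uT k) * mapPt (cst k k) (mapPt (ev0 k k) h) * (lamU lam (uT k))⁻¹)⁻¹ := by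
      rw [eq_mul_inv_iff_mul_eq]
      exact h1.symm
    rw [h3] at h2
    rw [← h2]
    simp [mul_assoc]
  refine ⟨_, ⟨hu1, hu2⟩, ?_⟩
  · rintro v ⟨hv, hv2⟩
    exact eq_of_conj_eq lam hv hu1 (hv2.symm.trans hu2)

end Two

end Groth.Agent.Sga3B.Par.SplitConj
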