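import Groth.Agent.Sga3B.Par.LocBC
import Groth.Agent.Sga3B.Par.SplitConj
import Groth.Agent.Sga3B.Parab.Rep998

/-!
# The local data for the conjugacy of Levi subgroups from a cocharacter
-/

set_option autoImplicit false
set_option linter.unusedSectionVars false

universe u

open CategoryTheory MonoidalCategory CartesianMonoidalCategory AlgebraicGeometry
open scoped MonObj LaurentPolynomial Polynomial
open WithConv

namespace Groth.Agent.Sga3B.Par.LocMain

open LeviProj LeviConj LocBC SplitConj Parab Parab.Chart998 Books.AffBridge Books.DynBasic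
  Books.DynLim

section Gen

variable {S : Scheme.{u}}

/-- morphisms over `S` can be compared on affine points -/
lemma aff_hom_ext {Y Z : Over S} {a b : Y ⟶ Z}
    (h : ∀ (C : Type u) [CommRing C] (c : Spec (CommRingCat.of C) ⟶ S) (x : aff C c ⟶ Y),
      x ≫ a = x ≫ b) : a = b := by
  apply Over.OverMorphism.ext
  apply Scheme.Cover.hom_ext Y.left.affineOpenCover.openCover
  intro i
  have h1 := h (Y.left.affineOpenCover.X i) (Y.left.affineOpenCover.f i ≫ Y.hom)
    (Over.homMk (Y.left.affineOpenCover.f i) rfl)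
  exact congrArg Over.Hom.left h1

/-- the multiplicative group is commutative on points -/
lemma gm_comm {X : Over S} (a b : X ⟶ Red.Gm S) : a * b = b * a := by
  rw [← DSPts.dsEquiv_dsChar (a * b), ← DSPts.dsEquiv_dsChar (b * a), DSPts.dsChar_mul,
    DSPts.dsChar_mul, mul_comm]

variable {C C' : Type u} [CommRing C] [CommRing C'] {c : Spec (CommRingCat.of C) ⟶ S}
  {c' : Spec (CommRingCat.of C') ⟶ S}

/-- the map on the points `T` induced by a map of affine schemes over `S` -/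
lemma exists_gmo_map (x : aff C' c' ⟶ aff C c) : ∃ t : gmo C' c' ⟶ gmo C c,
    t ≫ gmPr C c = gmPr C' c' ≫ x ∧ t ≫ tPt C c = tPt C' c' := by
  obtain ⟨φ, hφ⟩ : ∃ φ : C →+* C', x.left = Spec.map (CommRingCat.ofHom φ) :=
    ⟨(Spec.preimage x.left).hom, by simp⟩
  let _ : Algebra C C' := φ.toAlgebra
  have hc : Spec.map (CommRingCat.ofHom (algebraMap C C')) ≫ c = c' := by
    have := Over.w x
    rw [hφ] at this
    exact this
  refine ⟨toGmo (hcL hc) (AddMonoidAlgebra.mapAlgHom ℤ (Algebra.ofId C C')), ?_, ?_⟩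
  · apply Over.OverMorphism.ext
    change Spec.map _ ≫ Spec.map _ = Spec.map _ ≫ x.left
    rw [hφ, ← Spec.map_comp, ← Spec.map_comp, ← CommRingCat.ofHom_comp, ← CommRingCat.ofHom_comp]
    congr 2
    exact (AddMonoidAlgebra.mapAlgHom ℤ (Algebra.ofId C C')).comp_algebraMap
  · have h1 := comp_tPt (C := C) (c := c) (toGmo (hcL hc)
      (AddMonoidAlgebra.mapAlgHom ℤ (Algebra.ofId C C'))) _ rfl (tC C') (by
        intro n
        change AddMonoidAlgebra.mapAlgHom ℤ (Algebra.ofId C C') (LaurentPolynomial.T n) =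
          LaurentPolynomial.T n
        rw [LaurentPolynomial.T, AddMonoidAlgebra.mapAlgHom_single, map_one]
        rfl)
    exact h1

end Gen

section Main

variable {S : Scheme.{u}} {G P U L L' : Over S} [GrpObj G] [GrpObj P] [GrpObj U] [GrpObj L]
  [GrpObj L'] {l : L ⟶ P} {l' : L' ⟶ P} {u : U ⟶ P} (h : IsSemi l u) (h' : IsSemi l' u)
  (p : P ⟶ G) [IsMonHom p] [Mono p] (lam : Red.Gm S ⟶ G) [IsMonHom lam]

lemma exists_lamL (hZ : Red.IsCentralizerOf lam (l ≫ p)) :
    ∃ lamL : Red.Gm S ⟶ L, lamL ≫ l ≫ p = lam := by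
  apply (hZ.2.2 _ lam).2
  intro X' x t
  have h1 := MonObj.mul_comp x t lam
  have h2 := MonObj.mul_comp t x lam
  rw [← h1, ← h2, gm_comm]

variable {C : Type u} [CommRing C] {c : Spec (CommRingCat.of C) ⟶ S}

omit [IsMonHom lam] in
/-- an element commuting with `λ` has constant orbit -/
lemma orbConst_of_comm {g : aff C c ⟶ G}
    (hg : (gmPr C c ≫ g) * (tPt C c ≫ lam) = (tPt C c ≫ lam) * (gmPr C c ≫ g)) :
    OrbConst lam g := by
  rw [OrbConst, Parab.orb, ← hg]
  group

lemma eq_one_of_limOne [IsAffineHom G.hom] {g : aff C c ⟶ G} (h1 : LimOne lam g)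
    (h2 : OrbConst lam g) : g = 1 := by
  obtain ⟨A, _, _, e, he⟩ := Rep998.exists_chart (G := G) c
  have hc : Spec.map (CommRingCat.ofHom (algebraMap C C)) ≫ c = c := hcR
  obtain ⟨g, rfl⟩ := (pt_bijective e hc).2 g
  rw [limOne_pt, ← mem_USub (lamB lam e) (toConv g)] at h1
  rw [orbConst_pt] at h2
  have h3 := eq_one_of_centralizes (lamB lam e) h1 h2
  have h4 := pt_one e hc
  rw [← h3] at h4
  exact h4

/-- the condition `U_G(λ)` on an affine point -/
lemma ptU_of_limOne [IsAffineHom G.hom] {g : aff C c ⟶ G} (h1 : LimOne lam g) : PtU lam g := by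
  obtain ⟨A, _, _, e, he⟩ := Rep998.exists_chart (G := G) c
  have hc : Spec.map (CommRingCat.ofHom (algebraMap C C)) ≫ c = c := hcR
  obtain ⟨g, rfl⟩ := (pt_bijective e hc).2 g
  rw [limOne_pt, ← mem_USub (lamB lam e) (toConv g)] at h1
  intro C' _ c' x
  obtain ⟨φ, hφ⟩ : ∃ φ : C →+* C', x.left = Spec.map (CommRingCat.ofHom φ) :=
    ⟨(Spec.preimage x.left).hom, by simp⟩
  let _ : Algebra C C' := φ.toAlgebra
  have hc' : Spec.map (CommRingCat.ofHom (algebraMap C C')) ≫ c = c' := by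
    have := Over.w x
    rw [hφ] at this
    exact this
  rw [comp_pt e hc hc' (Algebra.ofId C C') x hφ, limOne_pt, ← mem_USub (lamB lam e) (toConv _)]
  exact mapPt_USub (lamB lam e) (Algebra.ofId C C') h1

variable {R : Type u} [CommRing R] (r : Spec (CommRingCat.of R) ⟶ S)

include h in
/-- the universal conjugating element over an affine chart -/
lemma exists_conj_chart [IsAffineHom G.hom] (hU : IsDynU lam (u ≫ p))
    (lamL : Red.Gm S ⟶ L) (hL : lamL ≫ l ≫ p = lam) :
    ∃ v : aff R r ⟶ U, (gmPr R r ≫ v ≫ u) * (tPt R r ≫ lamL ≫ l) * (gmPr R r ≫ v ≫ u)⁻¹ =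
      (tPt R r ≫ lamL ≫ l) ≫ prL h' ≫ l' := by
  have := h.monHom_l
  have := h.monHom_u
  have := h'.monHom_l
  have := h.mono_u
  obtain ⟨A, _, _, e, he⟩ := Rep998.exists_chart (G := G) r
  have hR : Spec.map (CommRingCat.ofHom (algebraMap R R)) ≫ r = r := hcR
  -- the second cocharacter
  let mu : Red.Gm S ⟶ G := lamL ≫ l ≫ prL h' ≫ l' ≫ p
  have hmu : IsMonHom mu := by
    have hlamL : IsMonHom (lamL ≫ l) := by
      apply Pts.isMonHom_of_points
      intro X x y
      rw [← cancel_mono p, MonObj.mul_comp _ _ p]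
      simp only [Category.assoc, hL]
      exact MonObj.mul_comp x y lam
    change IsMonHom (lamL ≫ l ≫ prL h' ≫ l' ≫ p)
    rw [← Category.assoc]
    infer_instance
  -- the difference is in `U`
  obtain ⟨b, hb⟩ := exists_of_prL_eq_one h' (((tPt R r ≫ lamL ≫ l) ≫ prL h' ≫ l') *
    (tPt R r ≫ lamL ≫ l)⁻¹) (by
      rw [mul_prL, GrpObj.inv_comp]
      simp only [Category.assoc, l_prL, Category.comp_id]
      rw [mul_inv_cancel])
  have hb2 : b ≫ u ≫ p = (tPt R r ≫ mu) * (tPt R r ≫ lam)⁻¹ := by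
    rw [← Category.assoc, hb, MonObj.mul_comp, GrpObj.inv_comp]
    simp only [Category.assoc, hL, mu]
  have hb3 : LimOne lam (b ≫ u ≫ p) := by
    have h1 := (hU.iff_ptU _ (b ≫ u ≫ p)).1 ⟨b, rfl⟩
    have h2 := h1 R[T;T⁻¹] (Spec.map (CommRingCat.ofHom (algebraMap R R[T;T⁻¹])) ≫ r) (𝟙 _)
    rwa [Category.id_comp] at h2
  have hcc : ptEquiv e (hcL hR) (cc (lamB lam e) (lamB mu e) (uT R)) =
      (tPt R r ≫ mu) * (tPt R r ≫ lam)⁻¹ := by
    rw [cc, map_mul, map_inv, ← toConv_lamR, ← toConv_lamR, ptEquiv_apply, ptEquiv_apply]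
    change pt e (hcL hR) (Dyn.lamR R A (lamB mu e) R) * (pt e (hcL hR)
      (Dyn.lamR R A (lamB lam e) R))⁻¹ = _
    rw [pt_lamR lam e hR, pt_lamR mu e hR]
  have hUU : cc (lamB lam e) (lamB mu e) (uT R) ∈ USub (lamB lam e) R[T;T⁻¹] := by
    rw [mem_USub, ← limOne_pt lam e (hcL hR)]
    rw [ptEquiv_apply] at hcc
    rw [hcc, ← hb2]
    exact hb3
  obtain ⟨w, ⟨hw1, hw2⟩, -⟩ := existsUnique_conj (lamB lam e) (lamB mu e) hUU
  rw [mem_USub, ← limOne_pt lam e hR] at hw1
  obtain ⟨v, hv⟩ := (hU.iff_ptU _ _).2 (ptU_of_limOne lam hw1)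
  refine ⟨v, ?_⟩
  have hw3 := congrArg (ptEquiv e (hcL hR)) hw2
  rw [map_mul, map_mul, map_inv, ← toConv_lamR, ← toConv_lamR, ptEquiv_apply, ptEquiv_apply,
    ptEquiv_apply] at hw3
  change pt e (hcL hR) (Dyn.lamR R A (lamB mu e) R) = pt e (hcL hR) ((cst R R).comp w.ofConv) *
    pt e (hcL hR) (Dyn.lamR R A (lamB lam e) R) * (pt e (hcL hR) ((cst R R).comp w.ofConv))⁻¹ at hw3
  rw [pt_lamR lam e hR, pt_lamR mu e hR, ← gmPr_pt e hR, ← hv] at hw3
  rw [← cancel_mono p, MonObj.mul_comp, MonObj.mul_comp, GrpObj.inv_comp]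
  simp only [Category.assoc, hL, mu] at hw3 ⊢
  exact hw3.symm

/-- the local data attached to a cocharacter of `G` -/
theorem nonempty_locData [IsAffineHom G.hom] (hU : IsDynU lam (u ≫ p))
    (hZ : Red.IsCentralizerOf lam (l ≫ p)) [Flat r] [LocallyOfFinitePresentation r] (s : S)
    (hs : s ∈ Set.range r) : Nonempty (LocData h h' s) := by
  have := h.monHom_l
  have := h.monHom_u
  have := h'.monHom_l
  have := h.mono_u
  obtain ⟨lamL, hL⟩ := exists_lamL p lam hZ
  obtain ⟨v, hv⟩ := exists_conj_chart h h' p lam r hU lamL hL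
  refine ⟨⟨Spec (CommRingCat.of R), r, inferInstance, inferInstance, hs, gmo R r, gmPr R r,
    tPt R r ≫ lamL ≫ l, ?_, ⟨tPt R r ≫ lamL, by rw [Category.assoc]⟩, ?_, ⟨v, ?_⟩⟩⟩
  · intro Y a t
    rw [← cancel_mono p, MonObj.mul_comp, MonObj.mul_comp]
    have h1 := (hZ.2.2 Y (a ≫ l ≫ p)).1 ⟨a, rfl⟩ Y (𝟙 Y) (t ≫ tPt R r)
    rw [Category.id_comp] at h1
    simp only [Category.assoc, hL] at h1 ⊢
    exact h1
  · intro Y y b hb
    apply aff_hom_ext
    intro C _ c x
    rw [MonObj.comp_one, ← cancel_mono u, ← cancel_mono p, MonObj.one_comp, MonObj.one_comp]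
    have hx : LimOne lam ((x ≫ b) ≫ u ≫ p) := by
      have h1 := (hU.iff_ptU _ (b ≫ u ≫ p)).1 ⟨b, rfl⟩
      have h2 := h1 C c x
      rwa [← Category.assoc] at h2
    have h3 := eq_one_of_limOne lam hx (orbConst_of_comm lam (by
      obtain ⟨t, ht1, ht2⟩ := exists_gmo_map (x ≫ y)
      have h4 := hb (gmo C c) (gmPr C c ≫ x) t (by rw [ht1, Category.assoc])
      have h5 := congrArg (· ≫ p) h4
      simp only [MonObj.mul_comp, Category.assoc, hL] at h5 ⊢
      have ht3 : t ≫ tPt R r ≫ lam = tPt C c ≫ lam := by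
        rw [← Category.assoc, ht2]
      rw [ht3] at h5
      exact h5))
    rwa [← Category.assoc] at h3
  · intro Y t
    have h1 := congrArg (t ≫ ·) hv
    simp only [MonObj.comp_mul, GrpObj.comp_inv] at h1
    simpa only [Category.assoc] using h1

/-- the local data at a point of the base -/
theorem nonempty_locData' [IsAffineHom G.hom] (hU : IsDynU lam (u ≫ p))
    (hZ : Red.IsCentralizerOf lam (l ≫ p)) (s : S) : Nonempty (LocData h h' s) := by
  let r : Spec (CommRingCat.of (S.affineOpenCover.X (S.affineOpenCover.idx s))) ⟶ S :=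
    S.affineOpenCover.f (S.affineOpenCover.idx s)
  have h1 : s ∈ Set.range r := S.affineOpenCover.covers s
  have h2 : IsOpenImmersion r := S.affineOpenCover.map_prop _
  exact nonempty_locData h h' p lam r hU hZ s h1

end Main

section Final

variable {S S' : Scheme.{u}} {G P U L L' : Over S} [GrpObj G] [GrpObj P] [GrpObj U] [GrpObj L]
  [GrpObj L'] {l : L ⟶ P} {l' : L' ⟶ P} {u : U ⟶ P} (h : IsSemi l u) (h' : IsSemi l' u)
  (p : P ⟶ G) [IsMonHom p] [Mono p] [IsAffineHom G.hom]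

/-- The local data at a point `s` of the base when there is a cocharacter over a flat neighbourhood
`S'` of `s`. -/
theorem nonempty_of_bc (f : S' ⟶ S) [Flat f] [LocallyOfFinitePresentation f] (s : S)
    (hs : s ∈ Set.range f) (lam : Red.Gm S' ⟶ Red.bc f G) [IsMonHom lam]
    (hU : IsDynU lam ((Over.pullback f).map (u ≫ p)))
    (hZ : Red.IsCentralizerOf lam ((Over.pullback f).map (l ≫ p))) :
    Nonempty (LocData h h' s) := by
  obtain ⟨s', hs'⟩ := hs
  have h0 : IsAffineHom G.hom := inferInstance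
  have : IsAffineHom (Red.bc f G).hom := by
    exact MorphismProperty.pullback_snd (P := @IsAffineHom) G.hom f h0
  rw [Functor.map_comp] at hU hZ
  obtain ⟨D⟩ := nonempty_locData' (IsSemi.bc h f) (IsSemi.bc h' f) ((Over.pullback f).map p)
    lam hU hZ s'
  exact ⟨ofBC f hs' D⟩

end Final

end Groth.Agent.Sga3B.Par.LocMain
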