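import Groth.Agent.Sga3B.Par.RCOver742

/-!
# Homomorphisms from `𝔾_m` attached to relative cocharacters
-/

set_option autoImplicit false
set_option linter.unusedSectionVars false

universe u

open CategoryTheory MonoidalCategory CartesianMonoidalCategory MonObj GrpObj AlgebraicGeometry Limits
open scoped LaurentPolynomial Polynomial TensorProduct
open WithConv
open Groth.Agent.Books.AffBridge Groth.Agent.Books.DynBasic Groth.Agent.Books.DynLim
open Groth.Agent.Sga3B.Parab Groth.Agent.Sga3B.Parab.Chart998 Groth.Agent.Sga3B.Parab.AffPts998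
open Groth.Agent.Sga3B.Parab.Dyn998
open Groth.Agent.Sga3B.Parab.DynExist998 Groth.Agent.Sga3B.Parab.DynBc998
open Groth.Agent.Sga3B.Par.RelCoch742 Groth.Agent.Sga3B.Par.PiCoch742
open Groth.Agent.Sga3B.Par.RCOver742

namespace Groth.Agent.Sga3B.Par.RCHom742

section UPt

variable {S : Scheme.{u}}
variable {C : Type u} [CommRing C]

lemma uPt_injective (c : Spec (CommRingCat.of C) ⟶ S) : Function.Injective (uPt (C := C) c) := by
  intro x y h
  have h1 : secChar c (uChar x) = secChar c (uChar y) := (DSPts.dsEquiv (aff C c) ℤ).injective h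
  have h2 := DFunLike.congr_fun h1 (Multiplicative.ofAdd 1)
  have h3 : uChar x (Multiplicative.ofAdd 1) = uChar y (Multiplicative.ofAdd 1) := by
    have h4 := congrArg (Scheme.ΓSpecIso (CommRingCat.of C)).hom.hom h2
    change ((Scheme.ΓSpecIso (CommRingCat.of C)).inv ≫ (Scheme.ΓSpecIso (CommRingCat.of C)).hom).hom
      (uChar x (Multiplicative.ofAdd 1)) = ((Scheme.ΓSpecIso (CommRingCat.of C)).inv ≫
        (Scheme.ΓSpecIso (CommRingCat.of C)).hom).hom (uChar y (Multiplicative.ofAdd 1)) at h4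
    rw [Iso.inv_hom_id] at h4
    exact h4
  ext1
  change ((x ^ (1 : ℤ) : Cˣ) : C) = ((y ^ (1 : ℤ) : Cˣ) : C) at h3
  rwa [zpow_one, zpow_one] at h3

variable {B : Type u} [CommRing B]

instance isIso_tPt : IsIso (tPt B (𝟙 (Spec (CommRingCat.of B)))) := by
  apply isIso_of_aff
  intro C _ c
  constructor
  · intro x y h
    letI := (Spec.preimage c).hom.toAlgebra
    have hx : ∀ x : aff C c ⟶ gmo B (𝟙 (Spec (CommRingCat.of B))),
        (Spec.preimage x.left).hom.comp (algebraMap B B[T;T⁻¹]) = algebraMap B C := by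
      intro x
      have h1 : x.left ≫ Spec.map (CommRingCat.ofHom (algebraMap B B[T;T⁻¹])) ≫ 𝟙 _ = c := Over.w x
      rw [Category.comp_id] at h1
      have h2 : Spec.map (CommRingCat.ofHom ((Spec.preimage x.left).hom.comp
          (algebraMap B B[T;T⁻¹]))) = Spec.map (Spec.preimage c) := by
        rw [CommRingCat.ofHom_comp, Spec.map_comp, CommRingCat.ofHom_hom, Spec.map_preimage, h1,
          Spec.map_preimage]
      exact congrArg CommRingCat.Hom.hom (Spec.map_injective h2)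
    let fx : B[T;T⁻¹] →ₐ[B] C := ⟨(Spec.preimage x.left).hom, fun b => DFunLike.congr_fun (hx x) b⟩
    let fy : B[T;T⁻¹] →ₐ[B] C := ⟨(Spec.preimage y.left).hom, fun b => DFunLike.congr_fun (hx y) b⟩
    have h3 := uPt_injective c ((comp_tPt' x (Spec.preimage x.left).hom
      (Spec.map_preimage x.left).symm).symm.trans (Eq.trans h (comp_tPt' y
        (Spec.preimage y.left).hom (Spec.map_preimage y.left).symm)))
    have h4 : fx = fy := by
      apply algHom_ext_T
      have h5 := congrArg Units.val h3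
      have h6 := uT_zpow (R := B) 1
      rw [zpow_one] at h6
      rw [← h6]
      exact h5
    ext1
    rw [← Spec.map_preimage x.left, ← Spec.map_preimage y.left]
    congr 1
    exact CommRingCat.hom_ext (RingHom.ext fun b => DFunLike.congr_fun h4 b)
  · intro h
    obtain ⟨x, rfl⟩ := exists_uPt c h
    obtain ⟨s, -, hs⟩ := exists_sec c x
    let y : aff C c ⟶ aff B (𝟙 (Spec (CommRingCat.of B))) := Over.homMk c (Category.comp_id _)
    refine ⟨s ≫ mapG y, ?_⟩
    change (s ≫ mapG y) ≫ tPt B _ = _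
    rw [Category.assoc, mapG_tPt, hs]

end UPt

section Exists

variable {A : Type u} [CommRing A] {B : Type u} [CommRing B] [Algebra A B]
variable {H : Type u} [CommRing H] [HopfAlgebra A H]
variable {Q : Over (Spec (CommRingCat.of B))} [GrpObj Q] (M : PtModel (sB A B) H Q)

lemma hcL1 : Spec.map (CommRingCat.ofHom (algebraMap A B[T;T⁻¹])) =
    (Spec.map (CommRingCat.ofHom (algebraMap B B[T;T⁻¹])) ≫ 𝟙 _) ≫ sB A B := by
  rw [Category.comp_id]
  exact hcL'

/-- The homomorphism attached to a relative cocharacter. -/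
noncomputable def ofRC (l : WithConv (H →ₐ[A] B[T;T⁻¹])) :
    Red.Gm (Spec (CommRingCat.of B)) ⟶ Q :=
  inv (tPt B (𝟙 (Spec (CommRingCat.of B)))) ≫ M.E hcL1 l

lemma lc_ofRC (l : WithConv (H →ₐ[A] B[T;T⁻¹])) : lc M (ofRC M l) = l := by
  apply (M.E (hcL' (A := A) (B := B))).injective
  let t : aff B[T;T⁻¹] (Spec.map (CommRingCat.ofHom (algebraMap B B[T;T⁻¹]))) ⟶
      gmo B (𝟙 (Spec (CommRingCat.of B))) := Over.homMk (𝟙 _) (by
    change 𝟙 _ ≫ _ ≫ 𝟙 _ = _
    rw [Category.id_comp, Category.comp_id]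
    rfl)
  have ht : t.left = Spec.map (CommRingCat.ofHom (RingHom.id B[T;T⁻¹])) := (Spec.map_id _).symm
  have h1 : t ≫ tPt B _ = uPt _ (uT B) := comp_tPt' t (RingHom.id _) ht
  rw [lc, E_ev, ← h1, ofRC, Category.assoc, IsIso.hom_inv_id_assoc,
    M.nat hcL1 hcL' (AlgHom.id A B[T;T⁻¹]) t ht]
  rfl

lemma isMonHom_ofRC {l : WithConv (H →ₐ[A] B[T;T⁻¹])} (hl : IsRC l) :
    IsMonHom (ofRC M l) := by
  apply Pts.isMonHom_of_points
  intro X x y
  apply hom_ext_aff
  intro C _ c z
  have key : ∀ a b : Cˣ, uPt c (a * b) ≫ ofRC M l =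
      (uPt c a ≫ ofRC M l) * (uPt c b ≫ ofRC M l) := by
    letI := ((Spec.preimage c).hom.comp (algebraMap A B)).toAlgebra
    let φ : B →ₐ[A] C := ⟨(Spec.preimage c).hom, fun a => rfl⟩
    have hφ' : Spec.map (CommRingCat.ofHom φ.toRingHom) = c := Spec.map_preimage c
    intro a b
    have h1 : ∀ a : Cˣ, uPt c a ≫ ofRC M l = M.E (hφ hφ') (val l φ a) := by
      intro a
      rw [← E_ev M (ofRC M l) (hφ hφ') a, ← val_lc M (ofRC M l) hφ' a, lc_ofRC]
    rw [h1, h1, h1, hl, map_mul]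
  obtain ⟨a, ha⟩ := exists_uPt c (z ≫ x)
  obtain ⟨b, hb⟩ := exists_uPt c (z ≫ y)
  rw [MonObj.comp_mul, ← Category.assoc, MonObj.comp_mul, ← Category.assoc, ← Category.assoc, ← ha,
    ← hb, ← uPt_mul, key]

end Exists

section Bc

variable {S S' : Scheme.{u}} (q : S' ⟶ S) {G : Over S} [GrpObj G]
variable {C : Type u} [CommRing C]

lemma dn_uPt (lam : Red.Gm S ⟶ G) (d : Spec (CommRingCat.of C) ⟶ S') (x : Cˣ) :
    dnI q (affI q d) (uPt d x ≫ bcLam lam q) = uPt (d ≫ q) x ≫ lam := by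
  obtain ⟨s, hs, hs'⟩ := exists_sec d x
  obtain ⟨t, ht, ht'⟩ := exists_sec (d ≫ q) x
  rw [← hs', Category.assoc, dnI_comp q (affI q d) (gmoI q d) s t (by
    rw [hs, ht]
    change 𝟙 _ ≫ _ = _ ≫ 𝟙 _
    rw [Category.id_comp, Category.comp_id]), dn_tPt, ← Category.assoc, ht']

end Bc

section Pt

variable {S : Scheme.{u}} {G : Over S} [GrpObj G]
variable {R : Type u} [CommRing R] {r : Spec (CommRingCat.of R) ⟶ S}
variable {A : Type u} [CommRing A] [HopfAlgebra R A]
variable {C : Type u} [CommRing C] [Algebra R C] {c : Spec (CommRingCat.of C) ⟶ S}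
variable (e : Red.bc r G ≅ SpecOver R A) [IsMonHom e.hom]

lemma pt_left (hc : Spec.map (CommRingCat.ofHom (algebraMap R C)) ≫ r = c) (g : A →ₐ[R] C) :
    (pt e hc g).left = (specMap R g ≫ e.inv).left ≫ pullback.fst G.hom r := by
  rw [pt, Over.comp_left, DSPts.bcEquiv_symm_left]
  exact Category.id_comp _

lemma eq_of_pt_left {c' : Spec (CommRingCat.of C) ⟶ S}
    (hc : Spec.map (CommRingCat.ofHom (algebraMap R C)) ≫ r = c)
    (hc' : Spec.map (CommRingCat.ofHom (algebraMap R C)) ≫ r = c') {g g' : WithConv (A →ₐ[R] C)}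
    (h : (ptEquiv e hc g).left = (ptEquiv e hc' g').left) : g = g' := by
  apply (ptEquiv e hc).injective
  ext1
  rw [h]
  exact (pt_left e hc' g'.ofConv).trans (pt_left e hc g'.ofConv).symm

end Pt

section BcEv

variable {A : Type u} [CommRing A] {H : Type u} [CommRing H] [HopfAlgebra A H]
variable {P : Over (Spec (CommRingCat.of A))} [GrpObj P] (e : P ≅ SpecOver A H) [IsMonHom e.hom]
variable {T T' : Scheme.{u}} {f : T ⟶ Spec (CommRingCat.of A)} {f' : T' ⟶ Spec (CommRingCat.of A)}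
variable {C : Type u} [CommRing C] [Algebra A C]

lemma dnI_E {d : Spec (CommRingCat.of C) ⟶ T}
    (hc : Spec.map (CommRingCat.ofHom (algebraMap A C)) = d ≫ f) (g : WithConv (H →ₐ[A] C)) :
    dnI f (affI f d) ((bcModel f e).E hc g) =
      ptEquiv (chartId e) ((Category.comp_id _).trans hc) g :=
  MulEquiv.apply_symm_apply _ _

/-- values of a homomorphism and of a base change of it -/
lemma ev_bc (q : T' ⟶ T) (l : Red.Gm T ⟶ Red.bc f P) (l' : Red.Gm T' ⟶ Red.bc f' P)
    (h : l'.left ≫ pullback.fst P.hom f' = (bcLam l q).left ≫ pullback.fst (Red.bc f P).hom q ≫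
      pullback.fst P.hom f) {d : Spec (CommRingCat.of C) ⟶ T'}
    {d' : Spec (CommRingCat.of C) ⟶ T} (hd : d ≫ q = d')
    (hc' : Spec.map (CommRingCat.ofHom (algebraMap A C)) = d ≫ f')
    (hc : Spec.map (CommRingCat.ofHom (algebraMap A C)) = d' ≫ f) (x : Cˣ) :
    ev (bcModel f' e) l' hc' x = ev (bcModel f e) l hc x := by
  subst hd
  apply eq_of_pt_left (chartId e) ((Category.comp_id _).trans hc') ((Category.comp_id _).trans hc)
  rw [← dnI_E e hc', ← dnI_E e hc, E_ev, E_ev, dnI_left, dnI_left]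
  have h1 := congrArg (fun z => z.left) (dn_uPt q l d x)
  rw [dnI_left] at h1
  change 𝟙 _ ≫ (uPt d x ≫ l').left ≫ _ = 𝟙 _ ≫ (uPt (d ≫ q) x ≫ l).left ≫ _
  change 𝟙 _ ≫ (uPt d x ≫ bcLam l q).left ≫ _ = _ at h1
  rw [Category.id_comp] at h1
  rw [Category.id_comp, Category.id_comp, ← h1, Over.comp_left, Over.comp_left, Category.assoc,
    Category.assoc, Category.assoc, h]

/-- values of the base change of a homomorphism to an affine group -/
lemma ev_bcLam (lam : Red.Gm (Spec (CommRingCat.of A)) ⟶ P) {d : Spec (CommRingCat.of C) ⟶ T}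
    {d' : Spec (CommRingCat.of C) ⟶ Spec (CommRingCat.of A)} (hd : d ≫ f = d')
    (hc : Spec.map (CommRingCat.ofHom (algebraMap A C)) = d ≫ f)
    (hc' : Spec.map (CommRingCat.ofHom (algebraMap A C)) = d' ≫ 𝟙 _) (x : Cˣ) :
    ev (bcModel f e) (bcLam lam f) hc x = ev (idModel e) lam hc' x := by
  subst hd
  apply (ptEquiv (chartId e) ((Category.comp_id _).trans hc)).injective
  rw [← dnI_E e hc, E_ev, dn_uPt]
  exact (E_ev (idModel e) lam hc' x).symm

end BcEv

section BcC

variable {A : Type u} [CommRing A] {H : Type u} [CommRing H] [HopfAlgebra A H]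
variable {B : Type u} [CommRing B] [Algebra A B]
variable {C : Type u} [CommRing C] [Algebra A C]

lemma bcC_eq (φ : B →ₐ[A] C) (l : WithConv (H →ₐ[A] B[T;T⁻¹])) :
    bcC φ l = val l ((cst A C).comp φ) (uT C) := by
  rw [bcC, val, ← evL_comp_map, evL_id, AlgHom.id_comp]

variable {P : Over (Spec (CommRingCat.of A))} [GrpObj P] (e : P ≅ SpecOver A H) [IsMonHom e.hom]

/-- base change of relative cocharacters and of homomorphisms -/
lemma lc_bc (φ : B →ₐ[A] C) (l : Red.Gm (Spec (CommRingCat.of B)) ⟶ Red.bc (sB A B) P)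
    (l' : Red.Gm (Spec (CommRingCat.of C)) ⟶ Red.bc (sB A C) P)
    (h : l'.left ≫ pullback.fst P.hom (sB A C) =
      (bcLam l (Spec.map (CommRingCat.ofHom φ.toRingHom))).left ≫
        pullback.fst (Red.bc (sB A B) P).hom (Spec.map (CommRingCat.ofHom φ.toRingHom)) ≫
        pullback.fst P.hom (sB A B)) :
    lc (bcModel (sB A C) e) l' = bcC φ (lc (bcModel (sB A B) e) l) := by
  have h1 : Spec.map (CommRingCat.ofHom ((cst A C).comp φ).toRingHom) =
      Spec.map (CommRingCat.ofHom (algebraMap C C[T;T⁻¹])) ≫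
        Spec.map (CommRingCat.ofHom φ.toRingHom) := by
    rw [← Spec.map_comp, ← CommRingCat.ofHom_comp]
    rfl
  rw [bcC_eq, val_lc (bcModel (sB A B) e) l h1]
  exact ev_bc e (Spec.map (CommRingCat.ofHom φ.toRingHom)) l l' h rfl _ _ _

/-- base change of relative cocharacters and of homomorphisms, absolute case -/
lemma lc_bcLam (M : PtModel (sB A A) H P)
    (hM : ∀ {C : Type u} [CommRing C] [Algebra A C]
      {d : Spec (CommRingCat.of C) ⟶ Spec (CommRingCat.of A)}
      (hc : Spec.map (CommRingCat.ofHom (algebraMap A C)) = d ≫ sB A A)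
      (hc' : Spec.map (CommRingCat.ofHom (algebraMap A C)) = d ≫ 𝟙 _) (g : WithConv (H →ₐ[A] C)),
      M.E hc g = (idModel e).E hc' g)
    (lam : Red.Gm (Spec (CommRingCat.of A)) ⟶ P) :
    lc (bcModel (sB A B) e) (bcLam lam (sB A B)) = bcC (Algebra.ofId A B) (lc M lam) := by
  have h0 : Spec.map (CommRingCat.ofHom (Algebra.ofId A B).toRingHom) = sB A B := rfl
  have h1 : Spec.map (CommRingCat.ofHom ((cst A B).comp (Algebra.ofId A B)).toRingHom) =
      Spec.map (CommRingCat.ofHom (algebraMap B B[T;T⁻¹])) ≫ sB A B := by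
    rw [← Spec.map_comp, ← CommRingCat.ofHom_comp]
    rfl
  rw [bcC_eq, val_lc M lam h1]
  have h2 : Spec.map (CommRingCat.ofHom (algebraMap A B[T;T⁻¹])) =
      (Spec.map (CommRingCat.ofHom (algebraMap B B[T;T⁻¹])) ≫ sB A B) ≫ 𝟙 _ := by
    rw [Category.comp_id]
    exact hcL'
  have h3 := ev_bcLam e (f := sB A B) lam rfl hcL' h2 (uT B)
  refine h3.trans ?_
  apply ((idModel e).E h2).injective
  rw [E_ev, ← hM (hφ h1) h2, E_ev]

end BcC

end Groth.Agent.Sga3B.Par.RCHom742
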