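import Groth.Agent.Sga3B.Par.PiCoch742
import Groth.Agent.Sga3B.Parab.DynBc998

/-!
# Relative cocharacters and homomorphisms from `𝔾_m`

`M : PtModel f H Q`: the points of the `S'`-group `Q` with values in `Spec C` are the points of the
Hopf algebra `H` over `A`.
-/

set_option autoImplicit false

universe u

open CategoryTheory MonoidalCategory CartesianMonoidalCategory MonObj GrpObj AlgebraicGeometry Limits
open scoped LaurentPolynomial Polynomial TensorProduct
open WithConv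
open Groth.Agent.Books.AffBridge Groth.Agent.Books.DynBasic Groth.Agent.Books.DynLim
open Groth.Agent.Sga3B.Parab Groth.Agent.Sga3B.Parab.Chart998 Groth.Agent.Sga3B.Parab.AffPts998
open Groth.Agent.Sga3B.Parab.DynExist998 Groth.Agent.Sga3B.Parab.DynBc998
open Groth.Agent.Sga3B.Par.RelCoch742 Groth.Agent.Sga3B.Par.PiCoch742

namespace Groth.Agent.Sga3B.Par.RCOver742

section UPt

variable {S : Scheme.{u}}
variable {C : Type u} [CommRing C] {D : Type u} [CommRing D]

/-- the character of a unit -/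
def uChar (x : Cˣ) : Multiplicative ℤ →* C where
  toFun n := ((x ^ n.toAdd : Cˣ) : C)
  map_one' := by simp
  map_mul' m n := by rw [toAdd_mul, zpow_add, Units.val_mul]

lemma uChar_mul (x y : Cˣ) : uChar (x * y) = uChar x * uChar y := by
  refine MonoidHom.ext fun n => ?_
  change ((((x * y) ^ n.toAdd : Cˣ)) : C) = ((x ^ n.toAdd : Cˣ) : C) * ((y ^ n.toAdd : Cˣ) : C)
  rw [mul_zpow, Units.val_mul]

/-- a unit as a point of `𝔾_m` -/
noncomputable def uPt (c : Spec (CommRingCat.of C) ⟶ S) (x : Cˣ) : aff C c ⟶ Red.Gm S :=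
  DSPts.dsEquiv (aff C c) ℤ (secChar c (uChar x))

lemma uPt_mul (c : Spec (CommRingCat.of C) ⟶ S) (x y : Cˣ) :
    uPt c (x * y) = uPt c x * uPt c y := by
  rw [uPt, uPt, uPt, uChar_mul, secChar_mul, map_mul]

lemma comp_tPt' {c : Spec (CommRingCat.of C) ⟶ S} {d : Spec (CommRingCat.of D) ⟶ S}
    (t : aff D d ⟶ gmo C c) (ψ : C[T;T⁻¹] →+* D) (ht : t.left = Spec.map (CommRingCat.ofHom ψ)) :
    t ≫ tPt C c = uPt d (Units.map (ψ : C[T;T⁻¹] →* D) (uT C)) := by
  refine comp_tPt t ψ ht _ fun n => ?_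
  change ψ (LaurentPolynomial.T n) =
    (((Units.map (ψ : C[T;T⁻¹] →* D) (uT C)) ^ n : Dˣ) : D)
  rw [← map_zpow, ← uT_zpow]
  rfl

lemma tPt_eq (c : Spec (CommRingCat.of C) ⟶ S) :
    tPt C c = uPt (Spec.map (CommRingCat.ofHom (algebraMap C C[T;T⁻¹])) ≫ c) (uT C) := by
  have h := comp_tPt' (c := c) (𝟙 (gmo C c)) (RingHom.id _) (by
    rw [Over.id_left]; exact (Spec.map_id _).symm)
  rw [Category.id_comp] at h
  refine h.trans ?_
  congr 1

lemma map_uT_evU (x : Cˣ) : Units.map ((evU C x).toRingHom : C[T;T⁻¹] →* C) (uT C) = x := by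
  ext1
  have h := evU_T (k := C) x 1
  rw [zpow_one] at h
  refine Eq.trans ?_ h
  rw [← uT_zpow, zpow_one]
  rfl

lemma exists_sec (c : Spec (CommRingCat.of C) ⟶ S) (x : Cˣ) :
    ∃ s : aff C c ⟶ gmo C c, s.left = Spec.map (CommRingCat.ofHom (evU C x).toRingHom) ∧
      s ≫ tPt C c = uPt c x := by
  let s : aff C c ⟶ gmo C c :=
    Over.homMk (Spec.map (CommRingCat.ofHom (evU C x).toRingHom)) (by
      change Spec.map _ ≫ Spec.map _ ≫ c = c
      rw [← Category.assoc, ← Spec.map_comp, ← CommRingCat.ofHom_comp]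
      have : (evU C x).toRingHom.comp (algebraMap C C[T;T⁻¹]) = RingHom.id C :=
        (evU C x).comp_algebraMap
      rw [this]
      change Spec.map (𝟙 _) ≫ c = c
      rw [Spec.map_id, Category.id_comp])
  refine ⟨s, rfl, ?_⟩
  rw [comp_tPt' s (evU C x).toRingHom rfl, map_uT_evU]

lemma comp_uPt {c : Spec (CommRingCat.of C) ⟶ S} {d : Spec (CommRingCat.of D) ⟶ S}
    (t : aff D d ⟶ aff C c) (ψ : C →+* D) (ht : t.left = Spec.map (CommRingCat.ofHom ψ)) (x : Cˣ) :
    t ≫ uPt c x = uPt d (Units.map (ψ : C →* D) x) := by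
  obtain ⟨s, hs, hs'⟩ := exists_sec c x
  rw [← hs', ← Category.assoc, comp_tPt' (t ≫ s) (ψ.comp (evU C x).toRingHom) (by
    rw [Over.comp_left, ht, hs, ← Spec.map_comp, ← CommRingCat.ofHom_comp])]
  congr 1
  conv_rhs => rw [← map_uT_evU x]
  rfl

lemma exists_uPt (c : Spec (CommRingCat.of C) ⟶ S) (h : aff C c ⟶ Red.Gm S) :
    ∃ x : Cˣ, uPt c x = h := by
  obtain ⟨s, -, rfl⟩ := exists_section h
  refine ⟨_, (comp_tPt' s (Spec.preimage s.left).hom ?_).symm⟩
  exact (Spec.map_preimage s.left).symm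

end UPt

section Model

variable {A : Type u} [CommRing A] {S' : Scheme.{u}}

/-- A description of the points of `Q` by a Hopf algebra `H` over `A`. -/
structure PtModel (f : S' ⟶ Spec (CommRingCat.of A)) (H : Type u) [CommRing H] [HopfAlgebra A H]
    (Q : Over S') [GrpObj Q] where
  /-- the bijection -/
  E : ∀ {C : Type u} [CommRing C] [Algebra A C] {c : Spec (CommRingCat.of C) ⟶ S'}
    (_ : Spec.map (CommRingCat.ofHom (algebraMap A C)) = c ≫ f),
    WithConv (H →ₐ[A] C) ≃* (aff C c ⟶ Q)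
  nat : ∀ {C D : Type u} [CommRing C] [Algebra A C] [CommRing D] [Algebra A D]
    {c : Spec (CommRingCat.of C) ⟶ S'} {d : Spec (CommRingCat.of D) ⟶ S'}
    (hc : Spec.map (CommRingCat.ofHom (algebraMap A C)) = c ≫ f)
    (hd : Spec.map (CommRingCat.ofHom (algebraMap A D)) = d ≫ f)
    (ψ : C →ₐ[A] D) (t : aff D d ⟶ aff C c)
    (_ : t.left = Spec.map (CommRingCat.ofHom ψ.toRingHom)) (g : WithConv (H →ₐ[A] C)),
    t ≫ E hc g = E hd (mapPt ψ g)

variable {H : Type u} [CommRing H] [HopfAlgebra A H]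

/-- the model of the base change of an affine group -/
noncomputable def bcModel (f : S' ⟶ Spec (CommRingCat.of A))
    {P : Over (Spec (CommRingCat.of A))} [GrpObj P] (e : P ≅ SpecOver A H) [IsMonHom e.hom] :
    PtModel f H (Red.bc f P) where
  E hc := (ptEquiv (chartId e) ((Category.comp_id _).trans hc)).trans (dnI f (affI f _)).symm
  nat {C D _ _ _ _ c d} hc hd ψ t ht g := by
    apply (dnI f (affI f d) (G := P)).injective
    let t' : aff D (d ≫ f) ⟶ aff C (c ≫ f) := Over.homMk t.left (by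
      have := Over.w t
      change t.left ≫ c ≫ f = d ≫ f
      change t.left ≫ c = d at this
      rw [← Category.assoc, this])
    rw [dnI_comp f (affI f d) (affI f c) t t' (by
      change 𝟙 _ ≫ t.left = t.left ≫ 𝟙 _
      rw [Category.id_comp, Category.comp_id])]
    change t' ≫ dnI f (affI f c) ((dnI f (affI f c)).symm
        (ptEquiv (chartId e) ((Category.comp_id _).trans hc) g)) =
      dnI f (affI f d) ((dnI f (affI f d)).symm
        (ptEquiv (chartId e) ((Category.comp_id _).trans hd) (mapPt ψ g)))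
    rw [MulEquiv.apply_symm_apply, MulEquiv.apply_symm_apply]
    exact comp_pt (chartId e) _ _ ψ t' ht g.ofConv

/-- the model of an affine group -/
noncomputable def idModel {P : Over (Spec (CommRingCat.of A))} [GrpObj P] (e : P ≅ SpecOver A H)
    [IsMonHom e.hom] : PtModel (𝟙 (Spec (CommRingCat.of A))) H P where
  E hc := ptEquiv (chartId e) ((Category.comp_id _).trans (hc.trans (Category.comp_id _)))
  nat hc hd ψ t ht g := comp_pt (chartId e) _ _ ψ t ht g.ofConv

end Model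

section Hom

variable {A : Type u} [CommRing A] {S' : Scheme.{u}} {f : S' ⟶ Spec (CommRingCat.of A)}
variable {H : Type u} [CommRing H] [HopfAlgebra A H]
variable {Q : Over S'} [GrpObj Q] (M : PtModel f H Q) (l : Red.Gm S' ⟶ Q)
variable {C D : Type u} [CommRing C] [Algebra A C] [CommRing D] [Algebra A D]
variable {c : Spec (CommRingCat.of C) ⟶ S'} {d : Spec (CommRingCat.of D) ⟶ S'}

/-- the value of a cocharacter at a unit, as a point of `H` -/
noncomputable def ev (hc : Spec.map (CommRingCat.ofHom (algebraMap A C)) = c ≫ f) (x : Cˣ) :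
    WithConv (H →ₐ[A] C) := (M.E hc).symm (uPt c x ≫ l)

lemma E_ev (hc : Spec.map (CommRingCat.ofHom (algebraMap A C)) = c ≫ f) (x : Cˣ) :
    M.E hc (ev M l hc x) = uPt c x ≫ l := (M.E hc).apply_symm_apply _

lemma ev_mul [IsMonHom l] (hc : Spec.map (CommRingCat.ofHom (algebraMap A C)) = c ≫ f)
    (x y : Cˣ) : ev M l hc (x * y) = ev M l hc x * ev M l hc y := by
  rw [ev, uPt_mul, MonObj.mul_comp, map_mul]
  rfl

lemma mapPt_ev (hc : Spec.map (CommRingCat.ofHom (algebraMap A C)) = c ≫ f)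
    (hd : Spec.map (CommRingCat.ofHom (algebraMap A D)) = d ≫ f) (ψ : C →ₐ[A] D)
    (h : Spec.map (CommRingCat.ofHom ψ.toRingHom) ≫ c = d) (x : Cˣ) :
    mapPt ψ (ev M l hc x) = ev M l hd (Units.map (ψ : C →* D) x) := by
  apply (M.E hd).injective
  let t : aff D d ⟶ aff C c := Over.homMk (Spec.map (CommRingCat.ofHom ψ.toRingHom)) h
  rw [← M.nat hc hd ψ t rfl, E_ev, E_ev, ← Category.assoc, comp_uPt t ψ.toRingHom rfl]
  rfl

end Hom

section Aff

variable {A : Type u} [CommRing A] {B : Type u} [CommRing B] [Algebra A B]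

variable (A B) in
/-- the structure morphism -/
noncomputable abbrev sB : Spec (CommRingCat.of B) ⟶ Spec (CommRingCat.of A) :=
  Spec.map (CommRingCat.ofHom (algebraMap A B))

variable {H : Type u} [CommRing H] [HopfAlgebra A H]
variable {Q : Over (Spec (CommRingCat.of B))} [GrpObj Q] (M : PtModel (sB A B) H Q)
variable (l : Red.Gm (Spec (CommRingCat.of B)) ⟶ Q)
variable {C : Type u} [CommRing C] [Algebra A C]

lemma hcL' : Spec.map (CommRingCat.ofHom (algebraMap A B[T;T⁻¹])) =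
    Spec.map (CommRingCat.ofHom (algebraMap B B[T;T⁻¹])) ≫ sB A B := by
  rw [← Spec.map_comp, ← CommRingCat.ofHom_comp]

/-- The relative cocharacter of a homomorphism from `𝔾_m`. -/
noncomputable def lc : WithConv (H →ₐ[A] B[T;T⁻¹]) := ev M l hcL' (uT B)

lemma hφ {φ : B →ₐ[A] C} {c : Spec (CommRingCat.of C) ⟶ Spec (CommRingCat.of B)}
    (hc : Spec.map (CommRingCat.ofHom φ.toRingHom) = c) :
    Spec.map (CommRingCat.ofHom (algebraMap A C)) = c ≫ sB A B := by
  rw [← hc, ← Spec.map_comp, ← CommRingCat.ofHom_comp]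
  congr 2
  exact φ.comp_algebraMap.symm

lemma val_lc {φ : B →ₐ[A] C} {c : Spec (CommRingCat.of C) ⟶ Spec (CommRingCat.of B)}
    (hc : Spec.map (CommRingCat.ofHom φ.toRingHom) = c) (x : Cˣ) :
    val (lc M l) φ x = ev M l (hφ hc) x := by
  rw [val, lc, mapPt_ev M l hcL' (hφ hc) (evL φ x) (by
    rw [← hc, ← Spec.map_comp, ← CommRingCat.ofHom_comp]
    congr 2
    ext b
    exact evL_C φ x b)]
  congr 1
  ext1
  change evL φ x ((uT B : B[T;T⁻¹]ˣ) : B[T;T⁻¹]) = x
  have h := uT_zpow (R := B) 1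
  rw [zpow_one] at h
  rw [h, evL_T, zpow_one]

lemma isRC_lc [IsMonHom l] : IsRC (lc M l) := by
  intro C _ _ φ x y
  rw [val_lc M l rfl, val_lc M l rfl, val_lc M l rfl, ev_mul]

variable {φ : B →ₐ[A] C} {c : Spec (CommRingCat.of C) ⟶ Spec (CommRingCat.of B)}
  (hc : Spec.map (CommRingCat.ofHom φ.toRingHom) = c)

include hc in
lemma hcst : Spec.map (CommRingCat.ofHom ((cst A C).comp φ).toRingHom) =
    Spec.map (CommRingCat.ofHom (algebraMap C C[T;T⁻¹])) ≫ c := by
  rw [← hc, ← Spec.map_comp, ← CommRingCat.ofHom_comp]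
  rfl

include hc in
lemma hpol : Spec.map (CommRingCat.ofHom (algebraMap A C[X])) =
    (Spec.map (CommRingCat.ofHom (algebraMap C C[X])) ≫ c) ≫ sB A B := by
  rw [Category.assoc, ← hφ hc, ← Spec.map_comp, ← CommRingCat.ofHom_comp]

lemma E_orbR (g : WithConv (H →ₐ[A] C)) :
    M.E (hφ (hcst hc)) (orbR (lc M l) φ g) = orb l (M.E (hφ hc) g) := by
  rw [orbR, map_mul, map_mul, map_inv, val_lc M l (hcst hc), E_ev, ← tPt_eq, Parab.orb,
    M.nat (hφ hc) (hφ (hcst hc)) (cst A C) (gmPr C c) rfl]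

lemma limExR_lc (g : WithConv (H →ₐ[A] C)) :
    LimExR (lc M l) φ g ↔ LimEx l (M.E (hφ hc) g) := by
  have h1 : LimExR (lc M l) φ g ↔ ∃ h : H →ₐ[A] C[X], (tl A C).comp h =
      (orbR (lc M l) φ g).ofConv := by
    rw [exists_comp_tl_iff]
    exact ⟨fun h a n hn => h n hn a, fun h n hn a => h a n hn⟩
  rw [h1]
  constructor
  · rintro ⟨h, hh⟩
    refine ⟨M.E (hpol hc) (toConv h), ?_⟩
    rw [M.nat (hpol hc) (hφ (hcst hc)) (tl A C) (toLin C c) rfl, ← E_orbR M l hc]
    congr 1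
    exact congrArg WithConv.toConv hh
  · rintro ⟨h, hh⟩
    obtain ⟨h, rfl⟩ := (M.E (hpol hc)).surjective h
    rw [M.nat (hpol hc) (hφ (hcst hc)) (tl A C) (toLin C c) rfl, ← E_orbR M l hc] at hh
    exact ⟨h.ofConv, congrArg WithConv.ofConv ((M.E (hφ (hcst hc))).injective hh)⟩

lemma limOneR_iff_exists (l' : WithConv (H →ₐ[A] B[T;T⁻¹])) (g : WithConv (H →ₐ[A] C)) :
    LimOneR l' φ g ↔ ∃ h : WithConv (H →ₐ[A] C[X]), mapPt (tl A C) h = orbR l' φ g ∧
      mapPt (ev0 A C) h = 1 := by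
  constructor
  · rintro ⟨h1, h2⟩
    obtain ⟨h, hh⟩ := (exists_comp_tl_iff (orbR l' φ g).ofConv).2 fun a n hn => h1 n hn a
    refine ⟨toConv h, congrArg WithConv.toConv hh, ?_⟩
    apply WithConv.ofConv_injective
    refine AlgHom.ext fun a => ?_
    rw [mapPt_apply, ev0_apply, ← coeff_toLaurent_nat]
    have h3 := congrArg (fun z => (z a).coeff 0) hh
    refine Eq.trans h3 ?_
    exact h2 a
  · rintro ⟨h, hh, h0⟩
    refine ⟨fun n hn a => ?_, fun a => ?_⟩
    · exact (exists_comp_tl_iff (orbR l' φ g).ofConv).1 ⟨h.ofConv, congrArg WithConv.ofConv hh⟩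
        a n hn
    · rw [← hh, mapPt_apply, tl_apply]
      have h1 := coeff_toLaurent_nat (h.ofConv a) 0
      refine Eq.trans h1 ?_
      rw [← ev0_apply (k := A), ← mapPt_apply, h0]
      rfl

lemma limOneR_lc (g : WithConv (H →ₐ[A] C)) :
    LimOneR (lc M l) φ g ↔ LimOne l (M.E (hφ hc) g) := by
  rw [limOneR_iff_exists]
  constructor
  · rintro ⟨h, hh, h0⟩
    refine ⟨M.E (hpol hc) h, ?_, ?_⟩
    · rw [M.nat (hpol hc) (hφ (hcst hc)) (tl A C) (toLin C c) rfl, ← E_orbR M l hc, hh]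
    · rw [M.nat (hpol hc) (hφ hc) (ev0 A C) (zeroSec C c) rfl, h0, map_one]
  · rintro ⟨h, hh, h0⟩
    obtain ⟨h, rfl⟩ := (M.E (hpol hc)).surjective h
    rw [M.nat (hpol hc) (hφ (hcst hc)) (tl A C) (toLin C c) rfl, ← E_orbR M l hc] at hh
    rw [M.nat (hpol hc) (hφ hc) (ev0 A C) (zeroSec C c) rfl] at h0
    exact ⟨h, (M.E (hφ (hcst hc))).injective hh, (M.E (hφ hc)).injective
      (h0.trans (map_one _).symm)⟩

end Aff

end Groth.Agent.Sga3B.Par.RCOver742
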