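import Mathlib.RingTheory.Smooth.Basic
import Mathlib.RingTheory.RingHom.Smooth
import Mathlib.Algebra.Polynomial.Basic
import Mathlib.RingTheory.Polynomial.Basic
import Mathlib.Algebra.Polynomial.AlgebraMap
import Mathlib.Tactic.LinearCombination

/-!
# Retractions from smooth Rees algebras

Let `C` be an `R`-algebra with an exhaustive increasing filtration `F` with `F 0 = R`. If the Rees
algebra `⊕ F n Xⁿ` is formally smooth over `R[X]`, then there is an algebra map `C → R`.
-/

set_option autoImplicit false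

open Polynomial

universe u

namespace Groth.Agent.Sga3B.Par.ReesLift

variable {R : Type u} [CommRing R] {C : Type u} [CommRing C] [Algebra R C]

/-- increasing multiplicative filtrations -/
structure IsFilt (F : ℕ → Submodule R C) : Prop where
  mono : Monotone F
  one_mem : (1 : C) ∈ F 0
  mul_mem : ∀ i j x y, x ∈ F i → y ∈ F j → x * y ∈ F (i + j)

variable {F : ℕ → Submodule R C}

lemma IsFilt.algebraMap_mem (hF : IsFilt F) (n : ℕ) (r : R) : algebraMap R C r ∈ F n := by
  rw [Algebra.algebraMap_eq_smul_one]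
  exact hF.mono (Nat.zero_le n) ((F 0).smul_mem r hF.one_mem)

/-- the Rees algebra of a filtration -/
def rees (hF : IsFilt F) : Subalgebra R C[X] where
  carrier := {b | ∀ d, b.coeff d ∈ F d}
  mul_mem' := by
    intro a b ha hb d
    rw [coeff_mul]
    refine Submodule.sum_mem _ fun p hp => ?_
    rw [Finset.mem_antidiagonal] at hp
    rw [← hp]
    exact hF.mul_mem _ _ _ _ (ha _) (hb _)
  add_mem' := by
    intro a b ha hb d
    rw [coeff_add]
    exact add_mem (ha d) (hb d)
  algebraMap_mem' := by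
    intro r d
    rw [Polynomial.algebraMap_apply, coeff_C]
    split_ifs with h
    · exact hF.algebraMap_mem d r
    · exact zero_mem _

lemma mem_rees {hF : IsFilt F} {b : C[X]} : b ∈ rees hF ↔ ∀ d, b.coeff d ∈ F d := Iff.rfl

lemma X_mem_rees (hF : IsFilt F) : (X : C[X]) ∈ rees hF := by
  intro d
  rw [coeff_X]
  split_ifs with h
  · exact hF.mono (Nat.zero_le d) hF.one_mem
  · exact zero_mem _

lemma monomial_mem_rees (hF : IsFilt F) {n : ℕ} {x : C} (hx : x ∈ F n) :
    monomial n x ∈ rees hF := by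
  intro d
  rw [coeff_monomial]
  split_ifs with h
  · exact h ▸ hx
  · exact zero_mem _

/-- the structure map `R[X] → ⊕ F n Xⁿ` -/
noncomputable def reesMap (hF : IsFilt F) : R[X] →+* rees hF :=
  (aeval (⟨X, X_mem_rees hF⟩ : rees hF) : R[X] →ₐ[R] rees hF).toRingHom

lemma coe_reesMap (hF : IsFilt F) (p : R[X]) :
    ((reesMap hF p : rees hF) : C[X]) = p.map (algebraMap R C) := by
  have h : (rees hF).val.comp (aeval (⟨X, X_mem_rees hF⟩ : rees hF)) =
      mapAlg R C := by
    apply Polynomial.algHom_ext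
    rw [AlgHom.comp_apply, aeval_X]
    change X = mapAlg R C X
    rw [mapAlg_eq_map, map_X]
  have h2 := DFunLike.congr_fun h p
  rw [mapAlg_eq_map] at h2
  exact h2

/-- truncated multiplicative functionals -/
structure Good (F : ℕ → Submodule R C) (m : ℕ) (ψ : C → R) : Prop where
  add : ∀ x ∈ F m, ∀ y ∈ F m, ψ (x + y) = ψ x + ψ y
  smul : ∀ (r : R), ∀ x ∈ F m, ψ (r • x) = r * ψ x
  one : ψ 1 = 1
  mul : ∀ i j, i + j ≤ m → ∀ x ∈ F i, ∀ y ∈ F j, ψ (x * y) = ψ x * ψ y

lemma Good.zero {m : ℕ} {ψ : C → R} (h : Good F m ψ) : ψ 0 = 0 := by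
  have := h.smul 0 0 (zero_mem _)
  rwa [zero_smul, zero_mul] at this

lemma Good.sum {m : ℕ} {ψ : C → R} (h : Good F m ψ) {ι : Type*} (s : Finset ι) (f : ι → C)
    (hf : ∀ i ∈ s, f i ∈ F m) : ψ (∑ i ∈ s, f i) = ∑ i ∈ s, ψ (f i) := by
  classical
  induction s using Finset.induction_on with
  | empty => simp [h.zero]
  | insert a s ha ih =>
    rw [Finset.sum_insert ha, Finset.sum_insert ha, h.add, ih]
    · intro i hi; exact hf i (Finset.mem_insert_of_mem hi)
    · exact hf a (Finset.mem_insert_self _ _)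
    · exact Submodule.sum_mem _ fun i hi => hf i (Finset.mem_insert_of_mem hi)

/-- the truncated polynomial attached to an element of the Rees algebra -/
noncomputable def eFun (m : ℕ) (ψ : C → R) (b : C[X]) : R[X] :=
  ∑ d ∈ Finset.range (m + 1), monomial d (ψ (b.coeff d))

omit [Algebra R C] in
lemma coeff_eFun (m : ℕ) (ψ : C → R) (b : C[X]) (i : ℕ) :
    (eFun m ψ b).coeff i = if i ≤ m then ψ (b.coeff i) else 0 := by
  rw [eFun, finsetSum_coeff]
  simp only [coeff_monomial]
  rw [Finset.sum_ite_eq' (Finset.range (m + 1)) i]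
  simp

lemma mk_eq_iff {n : ℕ} {p q : R[X]} :
    Ideal.Quotient.mk (Ideal.span {(X : R[X]) ^ n}) p = Ideal.Quotient.mk _ q ↔
      ∀ i < n, p.coeff i = q.coeff i := by
  rw [Ideal.Quotient.eq, Ideal.mem_span_singleton, X_pow_dvd_iff]
  simp only [coeff_sub, sub_eq_zero]

section Step

variable (hF : IsFilt F) {m : ℕ} {ψ : C → R} (h : Good F m ψ)

/-- the algebra map to truncated polynomials -/
noncomputable def eHom : letI := (reesMap hF).toAlgebra
    rees hF →ₐ[R[X]] R[X] ⧸ Ideal.span {(X : R[X]) ^ (m + 1)} :=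
  letI := (reesMap hF).toAlgebra
  { toFun := fun b => Ideal.Quotient.mk _ (eFun m ψ (b : C[X]))
    map_one' := by
      rw [← map_one (Ideal.Quotient.mk (Ideal.span {(X : R[X]) ^ (m + 1)})), mk_eq_iff]
      intro i hi
      rw [coeff_eFun, if_pos (by omega)]
      change ψ ((1 : C[X]).coeff i) = _
      rw [coeff_one, coeff_one]
      split_ifs
      · exact h.one
      · exact h.zero
    map_mul' := by
      intro a b
      rw [← map_mul, mk_eq_iff]
      intro i hi
      rw [coeff_eFun, if_pos (by omega)]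
      change ψ (((a : C[X]) * (b : C[X])).coeff i) = _
      rw [coeff_mul, coeff_mul, h.sum]
      · refine Finset.sum_congr rfl fun p hp => ?_
        rw [Finset.mem_antidiagonal] at hp
        rw [coeff_eFun, coeff_eFun, if_pos (by omega), if_pos (by omega)]
        exact h.mul _ _ (by omega) _ (a.2 _) _ (b.2 _)
      · intro p hp
        rw [Finset.mem_antidiagonal] at hp
        exact hF.mono (by omega) (hF.mul_mem _ _ _ _ (a.2 p.1) (b.2 p.2))
    map_zero' := by
      rw [← map_zero (Ideal.Quotient.mk (Ideal.span {(X : R[X]) ^ (m + 1)})), mk_eq_iff]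
      intro i hi
      rw [coeff_eFun, if_pos (by omega)]
      change ψ ((0 : C[X]).coeff i) = _
      rw [coeff_zero, coeff_zero]
      exact h.zero
    map_add' := by
      intro a b
      rw [← map_add, mk_eq_iff]
      intro i hi
      rw [coeff_add, coeff_eFun, coeff_eFun, coeff_eFun, if_pos (by omega), if_pos (by omega),
        if_pos (by omega)]
      change ψ (((a : C[X]) + (b : C[X])).coeff i) = _
      rw [coeff_add]
      exact h.add _ (hF.mono (by omega) (a.2 i)) _ (hF.mono (by omega) (b.2 i))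
    commutes' := by
      intro p
      change Ideal.Quotient.mk _ (eFun m ψ ((reesMap hF p : rees hF) : C[X])) =
        Ideal.Quotient.mk _ p
      rw [mk_eq_iff]
      intro i hi
      rw [coeff_eFun, if_pos (by omega), coe_reesMap, coeff_map,
        Algebra.algebraMap_eq_smul_one, h.smul _ _ (hF.mono (Nat.zero_le m) hF.one_mem), h.one,
        mul_one] }

lemma span_pow_le (n k : ℕ) (hk : n ≤ k) :
    Ideal.span {(X : R[X]) ^ k} ≤ Ideal.span {(X : R[X]) ^ n} := by
  rw [Ideal.span_singleton_le_span_singleton]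
  exact pow_dvd_pow _ hk

include h in
/-- lifting one step -/
lemma exists_lift (hs : (reesMap hF).FormallySmooth) : ∃ G : rees hF → R[X],
    (∀ b, ∀ i < m + 1, (G b).coeff i = ψ ((b : C[X]).coeff i)) ∧
    (∀ a b, ∀ i < m + 2, (G (a + b)).coeff i = (G a + G b).coeff i) ∧
    (∀ a b, ∀ i < m + 2, (G (a * b)).coeff i = (G a * G b).coeff i) ∧
    (∀ (p : R[X]) b, ∀ i < m + 2, (G (reesMap hF p * b)).coeff i = (p * G b).coeff i) := by
  let _ := (reesMap hF).toAlgebra
  have hs' : Algebra.FormallySmooth R[X] (rees hF) := hs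
  let q : R[X] ⧸ Ideal.span {(X : R[X]) ^ (m + 2)} →ₐ[R[X]] R[X] ⧸ Ideal.span {(X : R[X]) ^ (m + 1)} :=
    Ideal.Quotient.factorₐ R[X] (span_pow_le (m + 1) (m + 2) (by omega))
  have hq : Function.Surjective q := Ideal.Quotient.factor_surjective (span_pow_le (m + 1) (m + 2) (by omega))
  have hk : IsNilpotent (RingHom.ker (q : R[X] ⧸ Ideal.span {(X : R[X]) ^ (m + 2)} →+*
      R[X] ⧸ Ideal.span {(X : R[X]) ^ (m + 1)})) := by
    refine ⟨2, (pow_two (RingHom.ker (q : R[X] ⧸ Ideal.span {(X : R[X]) ^ (m + 2)} →+*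
      R[X] ⧸ Ideal.span {(X : R[X]) ^ (m + 1)}))).trans ?_⟩
    rw [Ideal.zero_eq_bot, eq_bot_iff, Ideal.mul_le]
    intro x hx y hy
    obtain ⟨x, rfl⟩ := Ideal.Quotient.mk_surjective x
    obtain ⟨y, rfl⟩ := Ideal.Quotient.mk_surjective y
    have hx' : Ideal.Quotient.mk (Ideal.span {(X : R[X]) ^ (m + 1)}) x = 0 := hx
    have hy' : Ideal.Quotient.mk (Ideal.span {(X : R[X]) ^ (m + 1)}) y = 0 := hy
    rw [Ideal.Quotient.eq_zero_iff_mem, Ideal.mem_span_singleton] at hx' hy'
    rw [← map_mul, Ideal.mem_bot, Ideal.Quotient.eq_zero_iff_mem, Ideal.mem_span_singleton]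
    refine (pow_dvd_pow _ (by omega : m + 2 ≤ (m + 1) + (m + 1))).trans ?_
    rw [pow_add]
    exact mul_dvd_mul hx' hy'
  let g := Algebra.FormallySmooth.liftOfSurjective (eHom hF h) q hq hk
  have hg : ∀ b, q (g b) = eHom hF h b := fun b =>
    Algebra.FormallySmooth.liftOfSurjective_apply (eHom hF h) q hq hk b
  choose G hG using fun b => Ideal.Quotient.mk_surjective (g b)
  refine ⟨G, ?_, ?_, ?_, ?_⟩
  · intro b i hi
    have h1 := hg b
    rw [← hG b] at h1
    change Ideal.Quotient.mk _ (G b) = Ideal.Quotient.mk _ (eFun m ψ (b : C[X])) at h1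
    rw [mk_eq_iff] at h1
    rw [h1 i hi, coeff_eFun, if_pos (by omega)]
  · intro a b
    rw [← mk_eq_iff, map_add, hG, hG, hG, map_add]
  · intro a b
    rw [← mk_eq_iff, map_mul, hG, hG, hG, map_mul]
  · intro p b
    rw [← mk_eq_iff, map_mul, hG, hG, map_mul]
    congr 1
    exact g.commutes p

include h in
/-- extension of multiplicative functionals by one step -/
lemma exists_step (h0 : ∀ x ∈ F 0, ∃ r : R, algebraMap R C r = x)
    (hs : (reesMap hF).FormallySmooth) :
    ∃ ψ' : C → R, Good F (m + 1) ψ' ∧ ∀ x ∈ F m, ψ' x = ψ x := by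
  classical
  obtain ⟨G, hG1, hG2, hG3, hG4⟩ := exists_lift hF h hs
  let ψ' : C → R := fun x => if hx : x ∈ F (m + 1) then
    (G ⟨monomial (m + 1) x, monomial_mem_rees hF hx⟩).coeff (m + 1) else 0
  have hψ' : ∀ x (hx : x ∈ F (m + 1)), ψ' x =
      (G ⟨monomial (m + 1) x, monomial_mem_rees hF hx⟩).coeff (m + 1) := by
    intro x hx
    exact dif_pos hx
  have hres : ∀ x ∈ F m, ψ' x = ψ x := by
    intro x hx
    rw [hψ' x (hF.mono (by omega) hx)]
    have h1 := hG4 X ⟨monomial m x, monomial_mem_rees hF hx⟩ (m + 1) (by omega)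
    have h2 : reesMap hF X * ⟨monomial m x, monomial_mem_rees hF hx⟩ =
        ⟨monomial (m + 1) x, monomial_mem_rees hF (hF.mono (by omega) hx)⟩ := by
      apply Subtype.ext
      rw [MulMemClass.coe_mul, coe_reesMap, map_X]
      exact X_mul_monomial m x
    rw [h2, coeff_X_mul, hG1 _ m (by omega)] at h1
    rw [h1]
    change ψ ((monomial m x).coeff m) = _
    rw [coeff_monomial, if_pos rfl]
  have hadd : ∀ x ∈ F (m + 1), ∀ y ∈ F (m + 1), ψ' (x + y) = ψ' x + ψ' y := by
    intro x hx y hy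
    rw [hψ' _ hx, hψ' _ hy, hψ' _ (add_mem hx hy), ← coeff_add, ← hG2 _ _ _ (by omega)]
    congr 2
    apply Subtype.ext
    change monomial (m + 1) (x + y) = monomial (m + 1) x + monomial (m + 1) y
    rw [map_add]
  have hsmul : ∀ (r : R), ∀ x ∈ F (m + 1), ψ' (r • x) = r * ψ' x := by
    intro r x hx
    rw [hψ' _ hx, hψ' _ (Submodule.smul_mem _ r hx), ← coeff_C_mul, ← hG4 _ _ _ (by omega)]
    congr 2
    apply Subtype.ext
    rw [MulMemClass.coe_mul, coe_reesMap, map_C]
    change monomial (m + 1) (r • x) = Polynomial.C (algebraMap R C r) * monomial (m + 1) x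
    rw [C_mul_monomial, Algebra.smul_def]
  have hone : ψ' 1 = 1 := by
    rw [hres 1 (hF.mono (Nat.zero_le m) hF.one_mem), h.one]
  have hz : ψ 0 = 0 := h.zero
  refine ⟨ψ', ⟨hadd, hsmul, hone, ?_⟩, hres⟩
  intro i j hij x hx y hy
  by_cases hij' : i + j ≤ m
  · rw [hres _ (hF.mono hij' (hF.mul_mem _ _ _ _ hx hy)), hres x (hF.mono (by omega) hx),
      hres y (hF.mono (by omega) hy), h.mul i j hij' x hx y hy]
  have hij2 : i + j = m + 1 := by omega
  rcases Nat.eq_zero_or_pos i with hi | hi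
  · subst hi
    obtain ⟨r, rfl⟩ := h0 x hx
    have hy' : y ∈ F (m + 1) := hF.mono (by omega) hy
    rw [← Algebra.smul_def, hsmul r y hy', Algebra.algebraMap_eq_smul_one,
      hsmul r 1 (hF.mono (Nat.zero_le _) hF.one_mem), hone, mul_one]
  rcases Nat.eq_zero_or_pos j with hj | hj
  · subst hj
    obtain ⟨r, rfl⟩ := h0 y hy
    have hx' : x ∈ F (m + 1) := hF.mono (by omega) hx
    rw [mul_comm x, ← Algebra.smul_def, hsmul r x hx', Algebra.algebraMap_eq_smul_one,
      hsmul r 1 (hF.mono (Nat.zero_le _) hF.one_mem), hone, mul_one, mul_comm]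
  rw [hψ' _ (hij2 ▸ hF.mul_mem _ _ _ _ hx hy)]
  have h3 := hG3 ⟨monomial i x, monomial_mem_rees hF hx⟩ ⟨monomial j y, monomial_mem_rees hF hy⟩
    (m + 1) (by omega)
  have h4 : (⟨monomial i x, monomial_mem_rees hF hx⟩ : rees hF) *
      ⟨monomial j y, monomial_mem_rees hF hy⟩ =
      ⟨monomial (m + 1) (x * y), monomial_mem_rees hF (hij2 ▸ hF.mul_mem _ _ _ _ hx hy)⟩ := by
    apply Subtype.ext
    change monomial i x * monomial j y = monomial (m + 1) (x * y)
    rw [monomial_mul_monomial, hij2]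
  rw [h4] at h3
  rw [h3, coeff_mul, hres x (hF.mono (by omega) hx), hres y (hF.mono (by omega) hy),
    Finset.sum_eq_single (i, j)]
  · rw [hG1 _ i (by omega), hG1 _ j (by omega)]
    change ψ ((monomial i x).coeff i) * ψ ((monomial j y).coeff j) = _
    rw [coeff_monomial, if_pos rfl, coeff_monomial, if_pos rfl]
  · rintro ⟨a, b⟩ hab hne
    rw [Finset.mem_antidiagonal] at hab
    change a + b = m + 1 at hab
    change (G _).coeff a * (G _).coeff b = 0
    have hne' : a ≠ i := by
      rintro rfl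
      apply hne
      rw [show b = j by omega]
    by_cases ha : a < m + 1
    · rw [hG1 _ a ha]
      change ψ ((monomial i x).coeff a) * _ = 0
      rw [coeff_monomial, if_neg (Ne.symm hne'), hz, zero_mul]
    · rw [hG1 _ b (by omega)]
      change _ * ψ ((monomial j y).coeff b) = 0
      rw [coeff_monomial, if_neg (by omega), hz, mul_zero]
  · intro hn
    exact absurd (Finset.mem_antidiagonal.2 hij2) hn

end Step

/-- **Retractions exist** when the Rees algebra is formally smooth over `R[X]`. -/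
theorem exists_retraction (hF : IsFilt F) (h0 : ∀ x ∈ F 0, ∃ r : R, algebraMap R C r = x)
    (hinj : Function.Injective (algebraMap R C)) (hex : ∀ x : C, ∃ n, x ∈ F n)
    (hs : (reesMap hF).FormallySmooth) : Nonempty (C →ₐ[R] R) := by
  classical
  have hbase : ∃ ψ : C → R, Good F 0 ψ := by
    let ψ : C → R := fun x => if hx : ∃ r : R, algebraMap R C r = x then hx.choose else 0
    have hψ : ∀ r : R, ψ (algebraMap R C r) = r := by
      intro r
      have hx : ∃ r' : R, algebraMap R C r' = algebraMap R C r := ⟨r, rfl⟩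
      change (if hx : ∃ r' : R, algebraMap R C r' = algebraMap R C r then hx.choose else 0) = r
      rw [dif_pos hx]
      exact hinj hx.choose_spec
    refine ⟨ψ, ?_, ?_, ?_, ?_⟩
    · intro x hx y hy
      obtain ⟨r, rfl⟩ := h0 x hx
      obtain ⟨s, rfl⟩ := h0 y hy
      rw [← map_add, hψ, hψ, hψ]
    · intro r x hx
      obtain ⟨s, rfl⟩ := h0 x hx
      rw [Algebra.smul_def, ← map_mul, hψ, hψ]
    · rw [← map_one (algebraMap R C), hψ]
    · intro i j hij x hx y hy
      obtain ⟨rfl, rfl⟩ : i = 0 ∧ j = 0 := by omega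
      obtain ⟨r, rfl⟩ := h0 x hx
      obtain ⟨s, rfl⟩ := h0 y hy
      rw [← map_mul, hψ, hψ, hψ]
  obtain ⟨ψ₀, hψ₀⟩ := hbase
  have hstep : ∀ (m : ℕ) (ψ : {ψ : C → R // Good F m ψ}), ∃ ψ' : {ψ : C → R // Good F (m + 1) ψ},
      ∀ x ∈ F m, ψ'.1 x = ψ.1 x := by
    rintro m ⟨ψ, hψ⟩
    obtain ⟨ψ', h1, h2⟩ := exists_step hF hψ h0 hs
    exact ⟨⟨ψ', h1⟩, h2⟩
  choose nx hnx using hstep
  let sq : ∀ m : ℕ, {ψ : C → R // Good F m ψ} := fun m => Nat.rec ⟨ψ₀, hψ₀⟩ (fun m ψ => nx m ψ) m
  have hsq : ∀ m, ∀ x ∈ F m, (sq (m + 1)).1 x = (sq m).1 x := fun m x hx => hnx m (sq m) x hx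
  have hsq2 : ∀ (m k : ℕ), ∀ x ∈ F m, (sq (m + k)).1 x = (sq m).1 x := by
    intro m k
    induction k with
    | zero => intro x _; rfl
    | succ k ih =>
      intro x hx
      rw [← add_assoc, hsq _ x (hF.mono (by omega) hx), ih x hx]
  let d : C → ℕ := fun x => Nat.find (hex x)
  have hd : ∀ x, x ∈ F (d x) := fun x => Nat.find_spec (hex x)
  let φ : C → R := fun x => (sq (d x)).1 x
  have hφ : ∀ n, ∀ x ∈ F n, φ x = (sq n).1 x := by
    intro n x hx
    have h1 : d x ≤ n := Nat.find_min' (hex x) hx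
    obtain ⟨k, rfl⟩ := Nat.exists_eq_add_of_le h1
    exact (hsq2 _ k x (hd x)).symm
  refine ⟨AlgHom.mk (RingHom.mk (MonoidHom.mk (OneHom.mk φ ?_) ?_) ?_ ?_) ?_⟩
  · change φ 1 = 1
    rw [hφ 0 1 hF.one_mem]
    exact (sq 0).2.one
  · intro x y
    change φ (x * y) = φ x * φ y
    rw [hφ (d x + d y) _ (hF.mul_mem _ _ _ _ (hd x) (hd y)),
      hφ (d x + d y) x (hF.mono (by omega) (hd x)), hφ (d x + d y) y (hF.mono (by omega) (hd y))]
    exact (sq (d x + d y)).2.mul _ _ le_rfl _ (hd x) _ (hd y)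
  · change φ 0 = 0
    rw [hφ 0 0 (zero_mem _)]
    exact (sq 0).2.zero
  · intro x y
    have hx : x ∈ F (d x + d y) := hF.mono (by omega) (hd x)
    have hy : y ∈ F (d x + d y) := hF.mono (by omega) (hd y)
    change φ (x + y) = φ x + φ y
    rw [hφ (d x + d y) _ (add_mem hx hy), hφ (d x + d y) x hx, hφ (d x + d y) y hy]
    exact (sq (d x + d y)).2.add _ hx _ hy
  · intro r
    change φ (algebraMap R C r) = r
    rw [hφ 0 _ (hF.algebraMap_mem 0 r), Algebra.algebraMap_eq_smul_one,
      (sq 0).2.smul _ _ hF.one_mem, (sq 0).2.one, mul_one]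

end Groth.Agent.Sga3B.Par.ReesLift
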