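import Groth.Agent.Sga3B.Par.LRes

/-!
# Relative cocharacters

`H` is a Hopf algebra over `A`, `B` an `A`-algebra. A cocharacter of `Spec (B ⊗ H)` over `B` is
given by a point `l` of `Spec H` with values in `B[T;T⁻¹]`. We work only with points of `Spec H`
with values in `A`-algebras.
-/

set_option autoImplicit false

open LaurentPolynomial TensorProduct WithConv
open Groth.Agent.Books.DynBasic Groth.Agent.Books.DynLim
open Groth.Agent.Sga3B.Par.LRes

universe u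

namespace Groth.Agent.Sga3B.Par.RelCoch742

variable {A : Type u} [CommRing A] {H : Type u} [CommRing H] [HopfAlgebra A H]
variable {B : Type u} [CommRing B] [Algebra A B]
variable {C : Type u} [CommRing C] [Algebra A C]
variable {D : Type u} [CommRing D] [Algebra A D]

section EvL

/-- evaluation of Laurent polynomials at a unit along a ring homomorphism -/
noncomputable def evL (φ : B →ₐ[A] C) (x : Cˣ) : B[T;T⁻¹] →ₐ[A] C :=
  (evR x).comp (AddMonoidAlgebra.mapAlgHom ℤ φ)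

@[simp] lemma evL_C (φ : B →ₐ[A] C) (x : Cˣ) (b : B) : evL φ x (LaurentPolynomial.C b) = φ b := by
  rw [evL, AlgHom.comp_apply, ← single_eq_C, AddMonoidAlgebra.mapAlgHom_single, evR_apply,
    AddMonoidAlgebra.coeff_single, Finsupp.sum_single_index (by simp)]
  simp

@[simp] lemma evL_T (φ : B →ₐ[A] C) (x : Cˣ) (n : ℤ) :
    evL φ x (T n) = ((x ^ n : Cˣ) : C) := by
  rw [evL, AlgHom.comp_apply, T, AddMonoidAlgebra.mapAlgHom_single, evR_apply,
    AddMonoidAlgebra.coeff_single, Finsupp.sum_single_index (by simp), map_one, one_mul]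

variable (B) in
/-- the powers of `T` -/
noncomputable def tM : Multiplicative ℤ →* B[T;T⁻¹] where
  toFun n := T n.toAdd
  map_one' := T_zero
  map_mul' _ _ := T_add _ _

lemma algHom_ext_L {f g : B[T;T⁻¹] →ₐ[A] C} (h1 : ∀ b : B, f (LaurentPolynomial.C b) = g (LaurentPolynomial.C b))
    (h2 : f (T 1) = g (T 1)) : f = g := by
  have h3 : ∀ n : ℤ, f (T n) = g (T n) := by
    have h4 : (f : B[T;T⁻¹] →* C).comp (tM B) = (g : B[T;T⁻¹] →* C).comp (tM B) := by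
      apply MonoidHom.ext_mint
      exact h2
    intro n
    exact DFunLike.congr_fun h4 (Multiplicative.ofAdd n)
  refine AlgHom.ext fun p => ?_
  induction p using LaurentPolynomial.induction_on' with
  | add p q hp hq => rw [map_add, map_add, hp, hq]
  | C_mul_T n b => rw [map_mul, map_mul, h1, h3]

lemma comp_evL (ψ : C →ₐ[A] D) (φ : B →ₐ[A] C) (x : Cˣ) :
    ψ.comp (evL φ x) = evL (ψ.comp φ) (Units.map (ψ : C →* D) x) := by
  apply algHom_ext_L
  · intro b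
    simp
  · rw [AlgHom.comp_apply, evL_T, evL_T]
    simp

lemma evL_id : evL (cst A B) (uT B) = AlgHom.id A B[T;T⁻¹] := by
  apply algHom_ext_L
  · intro b
    rw [evL_C]
    rfl
  · rw [evL_T, uT_zpow]
    rfl

lemma evL_comp_map (φ : B →ₐ[A] C) (ψ : C →ₐ[A] D) (x : Dˣ) :
    (evL ψ x).comp (AddMonoidAlgebra.mapAlgHom ℤ φ) = evL (ψ.comp φ) x := by
  apply algHom_ext_L
  · intro b
    rw [AlgHom.comp_apply, ← single_eq_C, AddMonoidAlgebra.mapAlgHom_single, single_eq_C, evL_C,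
      single_eq_C, evL_C]
    rfl
  · rw [AlgHom.comp_apply, T, AddMonoidAlgebra.mapAlgHom_single, map_one]
    change evL ψ x (T 1) = evL (ψ.comp φ) x (T 1)
    rw [evL_T, evL_T]

end EvL

section Val

/-- The value of the relative cocharacter `l` at the point `x` over `φ`. -/
noncomputable def val (l : WithConv (H →ₐ[A] B[T;T⁻¹])) (φ : B →ₐ[A] C) (x : Cˣ) :
    WithConv (H →ₐ[A] C) := mapPt (evL φ x) l

lemma mapPt_comp' {R S T' : Type u} [CommRing R] [Algebra A R] [CommRing S] [Algebra A S]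
    [CommRing T'] [Algebra A T'] (φ : R →ₐ[A] S) (ψ : S →ₐ[A] T') (g : WithConv (H →ₐ[A] R)) :
    mapPt ψ (mapPt φ g) = mapPt (ψ.comp φ) g := rfl

lemma mapPt_val (ψ : C →ₐ[A] D) (l : WithConv (H →ₐ[A] B[T;T⁻¹])) (φ : B →ₐ[A] C) (x : Cˣ) :
    mapPt ψ (val l φ x) = val l (ψ.comp φ) (Units.map (ψ : C →* D) x) := by
  rw [val, val, mapPt_comp', comp_evL]

lemma val_self (l : WithConv (H →ₐ[A] B[T;T⁻¹])) : val l (cst A B) (uT B) = l := by
  rw [val, evL_id]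
  rfl

/-- `l` is a cocharacter. -/
def IsRC (l : WithConv (H →ₐ[A] B[T;T⁻¹])) : Prop :=
  ∀ (C : Type u) [CommRing C] [Algebra A C] (φ : B →ₐ[A] C) (x y : Cˣ),
    val l φ (x * y) = val l φ x * val l φ y

lemma IsRC.one {l : WithConv (H →ₐ[A] B[T;T⁻¹])} (hl : IsRC l) (φ : B →ₐ[A] C) :
    val l φ 1 = 1 := by
  have h := hl C φ 1 1
  rw [mul_one] at h
  exact left_eq_mul.mp h

lemma IsRC.inv {l : WithConv (H →ₐ[A] B[T;T⁻¹])} (hl : IsRC l) (φ : B →ₐ[A] C) (x : Cˣ) :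
    val l φ x⁻¹ = (val l φ x)⁻¹ := by
  rw [eq_inv_iff_mul_eq_one, ← hl, inv_mul_cancel, hl.one]

/-- The conjugated orbit. -/
noncomputable def orbR (l : WithConv (H →ₐ[A] B[T;T⁻¹])) (φ : B →ₐ[A] C)
    (g : WithConv (H →ₐ[A] C)) : WithConv (H →ₐ[A] C[T;T⁻¹]) :=
  val l ((cst A C).comp φ) (uT C) * mapPt (cst A C) g * (val l ((cst A C).comp φ) (uT C))⁻¹

/-- The limit at `0` of the conjugated orbit exists. -/
def LimExR (l : WithConv (H →ₐ[A] B[T;T⁻¹])) (φ : B →ₐ[A] C) (g : WithConv (H →ₐ[A] C)) : Prop :=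
  ∀ n < 0, ∀ a, ((orbR l φ g).ofConv a).coeff n = 0

/-- The limit at `0` of the conjugated orbit is `1`. -/
def LimOneR (l : WithConv (H →ₐ[A] B[T;T⁻¹])) (φ : B →ₐ[A] C) (g : WithConv (H →ₐ[A] C)) : Prop :=
  LimExR l φ g ∧ ∀ a, ((orbR l φ g).ofConv a).coeff 0 = algebraMap A C (Coalgebra.counit a)

lemma mapPt_orbR (ψ : C →ₐ[A] D) (l : WithConv (H →ₐ[A] B[T;T⁻¹])) (φ : B →ₐ[A] C)
    (g : WithConv (H →ₐ[A] C)) :
    mapPt (AddMonoidAlgebra.mapAlgHom ℤ ψ) (orbR l φ g) = orbR l (ψ.comp φ) (mapPt ψ g) := by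
  have h1 : mapPt (AddMonoidAlgebra.mapAlgHom ℤ ψ) (val l ((cst A C).comp φ) (uT C)) =
      val l ((cst A D).comp (ψ.comp φ)) (uT D) := by
    rw [mapPt_val, map_uT, ← AlgHom.comp_assoc, map_comp_cst, AlgHom.comp_assoc]
  rw [orbR, orbR, map_mul, map_mul, map_inv, h1, mapPt_comp', mapPt_comp', map_comp_cst]

lemma coeff_orbR_mapPt (ψ : C →ₐ[A] D) (l : WithConv (H →ₐ[A] B[T;T⁻¹])) (φ : B →ₐ[A] C)
    (g : WithConv (H →ₐ[A] C)) (a : H) (n : ℤ) :
    ((orbR l (ψ.comp φ) (mapPt ψ g)).ofConv a).coeff n =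
      ψ (((orbR l φ g).ofConv a).coeff n) := by
  rw [← mapPt_orbR, mapPt_apply, AddMonoidAlgebra.coeff_mapAlgHom]

lemma LimExR.map {l : WithConv (H →ₐ[A] B[T;T⁻¹])} {φ : B →ₐ[A] C} {g : WithConv (H →ₐ[A] C)}
    (h : LimExR l φ g) (ψ : C →ₐ[A] D) : LimExR l (ψ.comp φ) (mapPt ψ g) := by
  intro n hn a
  rw [coeff_orbR_mapPt, h n hn a, map_zero]

lemma LimOneR.map {l : WithConv (H →ₐ[A] B[T;T⁻¹])} {φ : B →ₐ[A] C} {g : WithConv (H →ₐ[A] C)}
    (h : LimOneR l φ g) (ψ : C →ₐ[A] D) : LimOneR l (ψ.comp φ) (mapPt ψ g) := by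
  refine ⟨h.1.map ψ, fun a => ?_⟩
  rw [coeff_orbR_mapPt, h.2 a, AlgHom.commutes]

/-- The limit conditions can be tested on a jointly injective family. -/
lemma limExR_of_jointly {ι : Type*} {E : ι → Type u} [∀ i, CommRing (E i)] [∀ i, Algebra A (E i)]
    (ψ : ∀ i, C →ₐ[A] E i) (hψ : ∀ c, (∀ i, ψ i c = 0) → c = 0)
    {l : WithConv (H →ₐ[A] B[T;T⁻¹])} {φ : B →ₐ[A] C} {g : WithConv (H →ₐ[A] C)}
    (h : ∀ i, LimExR l ((ψ i).comp φ) (mapPt (ψ i) g)) : LimExR l φ g := by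
  intro n hn a
  apply hψ
  intro i
  rw [← coeff_orbR_mapPt]
  exact h i n hn a

lemma limOneR_of_jointly {ι : Type*} {E : ι → Type u} [∀ i, CommRing (E i)] [∀ i, Algebra A (E i)]
    (ψ : ∀ i, C →ₐ[A] E i) (hψ : ∀ c, (∀ i, ψ i c = 0) → c = 0)
    {l : WithConv (H →ₐ[A] B[T;T⁻¹])} {φ : B →ₐ[A] C} {g : WithConv (H →ₐ[A] C)}
    (h : ∀ i, LimOneR l ((ψ i).comp φ) (mapPt (ψ i) g)) : LimOneR l φ g := by
  refine ⟨limExR_of_jointly ψ hψ fun i => (h i).1, fun a => ?_⟩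
  rw [← sub_eq_zero]
  apply hψ
  intro i
  rw [map_sub, ← coeff_orbR_mapPt, (h i).2 a, AlgHom.commutes, sub_self]

end Val

section Up

variable [Algebra B C] [IsScalarTower A B C] [Algebra B D] [IsScalarTower A B D]

variable (A B C) in
/-- the structure map -/
noncomputable abbrev am : B →ₐ[A] C := IsScalarTower.toAlgHom A B C

/-- The points of `H` are the points of `B ⊗ H` over `B`. -/
noncomputable def up : WithConv (H →ₐ[A] C) ≃* WithConv (B ⊗[A] H →ₐ[B] C) where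
  toFun := extPt
  invFun := resPt
  left_inv x := resPt_extPt x
  right_inv g := extPt_resPt g
  map_mul' x y := by
    apply resPt_injective
    rw [map_mul, resPt_extPt, resPt_extPt, resPt_extPt]

lemma up_symm_apply (g : WithConv (B ⊗[A] H →ₐ[B] C)) :
    (up (A := A) (H := H) (B := B) (C := C)).symm g = resPt g := rfl

lemma up_apply_tmul (x : WithConv (H →ₐ[A] C)) (b : B) (a : H) :
    (up (B := B) x).ofConv (b ⊗ₜ a) = b • x.ofConv a := extPt_tmul _ _ _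

lemma mapPt_up (ψ : C →ₐ[B] D) (x : WithConv (H →ₐ[A] C)) :
    mapPt ψ (up x) = up (mapPt (ψ.restrictScalars A) x) := by
  apply resPt_injective
  rw [← mapPt_resPt]
  change mapPt (ψ.restrictScalars A) (resPt (extPt x)) = resPt (extPt _)
  rw [resPt_extPt, resPt_extPt]

/-- The underlying algebra map of a relative cocharacter. -/
noncomputable def lamAlg (l : WithConv (H →ₐ[A] B[T;T⁻¹])) : B ⊗[A] H →ₐ[B] B[T;T⁻¹] :=
  (up (B := B) l).ofConv

lemma evU_restrict (x : Cˣ) : (evU B x).restrictScalars A = evL (am A B C) x := by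
  apply algHom_ext_L
  · intro b
    rw [evL_C, AlgHom.restrictScalars_apply, C_eq_algebraMap, AlgHom.commutes]
    rfl
  · rw [evL_T, AlgHom.restrictScalars_apply, evU_T]

lemma mapPt_lamAlg (l : WithConv (H →ₐ[A] B[T;T⁻¹])) (x : Cˣ) :
    toConv ((evU B x).comp (lamAlg l)) = up (val l (am A B C) x) := by
  have h := mapPt_up (evU B x) l
  rw [evU_restrict] at h
  exact h

/-- A relative cocharacter is a morphism of bialgebras. -/
noncomputable def lamOf (l : WithConv (H →ₐ[A] B[T;T⁻¹])) (hl : IsRC l) :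
    B ⊗[A] H →ₐc[B] B[T;T⁻¹] :=
  BialgHom.ofAlgHom (lamAlg l) (by
    have h1 : Bialgebra.counitAlgHom B B[T;T⁻¹] = evU B (1 : Bˣ) := by
      apply algHom_ext_T
      rw [evU_T]
      simp
    have h2 := mapPt_lamAlg l (1 : Bˣ)
    rw [hl.one, map_one] at h2
    rw [h1]
    exact congrArg WithConv.ofConv h2) (by
    have h0 : (Algebra.TensorProduct.map (lamAlg l) (lamAlg l)).comp
        (Bialgebra.comulAlgHom B (B ⊗[A] H)) = (toConv ((Algebra.TensorProduct.includeLeft).comp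
          (lamAlg l)) * toConv ((Algebra.TensorProduct.includeRight).comp
          (lamAlg l)) : WithConv (B ⊗[A] H →ₐ[B] B[T;T⁻¹] ⊗[B] B[T;T⁻¹])).ofConv := by
      refine AlgHom.ext fun a => ?_
      rw [AlgHom.convMul_def]
      change _ = Algebra.TensorProduct.lmul' B (Algebra.TensorProduct.map _ _
        (Bialgebra.comulAlgHom B (B ⊗[A] H) a))
      rw [AlgHom.comp_apply]
      generalize Bialgebra.comulAlgHom B (B ⊗[A] H) a = x
      induction x using TensorProduct.induction_on with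
      | zero => simp
      | tmul x y => simp
      | add x y hx hy => simp only [map_add, hx, hy]
    let uL : (B[T;T⁻¹] ⊗[B] B[T;T⁻¹])ˣ := Units.map
      ((Algebra.TensorProduct.includeLeft : B[T;T⁻¹] →ₐ[B] B[T;T⁻¹] ⊗[B] B[T;T⁻¹]) :
        B[T;T⁻¹] →* B[T;T⁻¹] ⊗[B] B[T;T⁻¹]) (uT B)
    let uR : (B[T;T⁻¹] ⊗[B] B[T;T⁻¹])ˣ := Units.map
      ((Algebra.TensorProduct.includeRight : B[T;T⁻¹] →ₐ[B] B[T;T⁻¹] ⊗[B] B[T;T⁻¹]) :
        B[T;T⁻¹] →* B[T;T⁻¹] ⊗[B] B[T;T⁻¹]) (uT B)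
    have hT1 : ((uT B : B[T;T⁻¹]ˣ) : B[T;T⁻¹]) = T 1 := by
      have := uT_zpow (R := B) 1
      rwa [zpow_one] at this
    have eL : (Algebra.TensorProduct.includeLeft : B[T;T⁻¹] →ₐ[B] B[T;T⁻¹] ⊗[B] B[T;T⁻¹]) =
        evU B uL := by
      apply algHom_ext_T
      rw [evU_T, zpow_one]
      change _ = (Algebra.TensorProduct.includeLeft :
          B[T;T⁻¹] →ₐ[B] B[T;T⁻¹] ⊗[B] B[T;T⁻¹]) ((uT B : B[T;T⁻¹]ˣ) : B[T;T⁻¹])
      rw [hT1]
    have eR : (Algebra.TensorProduct.includeRight : B[T;T⁻¹] →ₐ[B] B[T;T⁻¹] ⊗[B] B[T;T⁻¹]) =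
        evU B uR := by
      apply algHom_ext_T
      rw [evU_T, zpow_one]
      change _ = (Algebra.TensorProduct.includeRight :
          B[T;T⁻¹] →ₐ[B] B[T;T⁻¹] ⊗[B] B[T;T⁻¹]) ((uT B : B[T;T⁻¹]ˣ) : B[T;T⁻¹])
      rw [hT1]
    have eC : (Bialgebra.comulAlgHom B B[T;T⁻¹]) = evU B (uL * uR) := by
      apply algHom_ext_T
      rw [evU_T, zpow_one, Units.val_mul]
      change _ = (Algebra.TensorProduct.includeLeft :
          B[T;T⁻¹] →ₐ[B] B[T;T⁻¹] ⊗[B] B[T;T⁻¹]) ((uT B : B[T;T⁻¹]ˣ) : B[T;T⁻¹]) *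
        (Algebra.TensorProduct.includeRight :
          B[T;T⁻¹] →ₐ[B] B[T;T⁻¹] ⊗[B] B[T;T⁻¹]) ((uT B : B[T;T⁻¹]ˣ) : B[T;T⁻¹])
      rw [hT1]
      change Coalgebra.comul (R := B) (T 1 : B[T;T⁻¹]) = _
      rw [LaurentPolynomial.comul_T]
      simp
    rw [h0, eL, eR, eC, mapPt_lamAlg, mapPt_lamAlg, ← map_mul, ← hl, ← mapPt_lamAlg])

lemma lamOf_coe (l : WithConv (H →ₐ[A] B[T;T⁻¹])) (hl : IsRC l) :
    (lamOf l hl : B ⊗[A] H →ₐ[B] B[T;T⁻¹]) = lamAlg l := rfl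

lemma lamU_lamOf (l : WithConv (H →ₐ[A] B[T;T⁻¹])) (hl : IsRC l) (x : Cˣ) :
    lamU (lamOf l hl) x = up (val l (am A B C) x) := mapPt_lamAlg l x

end Up

end Groth.Agent.Sga3B.Par.RelCoch742
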